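import Mathlib
import Cfsg.Prelude.Def_Solvable
import Cfsg.Prelude.Def_CaseTheorems

/-!
The Fitting subgroup of a finite group: nilpotent, characteristic, contains every nilpotent
subnormal subgroup.
-/

namespace Cfsg.Agent.Components

open Subgroup
set_option linter.style.haveILetI false

variable {G : Type*} [Group G]

theorem le_pCore {p : ℕ} {N : Subgroup G} (hN : N.Normal) (hp : IsPGroup p N) :
    N ≤ Cfsg.pCore p G :=
  le_sSup ⟨hN, hp⟩

theorem isPGroup_pCore [Finite G] (p : ℕ) [Fact p.Prime] : IsPGroup p (Cfsg.pCore p G) := by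
  obtain ⟨S⟩ : Nonempty (Sylow p G) := inferInstance
  refine IsPGroup.to_le S.isPGroup' (sSup_le ?_)
  rintro N ⟨hN, hp⟩
  exact hp.le_sylow_of_normal S

/-- A subgroup containing a Sylow `p`-subgroup for every prime is everything. -/
theorem eq_top_of_forall_sylow [Finite G] (T : Subgroup G)
    (h : ∀ (p : ℕ) [Fact p.Prime], ∃ P : Sylow p G, (P : Subgroup G) ≤ T) : T = ⊤ := by
  rw [← Subgroup.index_eq_one]
  by_contra hne
  obtain ⟨p, hp, hdvd⟩ := Nat.exists_prime_and_dvd hne
  haveI := Fact.mk hp
  obtain ⟨P, hP⟩ := h p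
  exact P.not_dvd_index (hdvd.trans (Subgroup.index_dvd_of_le hP))

theorem pCore_le_fitting [Finite G] (p : ℕ) [Fact p.Prime] :
    Cfsg.pCore p G ≤ Cfsg.fittingSubgroup G :=
  le_sSup ⟨inferInstance, (isPGroup_pCore p).isNilpotent⟩

theorem nilpotent_normal_le_iSup_pCore [Finite G] (N : Subgroup G) [N.Normal]
    (hN : Group.IsNilpotent N) :
    N ≤ ⨆ p : (Nat.card G).primeFactors, Cfsg.pCore (p : ℕ) G := by
  have key : (⨆ p : (Nat.card G).primeFactors, Cfsg.pCore (p : ℕ) G).subgroupOf N = ⊤ := by
    refine eq_top_of_forall_sylow _ fun p _ => ?_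
    obtain ⟨P⟩ : Nonempty (Sylow p N) := inferInstance
    refine ⟨P, ?_⟩
    by_cases hbot : (P : Subgroup N) = ⊥
    · simp [hbot]
    have hpG : p ∈ (Nat.card G).primeFactors := by
      refine Nat.mem_primeFactors.mpr ⟨Fact.out, ?_, Nat.card_pos.ne'⟩
      exact ((P.dvd_card_of_dvd_card (p := p)) (by
        by_contra hnd
        exact hbot (Subgroup.card_eq_one.mp (by
          rw [P.card_eq_multiplicity, Nat.factorization_eq_zero_of_not_dvd hnd, pow_zero])))).trans
        ((Subgroup.card_subgroup_dvd_card _).trans (Subgroup.card_subgroup_dvd_card N))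
    haveI : (P : Subgroup N).Characteristic := P.characteristic_of_normal inferInstance
    have h1 : (P : Subgroup N).map N.subtype ≤ Cfsg.pCore p G :=
      le_pCore inferInstance (P.isPGroup'.map _)
    refine Subgroup.map_le_iff_le_comap.mp ?_
    exact h1.trans (le_iSup (fun q : (Nat.card G).primeFactors => Cfsg.pCore (q : ℕ) G) ⟨p, hpG⟩)
  exact Subgroup.subgroupOf_eq_top.mp key

theorem fitting_eq_iSup_pCore [Finite G] :
    Cfsg.fittingSubgroup G = ⨆ p : (Nat.card G).primeFactors, Cfsg.pCore (p : ℕ) G := by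
  refine le_antisymm (sSup_le ?_) (iSup_le fun p => ?_)
  · rintro N ⟨hN, hnil⟩
    exact nilpotent_normal_le_iSup_pCore N hnil
  · haveI := Fact.mk (Nat.prime_of_mem_primeFactors p.2)
    exact pCore_le_fitting _

instance fitting_normal : (Cfsg.fittingSubgroup G).Normal :=
  Subgroup.sSup_normal _ (fun _ h => h.1)

instance fitting_isNilpotent [Finite G] : Group.IsNilpotent (Cfsg.fittingSubgroup G) := by
  rw [fitting_eq_iSup_pCore]
  haveI hf : ∀ p : (Nat.card G).primeFactors, Fact (p : ℕ).Prime :=
    fun p => ⟨Nat.prime_of_mem_primeFactors p.2⟩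
  have hcomm : Pairwise fun i j : (Nat.card G).primeFactors =>
      ∀ x y : G, x ∈ Cfsg.pCore (i : ℕ) G → y ∈ Cfsg.pCore (j : ℕ) G → Commute x y := by
    intro i j hij x y hx hy
    exact Subgroup.commute_of_normal_of_disjoint _ _ inferInstance inferInstance
      (IsPGroup.disjoint_of_ne (i : ℕ) (j : ℕ) (fun h => hij (Subtype.ext h)) _ _
        (isPGroup_pCore (i : ℕ)) (isPGroup_pCore (j : ℕ))) x y hx hy
  rw [← Subgroup.noncommPiCoprod_range (hcomm := hcomm)]
  haveI : ∀ p : (Nat.card G).primeFactors, Group.IsNilpotent (Cfsg.pCore (p : ℕ) G) :=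
    fun p => (isPGroup_pCore (p : ℕ)).isNilpotent
  exact Group.nilpotent_of_surjective _ (MonoidHom.rangeRestrict_surjective _)

theorem normal_nilpotent_le_fitting {N : Subgroup G} (hN : N.Normal)
    (h : Group.IsNilpotent N) : N ≤ Cfsg.fittingSubgroup G :=
  le_sSup ⟨hN, h⟩

theorem map_fitting_le {H : Type*} [Group H] [Finite G] (f : G →* H)
    (hf : Function.Surjective f) :
    (Cfsg.fittingSubgroup G).map f ≤ Cfsg.fittingSubgroup H :=
  normal_nilpotent_le_fitting (Subgroup.Normal.map inferInstance f hf)
    (Group.nilpotent_of_surjective (f.subgroupMap (Cfsg.fittingSubgroup G))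
      (f.subgroupMap_surjective _))

theorem map_equiv_fitting {H : Type*} [Group H] [Finite G] [Finite H] (e : G ≃* H) :
    (Cfsg.fittingSubgroup G).map e.toMonoidHom = Cfsg.fittingSubgroup H := by
  refine le_antisymm (map_fitting_le _ e.surjective) ?_
  intro x hx
  exact ⟨e.symm x, map_fitting_le e.symm.toMonoidHom e.symm.surjective ⟨x, hx, rfl⟩, by simp⟩

instance fitting_characteristic [Finite G] : (Cfsg.fittingSubgroup G).Characteristic :=
  Subgroup.characteristic_iff_map_eq.mpr fun φ => map_equiv_fitting φ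

theorem isNilpotent_map {H : Type*} [Group H] (f : G →* H) (K : Subgroup G)
    (hK : Group.IsNilpotent K) : Group.IsNilpotent (K.map f) :=
  Group.nilpotent_of_surjective (f.subgroupMap K) (f.subgroupMap_surjective K)

theorem isNilpotent_of_le {K L : Subgroup G} (hL : Group.IsNilpotent L) (h : K ≤ L) :
    Group.IsNilpotent K :=
  Group.nilpotent_of_mulEquiv (Subgroup.subgroupOfEquivOfLe h)

/-- Fitting subgroup of a subgroup, as a subgroup of the whole group. -/
theorem map_fitting_isNilpotent [Finite G] (K : Subgroup G) :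
    Group.IsNilpotent ((Cfsg.fittingSubgroup K).map K.subtype) :=
  isNilpotent_map _ _ inferInstance

/-- A nilpotent subnormal subgroup lies in the Fitting subgroup. -/
theorem subnormal_nilpotent_le_fitting [Finite G] {H : Subgroup G} (hH : H.IsSubnormal)
    (h : Group.IsNilpotent H) : H ≤ Cfsg.fittingSubgroup G := by
  suffices ∀ K : Subgroup G, K.IsSubnormal →
      (Cfsg.fittingSubgroup K).map K.subtype ≤ Cfsg.fittingSubgroup G from
    (le_of_eq (by
      have : Cfsg.fittingSubgroup H = ⊤ :=
        top_le_iff.mp (normal_nilpotent_le_fitting inferInstance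
          (Group.isNilpotent_top.mpr h))
      rw [this, ← MonoidHom.range_eq_map, Subgroup.range_subtype])).trans
      (this H hH)
  intro K hK
  induction hK with
  | top =>
    exact normal_nilpotent_le_fitting
      (Subgroup.Normal.map inferInstance _ fun g => ⟨⟨g, trivial⟩, rfl⟩) (map_fitting_isNilpotent _)
  | step A B hle _ hN ih =>
    haveI : (A.subgroupOf B).Normal := hN
    refine le_trans ?_ ih
    let e := Subgroup.subgroupOfEquivOfLe hle
    have h2 : (Cfsg.fittingSubgroup (A.subgroupOf B)).map (A.subgroupOf B).subtype ≤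
        Cfsg.fittingSubgroup B :=
      normal_nilpotent_le_fitting inferInstance (map_fitting_isNilpotent _)
    rw [← map_equiv_fitting e, Subgroup.map_map]
    have h3 := Subgroup.map_mono (f := B.subtype) h2
    rw [Subgroup.map_map] at h3
    exact h3

/-- `F(K) = F(G) ⊓ K` for a subnormal subgroup `K`. -/
theorem fitting_subnormal [Finite G] {K : Subgroup G} (hK : K.IsSubnormal) :
    (Cfsg.fittingSubgroup K).map K.subtype = Cfsg.fittingSubgroup G ⊓ K := by
  refine le_antisymm (le_inf ?_ (Subgroup.map_subtype_le _)) ?_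
  · refine subnormal_nilpotent_le_fitting ?_ (map_fitting_isNilpotent _)
    exact Subgroup.IsSubnormal.trans' (Subgroup.Normal.isSubnormal inferInstance) hK
  · have h1 : (Cfsg.fittingSubgroup G).subgroupOf K ≤ Cfsg.fittingSubgroup K := by
      refine normal_nilpotent_le_fitting inferInstance ?_
      have : Group.IsNilpotent (Cfsg.fittingSubgroup G ⊓ K : Subgroup G) :=
        isNilpotent_of_le inferInstance inf_le_left
      rw [← Subgroup.inf_subgroupOf_right]
      exact (Group.isNilpotent_congr (Subgroup.subgroupOfEquivOfLe inf_le_right)).mpr this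
    have := Subgroup.map_mono (f := K.subtype) h1
    rwa [Subgroup.subgroupOf_map_subtype] at this

theorem fitting_eq_top_iff [Finite G] : Cfsg.fittingSubgroup G = ⊤ ↔ Group.IsNilpotent G := by
  constructor
  · intro h
    have : Group.IsNilpotent (⊤ : Subgroup G) := h ▸ fitting_isNilpotent
    exact Group.isNilpotent_top.mp this
  · intro h
    exact top_le_iff.mp (normal_nilpotent_le_fitting inferInstance (Group.isNilpotent_top.mpr h))

end Cfsg.Agent.Components
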