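import Mathlib
import Cfsg.Prelude.Def_Local
import Cfsg.Agent.Components.Fitting

/-!
Three subgroups lemma forms, quasisimple groups, components, the layer, the generalized Fitting
subgroup.
-/

namespace Cfsg.Agent.Components

set_option linter.style.haveILetI false

variable {G : Type*} [Group G] {H : Type*} [Group H]

/-! ### Commutator lemmas -/

/-- Three subgroups lemma: if `L` is perfect and `[[L,K],L] = 1`, then `[L,K] = 1`. -/
theorem commutator_eq_bot_of_perfect {L K : Subgroup G} (hL : ⁅L, L⁆ = L)
    (h : ⁅⁅L, K⁆, L⁆ = ⊥) : ⁅L, K⁆ = ⊥ := by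
  have h' : ⁅⁅K, L⁆, L⁆ = ⊥ := by rwa [Subgroup.commutator_comm K L]
  have := Subgroup.commutator_commutator_eq_bot_of_rotate (H₁ := L) (H₂ := L) (H₃ := K) h h'
  rwa [hL] at this

theorem commutator_eq_bot_of_perfect' {L K : Subgroup G} (hL : ⁅L, L⁆ = L)
    (h : ⁅⁅K, L⁆, L⁆ = ⊥) : ⁅K, L⁆ = ⊥ := by
  rw [Subgroup.commutator_comm]
  exact commutator_eq_bot_of_perfect hL (by rwa [Subgroup.commutator_comm L K])

/-- `[[A,A],K] = 1` if `[[A,K],A] = 1`. -/
theorem commutator_derived_eq_bot {A K : Subgroup G} (h : ⁅⁅A, K⁆, A⁆ = ⊥) :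
    ⁅⁅A, A⁆, K⁆ = ⊥ :=
  Subgroup.commutator_commutator_eq_bot_of_rotate h (by rwa [Subgroup.commutator_comm K A])

theorem commutator_le_of_le_normalizer {A B : Subgroup G}
    (h : A ≤ Subgroup.normalizer (B : Set G)) : ⁅A, B⁆ ≤ B :=
  Subgroup.le_normalizer_iff_commutator_le_right.mp h

theorem le_normalizer_of_normal_subgroupOf {A B : Subgroup G} (hle : A ≤ B)
    (hn : (A.subgroupOf B).Normal) : B ≤ Subgroup.normalizer (A : Set G) :=
  (Subgroup.normal_subgroupOf_iff_le_normalizer hle).mp hn

theorem le_normalizer_of_normal {A : Subgroup G} [A.Normal] (B : Subgroup G) :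
    B ≤ Subgroup.normalizer (A : Set G) := by
  simp [Subgroup.normalizer_eq_top]

/-- Elements of two commuting subgroups commute. -/
theorem commute_of_commutator_eq_bot {A B : Subgroup G} (h : ⁅A, B⁆ = ⊥) {a b : G}
    (ha : a ∈ A) (hb : b ∈ B) : a * b = b * a :=
  (Subgroup.mem_centralizer_iff.mp
    (Subgroup.commutator_eq_bot_iff_le_centralizer.mp h ha) b hb).symm

theorem le_normalizer_of_commutator_eq_bot {A B : Subgroup G} (h : ⁅A, B⁆ = ⊥) :
    A ≤ Subgroup.normalizer (B : Set G) :=
  Subgroup.le_normalizer_iff_commutator_le_right.mpr (h ▸ bot_le)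

theorem map_subgroupOf {A B : Subgroup G} (h : A ≤ B) : (A.subgroupOf B).map B.subtype = A :=
  Subgroup.map_subgroupOf_eq_of_le h

theorem map_subtype_centralizer (T : Subgroup G) (A : Subgroup T) :
    (Subgroup.centralizer (A : Set T)).map T.subtype =
      Subgroup.centralizer ((A.map T.subtype : Subgroup G) : Set G) ⊓ T := by
  ext x
  simp only [Subgroup.mem_map, Subgroup.mem_inf, Subgroup.mem_centralizer_iff, SetLike.mem_coe]
  constructor
  · rintro ⟨y, hy, rfl⟩
    refine ⟨?_, y.2⟩
    rintro z ⟨w, hw, rfl⟩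
    exact congrArg Subtype.val (hy w hw)
  · rintro ⟨h, hxT⟩
    exact ⟨⟨x, hxT⟩, fun w hw => Subtype.ext (h _ ⟨w, hw, rfl⟩), rfl⟩

/-! ### Subnormal subgroups -/

theorem isSubnormal_map_subtype {T : Subgroup G} {A : Subgroup T} (hA : A.IsSubnormal)
    (hT : T.IsSubnormal) : (A.map T.subtype).IsSubnormal :=
  hA.trans' hT

theorem isSubnormal_conj {A : Subgroup G} (hA : A.IsSubnormal) (g : G) :
    (A.map (MulAut.conj g).toMonoidHom).IsSubnormal :=
  hA.map (MulAut.conj g).surjective

theorem isSubnormal_map_equiv {A : Subgroup G} (e : G ≃* H) (hA : A.IsSubnormal) :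
    (A.map e.toMonoidHom).IsSubnormal :=
  hA.map e.surjective

/-! ### Quasisimple groups -/

theorem qs_isPerfect (h : Cfsg.IsQuasisimple G) : Group.IsPerfect G := h.1

theorem qs_nontrivial (h : Cfsg.IsQuasisimple G) : Nontrivial G := by
  haveI := h.2
  exact (QuotientGroup.mk'_surjective (Subgroup.center G)).nontrivial

theorem qs_center_ne_top (h : Cfsg.IsQuasisimple G) : Subgroup.center G ≠ ⊤ := by
  intro htop
  haveI := h.2
  obtain ⟨x, hx⟩ := exists_ne (1 : G ⧸ Subgroup.center G)
  induction x using QuotientGroup.induction_on with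
  | H y => exact hx ((QuotientGroup.eq_one_iff y).mpr (htop ▸ trivial))

theorem qs_not_isSolvable (h : Cfsg.IsQuasisimple G) : ¬ Group.IsSolvable G := by
  haveI := qs_nontrivial h
  haveI := h.1
  exact Group.IsPerfect.not_isSolvable G

theorem qs_quotient_not_comm (h : Cfsg.IsQuasisimple G) :
    ¬ IsMulCommutative (G ⧸ Subgroup.center G) := by
  haveI := h.1
  haveI := h.2
  exact Group.IsPerfect.not_isMulCommutative _

/-- A proper normal subgroup of a quasisimple group is central. -/
theorem qs_normal_le_center (h : Cfsg.IsQuasisimple G) (N : Subgroup G) [N.Normal]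
    (hN : N ≠ ⊤) : N ≤ Subgroup.center G := by
  haveI := h.2
  rcases (Subgroup.Normal.map (inferInstance : N.Normal) _
      (QuotientGroup.mk'_surjective (Subgroup.center G))).eq_bot_or_eq_top with hb | ht
  · rwa [Subgroup.map_eq_bot_iff, QuotientGroup.ker_mk'] at hb
  · exfalso
    apply hN
    have hsup : N ⊔ Subgroup.center G = ⊤ := by
      have := congrArg (Subgroup.comap (QuotientGroup.mk' (Subgroup.center G))) ht
      rwa [Subgroup.comap_map_eq, QuotientGroup.ker_mk', Subgroup.comap_top] at this
    have hc : (commutator G : Subgroup G) ≤ N := by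
      rw [commutator_def, Subgroup.commutator_le]
      intro a _ b _
      obtain ⟨n, hn, z, hz, rfl⟩ := Subgroup.mem_sup_of_normal_left.mp
        (show a ∈ N ⊔ Subgroup.center G by rw [hsup]; trivial)
      rw [commutatorElement_mul_left_eq_conj_mul,
        commutatorElement_eq_one_iff_mul_comm.mpr (Subgroup.mem_center_iff.mp hz b).symm]
      simp only [mul_one, mul_inv_cancel, one_mul]
      exact Subgroup.commutator_le_left N ⊤
        (Subgroup.commutator_mem_commutator hn (Subgroup.mem_top b))
    rw [h.1.commutator_eq_top] at hc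
    exact top_le_iff.mp hc

/-- A subnormal subgroup of a quasisimple group is everything or central. -/
theorem qs_subnormal (h : Cfsg.IsQuasisimple G) {A : Subgroup G} (hA : A.IsSubnormal) :
    A = ⊤ ∨ A ≤ Subgroup.center G := by
  rcases hA.lt_normal with h1 | ⟨K, hK, hle, hlt⟩
  · exact Or.inl h1
  · exact Or.inr (hle.trans (qs_normal_le_center h K hlt.ne))

theorem map_center_equiv (e : G ≃* H) :
    (Subgroup.center G).map e.toMonoidHom = Subgroup.center H := by
  ext x
  simp only [Subgroup.mem_map, Subgroup.mem_center_iff]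
  constructor
  · rintro ⟨y, hy, rfl⟩ z
    obtain ⟨w, rfl⟩ := e.surjective z
    simpa using congrArg e (hy w)
  · exact fun hx => ⟨e.symm x, fun z => by simpa using congrArg e.symm (hx (e z)), by simp⟩

theorem qs_congr (e : G ≃* H) (h : Cfsg.IsQuasisimple G) : Cfsg.IsQuasisimple H := by
  haveI := h.1
  haveI := h.2
  exact ⟨Group.IsPerfect.ofSurjective (f := e.toMonoidHom) e.surjective,
    (QuotientGroup.congr _ _ e (map_center_equiv e)).symm.isSimpleGroup⟩

theorem qs_congr_iff (e : G ≃* H) : Cfsg.IsQuasisimple G ↔ Cfsg.IsQuasisimple H :=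
  ⟨qs_congr e, qs_congr e.symm⟩

theorem qs_top_iff : Cfsg.IsQuasisimple (⊤ : Subgroup G) ↔ Cfsg.IsQuasisimple G :=
  qs_congr_iff Subgroup.topEquiv

/-- A nontrivial homomorphic image of a quasisimple group is quasisimple. -/
theorem qs_of_surjective (h : Cfsg.IsQuasisimple G) [Nontrivial H] (f : G →* H)
    (hf : Function.Surjective f) : Cfsg.IsQuasisimple H := by
  haveI := h.1
  haveI := h.2
  haveI hp : Group.IsPerfect H := Group.IsPerfect.ofSurjective hf
  have hk : f.ker ≤ Subgroup.center G := by
    refine qs_normal_le_center h _ fun ht => ?_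
    obtain ⟨x, hx⟩ := exists_ne (1 : H)
    obtain ⟨y, rfl⟩ := hf x
    exact hx (MonoidHom.mem_ker.mp (ht.symm ▸ trivial))
  have hcz : Subgroup.center H ≠ ⊤ := by
    intro ht
    have hc : IsMulCommutative H :=
      ⟨⟨fun a b => (Subgroup.mem_center_iff.mp (ht ▸ trivial : b ∈ Subgroup.center H) a)⟩⟩
    exact Group.IsPerfect.not_isMulCommutative H hc
  have hpre : (Subgroup.center H).comap f = Subgroup.center G := by
    refine le_antisymm (qs_normal_le_center h _ fun ht => hcz ?_) ?_
    · rw [← Subgroup.map_comap_eq_self_of_surjective hf (Subgroup.center H), ht,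
        Subgroup.map_top_of_surjective f hf]
    · intro x hx
      rw [Subgroup.mem_comap, Subgroup.mem_center_iff]
      intro z
      obtain ⟨w, rfl⟩ := hf z
      rw [← map_mul, ← map_mul, Subgroup.mem_center_iff.mp hx w]
  refine ⟨hp, ?_⟩
  let g : G ⧸ Subgroup.center G →* H ⧸ Subgroup.center H :=
    QuotientGroup.map _ _ f hpre.ge
  haveI : Nontrivial (H ⧸ Subgroup.center H) := QuotientGroup.nontrivial_iff.mpr hcz
  exact IsSimpleGroup.isSimpleGroup_of_surjective g
    (QuotientGroup.map_surjective_of_surjective _ _ _ (fun y => by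
      induction y using QuotientGroup.induction_on with
      | H z =>
        obtain ⟨w, rfl⟩ := hf z
        exact ⟨w, rfl⟩) hpre.ge)

/-- The proper normal subgroups being central makes a perfect group quasisimple. -/
theorem qs_of_perfect (hp : Group.IsPerfect G) [Nontrivial G]
    (h : ∀ N : Subgroup G, N.Normal → N ≠ ⊤ → N ≤ Subgroup.center G) :
    Cfsg.IsQuasisimple G := by
  have hcz : Subgroup.center G ≠ ⊤ := fun ht =>
    Group.IsPerfect.not_isMulCommutative G
      ⟨⟨fun a b => (Subgroup.mem_center_iff.mp (ht ▸ trivial : b ∈ Subgroup.center G) a)⟩⟩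
  haveI : Nontrivial (G ⧸ Subgroup.center G) := QuotientGroup.nontrivial_iff.mpr hcz
  refine ⟨hp, ⟨fun M hM => ?_⟩⟩
  have hs := QuotientGroup.mk'_surjective (Subgroup.center G)
  by_cases hc : M.comap (QuotientGroup.mk' (Subgroup.center G)) = ⊤
  · right
    rw [← Subgroup.map_comap_eq_self_of_surjective hs M, hc, Subgroup.map_top_of_surjective _ hs]
  · left
    rw [← Subgroup.map_comap_eq_self_of_surjective hs M, Subgroup.map_eq_bot_iff,
      QuotientGroup.ker_mk']
    exact h _ (hM.comap _) hc

/-! ### Quasisimple subgroups -/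

theorem qsSub_perfect {L : Subgroup G} (h : Cfsg.IsQuasisimple L) : ⁅L, L⁆ = L :=
  Subgroup.isPerfect_iff.mp h.1

theorem qsSub_ne_bot {L : Subgroup G} (h : Cfsg.IsQuasisimple L) : L ≠ ⊥ :=
  Subgroup.nontrivial_iff_ne_bot L |>.mp (qs_nontrivial h)

theorem qsSub_not_le_of_isSolvable {L A : Subgroup G} (h : Cfsg.IsQuasisimple L)
    (hA : Group.IsSolvable A) : ¬ L ≤ A := fun hle =>
  qs_not_isSolvable h
    (Group.isSolvable_of_isSolvable_injective (Subgroup.inclusion_injective hle))

/-- A subgroup of a quasisimple subgroup, normalized by it, is all of it or centralized by it. -/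
theorem qsSub_normal {L N : Subgroup G} (h : Cfsg.IsQuasisimple L)
    (hn : L ≤ Subgroup.normalizer (N : Set G)) : L ≤ N ∨ ⁅L, L ⊓ N⁆ = ⊥ := by
  haveI : ((L ⊓ N).subgroupOf L).Normal := by
    rw [Subgroup.inf_subgroupOf_left]
    exact Subgroup.normal_subgroupOf_iff_le_normalizer_inf.mpr (le_trans
      (le_inf Subgroup.le_normalizer hn)
      (by rw [inf_comm (a := N)]; exact Subgroup.inf_normalizer_le_normalizer_inf))
  by_cases ht : (L ⊓ N).subgroupOf L = ⊤
  · exact Or.inl ((Subgroup.subgroupOf_eq_top.mp ht).trans inf_le_right)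
  · right
    have := qs_normal_le_center h _ ht
    rw [← Subgroup.commutator_top_left_eq_bot_iff_le_center] at this
    have h2 := congrArg (Subgroup.map L.subtype) this
    rwa [Subgroup.map_commutator, ← MonoidHom.range_eq_map, Subgroup.range_subtype,
      map_subgroupOf inf_le_left, Subgroup.map_bot] at h2

/-! ### Components -/

theorem component_subnormal {L : Subgroup G} (h : Cfsg.IsComponent L) : L.IsSubnormal := h.1

theorem component_qs {L : Subgroup G} (h : Cfsg.IsComponent L) : Cfsg.IsQuasisimple L := h.2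

theorem component_perfect {L : Subgroup G} (h : Cfsg.IsComponent L) : ⁅L, L⁆ = L :=
  qsSub_perfect h.2

theorem component_map_iff {K : Subgroup G} {L : Subgroup K} (hK : K.IsSubnormal) :
    Cfsg.IsComponent L ↔ Cfsg.IsComponent (L.map K.subtype) := by
  have e := L.equivMapOfInjective K.subtype K.subtype_injective
  constructor
  · exact fun h => ⟨h.1.trans' hK, qs_congr e h.2⟩
  · intro h
    refine ⟨?_, qs_congr e.symm h.2⟩
    have := h.1.comap K.subtype
    rwa [Subgroup.comap_map_eq_self_of_injective K.subtype_injective] at this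

theorem component_subgroupOf_iff {K L : Subgroup G} (hK : K.IsSubnormal) (hle : L ≤ K) :
    Cfsg.IsComponent (L.subgroupOf K) ↔ Cfsg.IsComponent L := by
  rw [component_map_iff hK, map_subgroupOf hle]

/-- Being a component of the whole gives being a component of any overgroup. -/
theorem component_subgroupOf {K L : Subgroup G} (hL : Cfsg.IsComponent L) (hle : L ≤ K) :
    Cfsg.IsComponent (L.subgroupOf K) :=
  ⟨hL.1.subgroupOf, qs_congr (Subgroup.subgroupOfEquivOfLe hle).symm hL.2⟩

theorem component_map_equiv {L : Subgroup G} (e : G ≃* H) (h : Cfsg.IsComponent L) :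
    Cfsg.IsComponent (L.map e.toMonoidHom) :=
  ⟨isSubnormal_map_equiv e h.1,
    qs_congr (L.equivMapOfInjective e.toMonoidHom e.injective) h.2⟩

theorem component_conj {L : Subgroup G} (h : Cfsg.IsComponent L) (g : G) :
    Cfsg.IsComponent (L.map (MulAut.conj g).toMonoidHom) :=
  component_map_equiv (MulAut.conj g) h

/-- A component, against a normal subgroup of an overgroup. -/
theorem component_le_or_commutator_eq_bot_aux {L T : Subgroup G} (hqs : Cfsg.IsQuasisimple L)
    (hle : L ≤ T) :
    ∀ {A : Subgroup T}, A.IsSubnormal → A = L.subgroupOf T →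
      ∀ N : Subgroup G, N ≤ T → T ≤ Subgroup.normalizer (N : Set G) → L ≤ N ∨ ⁅L, N⁆ = ⊥ := by
  intro A hA
  -- descend along the chain from `T` to `L`
  suffices ∀ B : Subgroup T, B.IsSubnormal → L.subgroupOf T ≤ B →
      ((∀ N : Subgroup G, N ≤ B.map T.subtype →
          B.map T.subtype ≤ Subgroup.normalizer (N : Set G) → L ≤ N ∨ ⁅L, N⁆ = ⊥) →
        ∀ N : Subgroup G, N ≤ T → T ≤ Subgroup.normalizer (N : Set G) → L ≤ N ∨ ⁅L, N⁆ = ⊥) by
    intro hAL
    refine this A hA hAL.ge ?_
    subst hAL
    rw [map_subgroupOf hle]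
    intro N hN hnorm
    rcases qsSub_normal hqs hnorm with h | h
    · exact Or.inl h
    · rw [inf_eq_right.mpr hN] at h
      exact Or.inr h
  intro B hB
  induction hB with
  | top =>
    intro _ h
    rwa [← MonoidHom.range_eq_map, Subgroup.range_subtype] at h
  | step B C hBC _ hn ih =>
    intro hLB h
    refine ih (hLB.trans hBC) fun N hN hnorm => ?_
    have hLB' : L ≤ B.map T.subtype := map_subgroupOf hle ▸ Subgroup.map_mono hLB
    have hBC' : B.map T.subtype ≤ C.map T.subtype := Subgroup.map_mono hBC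
    have hnB : C.map T.subtype ≤ Subgroup.normalizer ((B.map T.subtype : Subgroup G) : Set G) :=
      (Subgroup.map_mono (le_normalizer_of_normal_subgroupOf hBC hn)).trans
        (Subgroup.le_normalizer_map _)
    rcases h (B.map T.subtype ⊓ N) inf_le_left
        ((le_inf Subgroup.le_normalizer (hBC'.trans hnorm)).trans
          Subgroup.inf_normalizer_le_normalizer_inf) with hl | hl
    · exact Or.inl (hl.trans inf_le_right)
    · right
      apply commutator_eq_bot_of_perfect (qsSub_perfect hqs)
      rw [eq_bot_iff, ← hl, Subgroup.commutator_comm L (_ ⊓ _)]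
      refine Subgroup.commutator_mono (le_inf ?_ ?_) le_rfl
      · refine (Subgroup.commutator_mono hLB' hN).trans ?_
        rw [Subgroup.commutator_comm]
        exact commutator_le_of_le_normalizer hnB
      · exact commutator_le_of_le_normalizer ((hLB'.trans hBC').trans hnorm)

/-- A quasisimple subgroup that is subnormal in `T`, against `N` normal in `T`. -/
theorem qs_subnormal_le_or_commutator_eq_bot {L T N : Subgroup G} (hqs : Cfsg.IsQuasisimple L)
    (hle : L ≤ T) (hsn : (L.subgroupOf T).IsSubnormal) (hN : N ≤ T)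
    (hnorm : T ≤ Subgroup.normalizer (N : Set G)) : L ≤ N ∨ ⁅L, N⁆ = ⊥ :=
  component_le_or_commutator_eq_bot_aux hqs hle hsn rfl N hN hnorm

theorem component_le_or_commutator_eq_bot_normal {L : Subgroup G} (hL : Cfsg.IsComponent L)
    (N : Subgroup G) [N.Normal] : L ≤ N ∨ ⁅L, N⁆ = ⊥ :=
  qs_subnormal_le_or_commutator_eq_bot hL.2 le_top hL.1.subgroupOf le_top
    (le_normalizer_of_normal _)

/-- A component lies in a given subnormal subgroup or commutes with it. -/
theorem component_le_or_commutator_eq_bot {L K : Subgroup G} (hL : Cfsg.IsComponent L)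
    (hK : K.IsSubnormal) : L ≤ K ∨ ⁅L, K⁆ = ⊥ := by
  induction hK with
  | top => exact Or.inl le_top
  | step A B hAB _ hn ih =>
    rcases ih with h | h
    · exact qs_subnormal_le_or_commutator_eq_bot hL.2 h hL.1.subgroupOf hAB
        (le_normalizer_of_normal_subgroupOf hAB hn)
    · exact Or.inr (le_bot_iff.mp (h ▸ Subgroup.commutator_mono le_rfl hAB))

/-- Distinct components commute. -/
theorem components_commute {K L : Subgroup G} (hK : Cfsg.IsComponent K)
    (hL : Cfsg.IsComponent L) (hne : K ≠ L) : ⁅K, L⁆ = ⊥ := by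
  rcases component_le_or_commutator_eq_bot hK hL.1 with h | h
  · rcases component_le_or_commutator_eq_bot hL hK.1 with h' | h'
    · exact absurd (le_antisymm h h') hne
    · rwa [Subgroup.commutator_comm]
  · exact h

theorem component_eq_of_le {K L : Subgroup G} (hK : Cfsg.IsComponent K)
    (hL : Cfsg.IsComponent L) (h : K ≤ L) : K = L := by
  by_contra hne
  refine qsSub_ne_bot hK.2 (le_bot_iff.mp ?_)
  calc K = ⁅K, K⁆ := (component_perfect hK).symm
    _ ≤ ⁅K, L⁆ := Subgroup.commutator_mono le_rfl h
    _ ≤ ⊥ := (components_commute hK hL hne).le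

/-- A component centralizes every solvable subgroup it normalizes. -/
theorem component_commutator_solvable {L A : Subgroup G} (hL : Cfsg.IsComponent L)
    (hA : Group.IsSolvable A) (hn : L ≤ Subgroup.normalizer (A : Set G)) : ⁅L, A⁆ = ⊥ :=
  (qs_subnormal_le_or_commutator_eq_bot (T := L ⊔ A) hL.2 le_sup_left hL.1.subgroupOf le_sup_right
    (sup_le hn Subgroup.le_normalizer)).resolve_left (qsSub_not_le_of_isSolvable hL.2 hA)

/-- A component centralizes every solvable subnormal subgroup. -/
theorem component_commutator_solvable_subnormal {L A : Subgroup G} (hL : Cfsg.IsComponent L)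
    (hA : A.IsSubnormal) (hs : Group.IsSolvable A) : ⁅L, A⁆ = ⊥ :=
  (component_le_or_commutator_eq_bot hL hA).resolve_left (qsSub_not_le_of_isSolvable hL.2 hs)

/-- Components commute with the Fitting subgroup. -/
theorem component_commutator_fitting [Finite G] {L : Subgroup G} (hL : Cfsg.IsComponent L) :
    ⁅L, Cfsg.fittingSubgroup G⁆ = ⊥ :=
  component_commutator_solvable hL inferInstance (le_normalizer_of_normal _)

/-! ### The layer -/

theorem component_le_layer {L : Subgroup G} (hL : Cfsg.IsComponent L) : L ≤ Cfsg.layer G :=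
  le_sSup hL

theorem layer_le_iff {K : Subgroup G} :
    Cfsg.layer G ≤ K ↔ ∀ L, Cfsg.IsComponent L → L ≤ K :=
  ⟨fun h _ hL => (component_le_layer hL).trans h, fun h => sSup_le h⟩

theorem layer_eq_bot_iff : Cfsg.layer G = ⊥ ↔ ∀ L : Subgroup G, ¬ Cfsg.IsComponent L :=
  ⟨fun h L hL => qsSub_ne_bot hL.2 (le_bot_iff.mp (h ▸ component_le_layer hL)),
    fun h => le_bot_iff.mp (layer_le_iff.mpr fun L hL => absurd hL (h L))⟩

theorem map_layer_equiv (e : G ≃* H) :
    (Cfsg.layer G).map e.toMonoidHom = Cfsg.layer H := by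
  refine le_antisymm (Subgroup.map_le_iff_le_comap.mpr (layer_le_iff.mpr fun L hL => ?_))
    (layer_le_iff.mpr fun L hL => ?_)
  · exact Subgroup.map_le_iff_le_comap.mp (component_le_layer (component_map_equiv e hL))
  · intro x hx
    exact ⟨e.symm x, component_le_layer (component_map_equiv e.symm hL) ⟨x, hx, rfl⟩, by simp⟩

instance layer_characteristic : (Cfsg.layer G).Characteristic :=
  Subgroup.characteristic_iff_map_eq.mpr fun φ => map_layer_equiv φ

instance layer_normal : (Cfsg.layer G).Normal := Subgroup.normal_of_characteristic _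

theorem layer_le_normalizer_component {L : Subgroup G} (hL : Cfsg.IsComponent L) :
    Cfsg.layer G ≤ Subgroup.normalizer (L : Set G) := by
  refine layer_le_iff.mpr fun K hK => ?_
  by_cases h : K = L
  · exact h ▸ Subgroup.le_normalizer
  · exact le_normalizer_of_commutator_eq_bot (components_commute hK hL h)

/-- Each component is normal in the layer. -/
theorem component_normal_in_layer {L : Subgroup G} (hL : Cfsg.IsComponent L) :
    (L.subgroupOf (Cfsg.layer G)).Normal :=
  (Subgroup.normal_subgroupOf_iff_le_normalizer (component_le_layer hL)).mpr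
    (layer_le_normalizer_component hL)

theorem layer_perfect : ⁅Cfsg.layer G, Cfsg.layer G⁆ = Cfsg.layer G :=
  le_antisymm (Subgroup.commutator_le_self _) (layer_le_iff.mpr fun _ hL =>
    (component_perfect hL).ge.trans
      (Subgroup.commutator_mono (component_le_layer hL) (component_le_layer hL)))

theorem layer_commutator_fitting [Finite G] : ⁅Cfsg.layer G, Cfsg.fittingSubgroup G⁆ = ⊥ :=
  Subgroup.commutator_eq_bot_iff_le_centralizer.mpr (layer_le_iff.mpr fun _ hL =>
    Subgroup.commutator_eq_bot_iff_le_centralizer.mp (component_commutator_fitting hL))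

theorem layer_commutator_solvable {A : Subgroup G} (hs : Group.IsSolvable A)
    (hn : Cfsg.layer G ≤ Subgroup.normalizer (A : Set G)) : ⁅Cfsg.layer G, A⁆ = ⊥ :=
  Subgroup.commutator_eq_bot_iff_le_centralizer.mpr (layer_le_iff.mpr fun _ hL =>
    Subgroup.commutator_eq_bot_iff_le_centralizer.mp
      (component_commutator_solvable hL hs ((component_le_layer hL).trans hn)))

theorem map_layer_subnormal_le {K : Subgroup G} (hK : K.IsSubnormal) :
    (Cfsg.layer K).map K.subtype ≤ Cfsg.layer G :=
  Subgroup.map_le_iff_le_comap.mpr (layer_le_iff.mpr fun _ hL =>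
    Subgroup.map_le_iff_le_comap.mp (component_le_layer ((component_map_iff hK).mp hL)))

/-! ### The generalized Fitting subgroup -/

theorem layer_le_genFitting : Cfsg.layer G ≤ Cfsg.generalizedFittingSubgroup G := le_sup_left

theorem fitting_le_genFitting : Cfsg.fittingSubgroup G ≤ Cfsg.generalizedFittingSubgroup G :=
  le_sup_right

instance genFitting_normal [Finite G] : (Cfsg.generalizedFittingSubgroup G).Normal :=
  Subgroup.sup_normal _ _

theorem map_genFitting_equiv [Finite G] [Finite H] (e : G ≃* H) :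
    (Cfsg.generalizedFittingSubgroup G).map e.toMonoidHom =
      Cfsg.generalizedFittingSubgroup H := by
  rw [Cfsg.generalizedFittingSubgroup, Subgroup.map_sup, map_layer_equiv, map_equiv_fitting]
  rfl

instance genFitting_characteristic [Finite G] :
    (Cfsg.generalizedFittingSubgroup G).Characteristic :=
  Subgroup.characteristic_iff_map_eq.mpr fun φ => map_genFitting_equiv φ

open scoped IsMulCommutative in
/-- Below any subnormal subgroup not inside `Z`, with `Z` central in it, there is a subnormal
subgroup not inside `Z` which is nilpotent or quasisimple. -/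
theorem exists_nilpotent_or_qs [Finite G] {C : Subgroup G} (hC : C.IsSubnormal) {Z : Subgroup G}
    (hZ : ⁅C, C ⊓ Z⁆ = ⊥) (hne : ¬ C ≤ Z) :
    ∃ M : Subgroup G, M ≤ C ∧ M.IsSubnormal ∧ ¬ M ≤ Z ∧
      (Group.IsNilpotent M ∨ Cfsg.IsQuasisimple M) := by
  obtain ⟨M, ⟨hMC, hMsn, hMZ⟩, hmin⟩ := (Set.toFinite
      {M : Subgroup G | M ≤ C ∧ M.IsSubnormal ∧ ¬ M ≤ Z}).exists_minimal
    ⟨C, le_rfl, hC, hne⟩
  refine ⟨M, hMC, hMsn, hMZ, ?_⟩
  have key : ∀ N : Subgroup M, N.Normal → N ≠ ⊤ → N ≤ Subgroup.center M := by
    intro N hN hNt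
    have hlt : N.map M.subtype < M := by
      refine (Subgroup.map_subtype_le N).lt_of_ne fun he => hNt ?_
      exact Subgroup.map_subtype_inj.mp (he.trans
        (by rw [← MonoidHom.range_eq_map, Subgroup.range_subtype]))
    have hNZ : N.map M.subtype ≤ Z := by
      by_contra hno
      exact hlt.not_ge (hmin ⟨hlt.le.trans hMC, hN.isSubnormal.trans' hMsn, hno⟩ hlt.le)
    intro x hx
    rw [Subgroup.mem_center_iff]
    intro y
    exact Subtype.ext (commute_of_commutator_eq_bot hZ (hMC y.2)
      ⟨hMC x.2, hNZ ⟨x, hx, rfl⟩⟩)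
  by_cases hp : Group.IsPerfect M
  · right
    haveI : Nontrivial M :=
      (Subgroup.nontrivial_iff_ne_bot M).mpr fun hb => hMZ (hb ▸ bot_le)
    exact qs_of_perfect hp key
  · left
    have hc : commutator M ≤ Subgroup.center M :=
      key _ inferInstance fun ht => hp ⟨ht⟩
    haveI : IsMulCommutative (M ⧸ Subgroup.center M) :=
      (Subgroup.Normal.quotient_commutative_iff_commutator_le).mpr hc
    exact Group.of_quotient_center_nilpotent inferInstance

/-- `C_G(F*(G)) ≤ F*(G)`. -/
theorem centralizer_genFitting_le [Finite G] :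
    Subgroup.centralizer (Cfsg.generalizedFittingSubgroup G : Set G) ≤
      Cfsg.generalizedFittingSubgroup G := by
  by_contra hne
  obtain ⟨M, -, hsn, hMZ, hM⟩ := exists_nilpotent_or_qs
    (C := Subgroup.centralizer (Cfsg.generalizedFittingSubgroup G : Set G))
    (Subgroup.Normal.isSubnormal inferInstance)
    (Z := Cfsg.generalizedFittingSubgroup G)
    (le_bot_iff.mp ((Subgroup.commutator_mono le_rfl inf_le_right).trans
      (Subgroup.commutator_eq_bot_iff_le_centralizer.mpr le_rfl).le)) hne
  rcases hM with hM | hM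
  · exact hMZ ((subnormal_nilpotent_le_fitting hsn hM).trans fitting_le_genFitting)
  · exact hMZ ((component_le_layer ⟨hsn, hM⟩).trans layer_le_genFitting)

end Cfsg.Agent.Components
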