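import Mathlib
import Cfsg.Agent.Components.Basic

/-!
Structure of the layer `E(G)` and of `F*(G)`: centre, subnormal subgroups, derived series.
-/

namespace Cfsg.Agent.Components

set_option linter.style.haveILetI false

variable {G : Type*} [Group G]

/-- The subgroup generated by a set of components. -/
theorem commutator_sSup_eq_bot {S : Set (Subgroup G)} {A : Subgroup G}
    (h : ∀ K ∈ S, ⁅K, A⁆ = ⊥) : ⁅sSup S, A⁆ = ⊥ :=
  Subgroup.commutator_eq_bot_iff_le_centralizer.mpr
    (sSup_le fun K hK => Subgroup.commutator_eq_bot_iff_le_centralizer.mp (h K hK))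

theorem mem_center_map_iff (K : Subgroup G) (x : G) :
    x ∈ (Subgroup.center K).map K.subtype ↔ x ∈ K ∧ ∀ y ∈ K, y * x = x * y := by
  constructor
  · rintro ⟨z, hz, rfl⟩
    exact ⟨z.2, fun y hy => congrArg Subtype.val (Subgroup.mem_center_iff.mp hz ⟨y, hy⟩)⟩
  · rintro ⟨hx, h⟩
    exact ⟨⟨x, hx⟩, Subgroup.mem_center_iff.mpr fun y => Subtype.ext (h y y.2), rfl⟩

/-- The centre of a product of commuting components is generated by the centres. -/
theorem mem_iSup_center_of_commutes (s : Finset (Subgroup G))
    (hs : ∀ L ∈ s, Cfsg.IsComponent L) {z : G} (hz : z ∈ ⨆ L ∈ s, L)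
    (hc : ∀ L ∈ s, ∀ y ∈ L, y * z = z * y) :
    z ∈ ⨆ L ∈ s, (Subgroup.center L).map L.subtype := by
  classical
  induction s using Finset.induction_on generalizing z with
  | empty => simpa using hz
  | insert L s hL ih =>
    rw [Finset.iSup_insert] at hz ⊢
    have hcomm : ⁅(⨆ K ∈ s, K), L⁆ = ⊥ := by
      rw [Subgroup.commutator_eq_bot_iff_le_centralizer]
      refine iSup₂_le fun K hK => Subgroup.commutator_eq_bot_iff_le_centralizer.mp ?_
      exact components_commute (hs K (Finset.mem_insert_of_mem hK))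
        (hs L (Finset.mem_insert_self L s)) (fun h => hL (h ▸ hK))
    rw [sup_comm, ← SetLike.mem_coe, Subgroup.coe_mul_of_left_le_normalizer_right _ _
      (le_normalizer_of_commutator_eq_bot hcomm)] at hz
    obtain ⟨a, ha, b, hb, rfl⟩ := hz
    simp only [SetLike.mem_coe] at ha hb
    have hb' : b ∈ (Subgroup.center L).map L.subtype := by
      refine (mem_center_map_iff L b).mpr ⟨hb, fun y hy => ?_⟩
      have h1 := hc L (Finset.mem_insert_self L s) y hy
      have h2 : a * y = y * a := commute_of_commutator_eq_bot hcomm ha hy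
      simp only [← mul_assoc] at h1
      rw [← h2, mul_assoc, mul_assoc] at h1
      exact mul_left_cancel h1
    refine Subgroup.mul_mem _ (Subgroup.mem_sup_right ?_) (Subgroup.mem_sup_left hb')
    refine ih (fun K hK => hs K (Finset.mem_insert_of_mem hK)) ha fun K hK y hy => ?_
    have h1 := hc K (Finset.mem_insert_of_mem hK) y hy
    have h2 : y * b = b * y :=
      commute_of_commutator_eq_bot hcomm
        (Subgroup.mem_iSup_of_mem K (Subgroup.mem_iSup_of_mem hK hy)) hb
    rw [← mul_assoc, mul_assoc a b y, ← h2, ← mul_assoc] at h1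
    exact mul_right_cancel h1

/-- `Z(E(G))` is generated by the centres of the components. -/
theorem center_layer [Finite G] :
    (Subgroup.center (Cfsg.layer G)).map (Cfsg.layer G).subtype =
      ⨆ L : {K : Subgroup G // Cfsg.IsComponent K},
        (Subgroup.center (L : Subgroup G)).map (L : Subgroup G).subtype := by
  refine le_antisymm ?_ (iSup_le fun L => ?_)
  · intro z hz
    obtain ⟨hzE, hzc⟩ := (mem_center_map_iff _ z).mp hz
    let s := (Set.toFinite {K : Subgroup G | Cfsg.IsComponent K}).toFinset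
    have hs : ∀ L ∈ s, Cfsg.IsComponent L := fun L hL => by simpa [s] using hL
    have hmem : ∀ L : Subgroup G, Cfsg.IsComponent L → L ∈ s := fun L hL => by simpa [s] using hL
    have h1 : Cfsg.layer G ≤ ⨆ L ∈ s, L :=
      layer_le_iff.mpr fun L hL => le_iSup₂_of_le L (hmem L hL) le_rfl
    have h2 := mem_iSup_center_of_commutes s hs (h1 hzE)
      fun L hL y hy => hzc y (component_le_layer (hs L hL) hy)
    exact (iSup₂_le fun L hL => le_iSup (fun M : {K : Subgroup G // Cfsg.IsComponent K} =>
      (Subgroup.center (M : Subgroup G)).map (M : Subgroup G).subtype) ⟨L, hs L hL⟩) h2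
  · intro z hz
    obtain ⟨hzL, hzc⟩ := (mem_center_map_iff _ z).mp hz
    refine (mem_center_map_iff _ z).mpr ⟨component_le_layer L.2 hzL, fun y hy => ?_⟩
    have : Cfsg.layer G ≤ Subgroup.centralizer {z} := layer_le_iff.mpr fun K hK y hy => by
      rw [Subgroup.mem_centralizer_singleton_iff]
      by_cases h : K = (L : Subgroup G)
      · exact (hzc y (h ▸ hy))
      · exact commute_of_commutator_eq_bot (components_commute hK L.2 h) hy hzL
    exact (Subgroup.mem_centralizer_singleton_iff.mp (this hy))

open scoped IsMulCommutative in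
/-- `Z(E(G)) = F(G) ∩ E(G)`. -/
theorem center_layer_eq_fitting_inf [Finite G] :
    (Subgroup.center (Cfsg.layer G)).map (Cfsg.layer G).subtype =
      Cfsg.fittingSubgroup G ⊓ Cfsg.layer G := by
  refine le_antisymm (le_inf ?_ (Subgroup.map_subtype_le _)) ?_
  · exact normal_nilpotent_le_fitting inferInstance (isNilpotent_map _ _ inferInstance)
  · rintro z ⟨hzF, hzE⟩
    exact (mem_center_map_iff _ z).mpr
      ⟨hzE, fun y hy => commute_of_commutator_eq_bot layer_commutator_fitting hy hzF⟩

/-- Components of a subnormal subgroup are exactly the components inside it. -/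
theorem map_layer_subnormal {S : Subgroup G} (hS : S.IsSubnormal) :
    (Cfsg.layer S).map S.subtype = sSup {L | Cfsg.IsComponent L ∧ L ≤ S} := by
  refine le_antisymm (Subgroup.map_le_iff_le_comap.mpr (layer_le_iff.mpr fun L hL =>
    Subgroup.map_le_iff_le_comap.mp ?_)) (sSup_le fun L ⟨hL, hle⟩ => ?_)
  · exact le_sSup ⟨(component_map_iff hS).mp hL, Subgroup.map_subtype_le _⟩
  · conv_lhs => rw [← map_subgroupOf hle]
    exact Subgroup.map_mono (component_le_layer (component_subgroupOf hL hle))

theorem map_layer_le_iff {S : Subgroup G} {X : Subgroup G} (hS : S.IsSubnormal) :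
    (Cfsg.layer S).map S.subtype ≤ X ↔ ∀ L, Cfsg.IsComponent L → L ≤ S → L ≤ X := by
  simp [map_layer_subnormal hS]

theorem component_le_map_layer {S L : Subgroup G} (hS : S.IsSubnormal) (hL : Cfsg.IsComponent L)
    (hle : L ≤ S) : L ≤ (Cfsg.layer S).map S.subtype :=
  (map_layer_le_iff hS).mp le_rfl L hL hle

/-- A subnormal subgroup of `F*(G)` is the product of its layer and Fitting subgroup. -/
theorem subnormal_le_genFitting [Finite G] {S : Subgroup G} (hS : S.IsSubnormal)
    (hle : S ≤ Cfsg.generalizedFittingSubgroup G) :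
    S ≤ (Cfsg.layer S).map S.subtype ⊔ (Cfsg.fittingSubgroup S).map S.subtype := by
  rw [fitting_subnormal hS, map_layer_subnormal hS]
  set E1 : Subgroup G := sSup {L | Cfsg.IsComponent L ∧ L ≤ S}
  set E2 : Subgroup G := sSup {L | Cfsg.IsComponent L ∧ ¬ L ≤ S}
  set F := Cfsg.fittingSubgroup G
  have h12 : ⁅E1, E2⁆ = ⊥ := by
    refine commutator_sSup_eq_bot fun K hK => ?_
    rw [Subgroup.commutator_comm]
    exact commutator_sSup_eq_bot fun L hL =>
      components_commute hL.1 hK.1 fun h => hL.2 (h ▸ hK.2)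
  have h2S : ⁅E2, S⁆ = ⊥ := commutator_sSup_eq_bot fun L hL =>
    (component_le_or_commutator_eq_bot hL.1 hS).resolve_left hL.2
  have hE : Cfsg.generalizedFittingSubgroup G ≤ E1 ⊔ (E2 ⊔ F) := by
    refine sup_le (layer_le_iff.mpr fun L hL => ?_) (le_sup_right.trans le_sup_right)
    by_cases h : L ≤ S
    · exact le_sup_of_le_left (le_sSup ⟨hL, h⟩)
    · exact le_sup_of_le_right (le_sup_of_le_left (le_sSup ⟨hL, h⟩))
  have hE1S : E1 ≤ S := sSup_le fun L hL => hL.2
  have hE2l : E2 ≤ Cfsg.layer G := sSup_le fun L hL => component_le_layer hL.1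
  have hnorm : E1 ≤ Subgroup.normalizer ((E2 ⊔ F : Subgroup G) : Set G) := by
    refine Subgroup.le_normalizer_iff_commutator_le_right.mpr ?_
    have : ⁅E1, E2 ⊔ F⁆ = ⊥ := by
      rw [Subgroup.commutator_comm, Subgroup.commutator_eq_bot_iff_le_centralizer]
      refine sup_le ?_ ?_
      · rwa [← Subgroup.commutator_eq_bot_iff_le_centralizer, Subgroup.commutator_comm]
      · rw [← Subgroup.commutator_eq_bot_iff_le_centralizer, Subgroup.commutator_comm]
        exact le_bot_iff.mp ((Subgroup.commutator_mono
          (sSup_le fun L hL => component_le_layer hL.1) le_rfl).trans layer_commutator_fitting.le)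
    exact this ▸ bot_le
  intro x hx
  have hx' := hE (hle hx)
  rw [← SetLike.mem_coe, Subgroup.coe_mul_of_left_le_normalizer_right _ _ hnorm] at hx'
  obtain ⟨a, ha, b, hb, rfl⟩ := hx'
  simp only [SetLike.mem_coe] at ha hb
  have hbS : b ∈ S := by
    simpa using S.mul_mem (S.inv_mem (hE1S ha)) hx
  refine Subgroup.mul_mem _ (Subgroup.mem_sup_left ha) (Subgroup.mem_sup_right ⟨?_, hbS⟩)
  obtain ⟨y, hy, f, hf, rfl⟩ := Subgroup.mem_sup_of_normal_right.mp hb
  refine F.mul_mem ?_ hf
  have hyc : y ∈ (Subgroup.center (Cfsg.layer G)).map (Cfsg.layer G).subtype := by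
    refine (mem_center_map_iff _ y).mpr ⟨hE2l hy, fun w hw => ?_⟩
    have : Cfsg.layer G ≤ Subgroup.centralizer {y} := layer_le_iff.mpr fun K hK w hw => by
      rw [Subgroup.mem_centralizer_singleton_iff]
      by_cases h : K ≤ S
      · exact commute_of_commutator_eq_bot h12 (le_sSup (α := Subgroup G)
          (show K ∈ {L | Cfsg.IsComponent L ∧ L ≤ S} from ⟨hK, h⟩) hw) hy
      · have hwE2 : w ∈ E2 := le_sSup (α := Subgroup G)
          (show K ∈ {L | Cfsg.IsComponent L ∧ ¬ L ≤ S} from ⟨hK, h⟩) hw
        have hwf : w * f = f * w := commute_of_commutator_eq_bot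
          layer_commutator_fitting (hE2l hwE2) hf
        have hwb : w * (y * f) = y * f * w := commute_of_commutator_eq_bot h2S hwE2 hbS
        rw [← mul_assoc, mul_assoc y f w, ← hwf, ← mul_assoc] at hwb
        exact mul_right_cancel hwb
    exact Subgroup.mem_centralizer_singleton_iff.mp (this hw)
  rw [center_layer_eq_fitting_inf] at hyc
  exact hyc.1

/-- `F*(S) = F*(G) ∩ S` for subnormal `S`. -/
theorem genFitting_subnormal [Finite G] {S : Subgroup G} (hS : S.IsSubnormal) :
    (Cfsg.generalizedFittingSubgroup S).map S.subtype =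
      Cfsg.generalizedFittingSubgroup G ⊓ S := by
  have h0 : (Cfsg.generalizedFittingSubgroup S).map S.subtype =
      (Cfsg.layer S).map S.subtype ⊔ (Cfsg.fittingSubgroup S).map S.subtype :=
    Subgroup.map_sup _ _ _
  refine le_antisymm (le_inf ?_ (Subgroup.map_subtype_le _)) ?_
  · rw [h0, fitting_subnormal hS]
    exact sup_le ((map_layer_subnormal_le hS).trans layer_le_genFitting)
      (inf_le_left.trans fitting_le_genFitting)
  · have hT : (Cfsg.generalizedFittingSubgroup G ⊓ S).IsSubnormal :=
      Subgroup.IsSubnormal.inf (Subgroup.Normal.isSubnormal inferInstance) hS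
    refine (subnormal_le_genFitting hT inf_le_left).trans ?_
    rw [h0, fitting_subnormal hS, fitting_subnormal hT]
    refine sup_le_sup ?_ (inf_le_inf le_rfl inf_le_right)
    exact (map_layer_le_iff hT).mpr fun L hL hle =>
      component_le_map_layer hS hL (hle.trans inf_le_right)

theorem genFitting_eq_sup [Finite G] :
    Cfsg.generalizedFittingSubgroup G = Cfsg.layer G ⊔ Cfsg.fittingSubgroup G := rfl

/-- `F*` of a subgroup between. -/
theorem centralizer_fitting_le_iff [Finite G] :
    Subgroup.centralizer (Cfsg.fittingSubgroup G : Set G) ≤ Cfsg.fittingSubgroup G ↔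
      Cfsg.layer G = ⊥ := by
  constructor
  · intro h
    refine layer_eq_bot_iff.mpr fun L hL => ?_
    exact qsSub_not_le_of_isSolvable hL.2 inferInstance
      ((Subgroup.commutator_eq_bot_iff_le_centralizer.mp (component_commutator_fitting hL)).trans h)
  · intro h
    have := centralizer_genFitting_le (G := G)
    rwa [genFitting_eq_sup, h, bot_sup_eq] at this

/-- A normal `Y ⊇ F(G)` containing its centralizer contains `F*(G)`. -/
theorem genFitting_le_of_centralizer_le [Finite G] (Y : Subgroup G) [Y.Normal]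
    (hF : Cfsg.fittingSubgroup G ≤ Y) (hC : Subgroup.centralizer (Y : Set G) ≤ Y) :
    Cfsg.generalizedFittingSubgroup G ≤ Y :=
  sup_le (layer_le_iff.mpr fun _ hL =>
    (component_le_or_commutator_eq_bot_normal hL Y).elim id fun h =>
      (Subgroup.commutator_eq_bot_iff_le_centralizer.mp h).trans hC) hF

/-- `E = C_E(U) [E,U]`. -/
theorem layer_eq_centralizer_sup_commutator (U : Subgroup G) :
    Cfsg.layer G = (Cfsg.layer G ⊓ Subgroup.centralizer (U : Set G)) ⊔ ⁅Cfsg.layer G, U⁆ := by
  refine le_antisymm (layer_le_iff.mpr fun L hL => ?_)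
    (sup_le inf_le_left (Subgroup.commutator_le_left _ _))
  by_cases hLM : L ≤ ⁅Cfsg.layer G, U⁆
  · exact le_sup_of_le_right hLM
  refine le_sup_of_le_left (le_inf (component_le_layer hL) ?_)
  have hLc : ⁅L, ⁅Cfsg.layer G, U⁆⁆ = ⊥ :=
    (qs_subnormal_le_or_commutator_eq_bot (T := Cfsg.layer G) hL.2 (component_le_layer hL)
      hL.1.subgroupOf (Subgroup.commutator_le_left _ _)
      (Subgroup.normalizer_commutator_ge_left _ _)).resolve_left hLM
  refine Subgroup.commutator_eq_bot_iff_le_centralizer.mp ?_
  apply commutator_eq_bot_of_perfect (component_perfect hL)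
  rw [Subgroup.commutator_comm, ← le_bot_iff, ← hLc]
  exact Subgroup.commutator_mono le_rfl
    (Subgroup.commutator_mono (component_le_layer hL) le_rfl)

end Cfsg.Agent.Components
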