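import Mathlib
import Cfsg.Agent.Components.Layer
import Cfsg.Agent.Cores.PCore

/-!
`p`-components and the `p`-layer.
-/

namespace Cfsg.Agent.Components

set_option linter.style.haveILetI false
set_option linter.unusedSectionVars false
set_option linter.unusedVariables false

open Cfsg.Agent

variable {G : Type*} [Group G] {H : Type*} [Group H] {p : ℕ}

/-! ### The subgroup generated by the `p`-elements -/

/-- The subgroup generated by the `p`-elements of `M` (this is `O^{p'}(M)`). -/
def pElemClosure (p : ℕ) (M : Subgroup G) : Subgroup G :=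
  Subgroup.closure {x | x ∈ M ∧ ∃ k : ℕ, x ^ p ^ k = 1}

theorem pElemClosure_le_self (M : Subgroup G) : pElemClosure p M ≤ M :=
  (Subgroup.closure_le M).mpr fun _ hx => hx.1

theorem mem_pElemClosure {M : Subgroup G} {x : G} (hx : x ∈ M) {k : ℕ} (hk : x ^ p ^ k = 1) :
    x ∈ pElemClosure p M :=
  Subgroup.subset_closure ⟨hx, k, hk⟩

theorem le_pElemClosure_of_isPGroup {A M : Subgroup G} (hA : IsPGroup p A) (h : A ≤ M) :
    A ≤ pElemClosure p M := fun x hx => by
  obtain ⟨k, hk⟩ := hA ⟨x, hx⟩
  exact mem_pElemClosure (h hx) (by simpa using congrArg Subtype.val hk)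

theorem pElemClosure_mono {A M : Subgroup G} (h : A ≤ M) :
    pElemClosure p A ≤ pElemClosure p M :=
  Subgroup.closure_mono fun _ hx => ⟨h hx.1, hx.2⟩

theorem map_pElemClosure_le (f : G →* H) (M : Subgroup G) :
    (pElemClosure p M).map f ≤ pElemClosure p (M.map f) := by
  rw [pElemClosure, MonoidHom.map_closure]
  refine Subgroup.closure_mono ?_
  rintro _ ⟨x, ⟨hx, k, hk⟩, rfl⟩
  exact ⟨⟨x, hx, rfl⟩, k, by rw [← map_pow, hk, map_one]⟩

theorem map_pElemClosure_of_injective (f : G →* H) (hf : Function.Injective f) (M : Subgroup G) :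
    (pElemClosure p M).map f = pElemClosure p (M.map f) := by
  refine le_antisymm (map_pElemClosure_le f M) ?_
  rw [pElemClosure, pElemClosure, MonoidHom.map_closure]
  refine Subgroup.closure_mono ?_
  rintro _ ⟨⟨x, hx, rfl⟩, k, hk⟩
  exact ⟨x, ⟨hx, k, hf (by rw [map_pow, hk, map_one])⟩, rfl⟩

theorem map_conj_eq_of_mem_normalizer {M : Subgroup G} {g : G}
    (hg : g ∈ Subgroup.normalizer (M : Set G)) : M.map (MulAut.conj g).toMonoidHom = M := by
  ext y
  simp only [Subgroup.mem_map, MulEquiv.coe_toMonoidHom, MulAut.conj_apply]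
  constructor
  · rintro ⟨x, hx, rfl⟩
    exact (Subgroup.mem_normalizer_iff.mp hg x).mp hx
  · intro hy
    refine ⟨g⁻¹ * y * g, ?_, by group⟩
    exact (Subgroup.mem_normalizer_iff.mp hg _).mpr (by simpa [mul_assoc] using hy)

theorem mem_normalizer_of_map_conj_eq {M : Subgroup G} {g : G}
    (hg : M.map (MulAut.conj g).toMonoidHom = M) : g ∈ Subgroup.normalizer (M : Set G) := by
  rw [Subgroup.mem_normalizer_iff]
  intro x
  constructor
  · exact fun hx => hg ▸ ⟨x, hx, rfl⟩
  · intro hx
    rw [← hg] at hx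
    obtain ⟨y, hy, hyx⟩ := hx
    have : y = x := (MulAut.conj g).injective hyx
    exact this ▸ hy

theorem normalizer_le_normalizer_pElemClosure (M : Subgroup G) :
    Subgroup.normalizer (M : Set G) ≤ Subgroup.normalizer (pElemClosure p M : Set G) :=
  fun g hg => mem_normalizer_of_map_conj_eq (by
    rw [map_pElemClosure_of_injective _ (MulAut.conj g).injective,
      map_conj_eq_of_mem_normalizer hg])

theorem pElemClosure_normal_subgroupOf (M : Subgroup G) :
    ((pElemClosure p M).subgroupOf M).Normal :=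
  (Subgroup.normal_subgroupOf_iff_le_normalizer (pElemClosure_le_self M)).mpr
    (Subgroup.le_normalizer.trans (normalizer_le_normalizer_pElemClosure M))

theorem isSubnormal_pElemClosure {M : Subgroup G} (hM : M.IsSubnormal) :
    (pElemClosure p M).IsSubnormal :=
  .step _ _ (pElemClosure_le_self M) hM (pElemClosure_normal_subgroupOf M)

theorem pElemClosure_relIndex_coprime [Finite G] [Fact p.Prime] (M : Subgroup G) :
    ((pElemClosure p M).relIndex M).Coprime p := by
  obtain ⟨P⟩ : Nonempty (Sylow p M) := inferInstance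
  have hle : (P : Subgroup M) ≤ (pElemClosure p M).subgroupOf M :=
    Subgroup.map_le_iff_le_comap.mp
      (le_pElemClosure_of_isPGroup (P.isPGroup'.map M.subtype) (Subgroup.map_subtype_le _))
  refine ((Nat.Prime.coprime_iff_not_dvd Fact.out).mpr fun h => ?_).symm
  exact P.not_dvd_index (h.trans (Subgroup.index_dvd_of_le hle))

/-- A subnormal subgroup of index prime to `p` contains every `p`-element. -/
theorem mem_of_isSubnormal_coprime [Finite G] {A : Subgroup G} (hA : A.IsSubnormal)
    (hi : A.index.Coprime p) {x : G} {k : ℕ} (hx : x ^ p ^ k = 1) : x ∈ A := by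
  induction hA with
  | top => trivial
  | step A B hle _ hn ih =>
    have hmul : A.relIndex B * B.index = A.index := Subgroup.relIndex_mul_index hle
    have hxB : x ∈ B := ih (Nat.Coprime.coprime_dvd_left ⟨_, by rw [← hmul, mul_comm]⟩ hi)
    haveI := hn
    have h1 : orderOf (QuotientGroup.mk' (A.subgroupOf B) ⟨x, hxB⟩) ∣ p ^ k := by
      refine orderOf_dvd_of_pow_eq_one ?_
      rw [← map_pow]
      exact (congrArg _ (Subtype.ext (by simpa using hx))).trans (map_one _)
    have h2 : orderOf (QuotientGroup.mk' (A.subgroupOf B) ⟨x, hxB⟩) ∣ A.relIndex B :=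
      orderOf_dvd_natCard _
    have h3 : (A.relIndex B).Coprime (p ^ k) :=
      (Nat.Coprime.coprime_dvd_left ⟨_, hmul.symm⟩ hi).pow_right k
    have h4 := orderOf_eq_one_iff.mp (Nat.eq_one_of_dvd_coprimes h3 h2 h1)
    exact (QuotientGroup.eq_one_iff (N := A.subgroupOf B) _).mp h4

/-- A subnormal subgroup of `M` with index prime to `p` contains `O^{p'}(M)`. -/
theorem pElemClosure_le_of_relIndex [Finite G] {A M : Subgroup G} (hA : A.IsSubnormal)
    (hi : (A.relIndex M).Coprime p) : pElemClosure p M ≤ A :=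
  (Subgroup.closure_le A).mpr fun x ⟨hx, k, hk⟩ =>
    mem_of_isSubnormal_coprime (A := A.subgroupOf M) hA.subgroupOf hi
      (x := ⟨x, hx⟩) (k := k) (Subtype.ext (by simpa using hk))

theorem map_pElemClosure [Finite G] [Fact p.Prime] (f : G →* H) {M : Subgroup G}
    [Finite H] (hM : (M.map f).IsSubnormal) :
    (pElemClosure p M).map f = pElemClosure p (M.map f) := by
  refine le_antisymm (map_pElemClosure_le f M) ?_
  have hle : (pElemClosure p M).map f ≤ M.map f := Subgroup.map_mono (pElemClosure_le_self M)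
  refine pElemClosure_le_of_relIndex (.step _ _ hle hM ?_) ?_
  · exact (Subgroup.normal_subgroupOf_iff_le_normalizer hle).mpr
      ((Subgroup.map_mono (Subgroup.le_normalizer.trans (normalizer_le_normalizer_pElemClosure M))).trans
        (Subgroup.le_normalizer_map f))
  · refine Nat.Coprime.coprime_dvd_left ?_ (pElemClosure_relIndex_coprime (p := p) M)
    have e : ((pElemClosure p M).map f).subgroupOf (M.map f) =
        ((pElemClosure p M).subgroupOf M).map (f.subgroupMap M) := by
      ext x
      constructor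
      · rintro ⟨y, hy, hyx⟩
        exact ⟨⟨y, pElemClosure_le_self M hy⟩, hy, Subtype.ext hyx⟩
      · rintro ⟨y, hy, rfl⟩
        exact ⟨y, hy, rfl⟩
    show ((((pElemClosure p M).map f).subgroupOf (M.map f)).index) ∣
      ((pElemClosure p M).subgroupOf M).index
    rw [e]
    exact Subgroup.index_map_dvd _ (f.subgroupMap_surjective M)

/-! ### Components when `O_{p'} = 1` -/

/-- A perfect group in which every `p`-element is central has order prime to `p`. -/
theorem not_dvd_card_of_perfect_central [Finite G] [hp : Fact p.Prime] [Group.IsPerfect G]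
    (h : ∀ (x : G) (k : ℕ), x ^ p ^ k = 1 → x ∈ Subgroup.center G) : ¬ p ∣ Nat.card G := by
  intro hdvd
  obtain ⟨P⟩ : Nonempty (Sylow p G) := inferInstance
  have hPc : (P : Subgroup G) ≤ Subgroup.center G := fun x hx => by
    obtain ⟨k, hk⟩ := P.isPGroup' ⟨x, hx⟩
    exact h x k (by simpa using congrArg Subtype.val hk)
  haveI : IsMulCommutative (P : Subgroup G) :=
    ⟨⟨fun a b => Subtype.ext (Subgroup.mem_center_iff.mp (hPc b.2) a)⟩⟩
  have hP : Subgroup.normalizer ((P : Subgroup G) : Set G) ≤
      Subgroup.centralizer ((P : Subgroup G) : Set G) := by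
    intro g _
    rw [Subgroup.mem_centralizer_iff]
    intro x hx
    exact (Subgroup.mem_center_iff.mp (hPc hx) g).symm
  have hc := MonoidHom.ker_transferSylow_isComplement' P hP
  set τ := MonoidHom.transferSylow P hP
  have h1 : τ.ker = ⊤ := by
    rw [eq_top_iff, ← Group.IsPerfect.commutator_eq_top (G := G), commutator_def,
      Subgroup.commutator_le]
    intro a _ b _
    rw [MonoidHom.mem_ker, map_commutatorElement, commutatorElement_eq_one_iff_mul_comm]
    exact Subtype.ext (Subgroup.mem_center_iff.mp (hPc (τ b).2) _)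
  have h2 := hc.card_mul_card
  rw [h1, Subgroup.card_top] at h2
  have h3 : Nat.card (P : Subgroup G) = 1 := by
    have := Nat.card_pos (α := G)
    rwa [Nat.mul_eq_left this.ne'] at h2
  exact P.ne_bot_of_dvd_card hdvd (Subgroup.card_eq_one.mp h3)

variable [Finite G]

theorem dvd_card_component [hp : Fact p.Prime] (hR : Cfsg.pPrimeCore p G = ⊥) {C : Subgroup G}
    (hC : Cfsg.IsComponent C) : p ∣ Nat.card C := by
  by_contra h
  apply qsSub_ne_bot hC.2
  rw [← le_bot_iff, ← hR]
  exact Cores.le_pPrimeCore_of_isSubnormal hC.1 (hp.out.coprime_iff_not_dvd.mpr h).symm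

theorem pElemClosure_component [hp : Fact p.Prime] (hR : Cfsg.pPrimeCore p G = ⊥)
    {C : Subgroup G} (hC : Cfsg.IsComponent C) : pElemClosure p C = C := by
  refine le_antisymm (pElemClosure_le_self C) ?_
  haveI : Group.IsPerfect C := hC.2.1
  rcases qs_subnormal hC.2 (isSubnormal_pElemClosure (p := p) hC.1).subgroupOf with h | h
  · exact Subgroup.subgroupOf_eq_top.mp h
  · exact absurd (dvd_card_component hR hC) (not_dvd_card_of_perfect_central fun x k hk =>
      h (Subgroup.mem_subgroupOf.mpr (mem_pElemClosure x.2 (k := k)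
        (by simpa using congrArg Subtype.val hk))))

theorem pPrimeCore_component [hp : Fact p.Prime] (hR : Cfsg.pPrimeCore p G = ⊥) {C : Subgroup G}
    (hC : Cfsg.IsComponent C) : Cfsg.pPrimeCore p C = ⊥ := by
  have h := Cores.map_pPrimeCore_le_of_isSubnormal (p := p) hC.1
  rw [hR, le_bot_iff, Subgroup.map_eq_bot_iff_of_injective _ C.subtype_injective] at h
  exact h

/-! ### p-components -/

/-- The natural map onto `G / O_{p'}(G)`. -/
abbrev qmap (p : ℕ) (G : Type*) [Group G] : G →* G ⧸ Cfsg.pPrimeCore p G :=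
  QuotientGroup.mk' (Cfsg.pPrimeCore p G)

theorem qmap_surjective : Function.Surjective (qmap p G) :=
  QuotientGroup.mk'_surjective _

theorem ker_qmap : (qmap p G).ker = Cfsg.pPrimeCore p G := QuotientGroup.ker_mk' _

theorem pPrimeCore_quotient_eq_bot : Cfsg.pPrimeCore p (G ⧸ Cfsg.pPrimeCore p G) = ⊥ :=
  Cores.pPrimeCore_quotient_pPrimeCore

variable [hp : Fact p.Prime] {C : Subgroup (G ⧸ Cfsg.pPrimeCore p G)}

theorem map_pElemClosure_comap (hC : Cfsg.IsComponent C) :
    (pElemClosure p (C.comap (qmap p G))).map (qmap p G) = C := by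
  have h : (C.comap (qmap p G)).map (qmap p G) = C :=
    Subgroup.map_comap_eq_self_of_surjective qmap_surjective C
  rw [map_pElemClosure _ (h.symm ▸ hC.1), h,
    pElemClosure_component pPrimeCore_quotient_eq_bot hC]

theorem pElemClosure_comap_le (C : Subgroup (G ⧸ Cfsg.pPrimeCore p G)) {A : Subgroup G}
    (hA : A.IsSubnormal) (hmap : C ≤ A.map (qmap p G)) :
    pElemClosure p (C.comap (qmap p G)) ≤ A := by
  refine pElemClosure_le_of_relIndex hA ?_
  have h1 : C.comap (qmap p G) ≤ A ⊔ Cfsg.pPrimeCore p G := by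
    refine (Subgroup.comap_mono hmap).trans ?_
    rw [Subgroup.comap_map_eq, ker_qmap]
  refine Nat.Coprime.coprime_dvd_left ?_ (Cores.coprime_card_pPrimeCore (p := p) (G := G))
  set M := C.comap (qmap p G) with hM
  set R := Cfsg.pPrimeCore p G with hRdef
  have hR : R ≤ M := fun x hx => by
    show qmap p G x ∈ C
    rw [show qmap p G x = 1 from (QuotientGroup.eq_one_iff x).mpr hx]
    exact C.one_mem
  have hsup : (A ⊓ M) ⊔ R = M := by
    refine le_antisymm (sup_le inf_le_right hR) fun x hx => ?_
    obtain ⟨a, ha, r, hr, rfl⟩ := Subgroup.mem_sup_of_normal_right.mp (h1 hx)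
    exact Subgroup.mul_mem _ (Subgroup.mem_sup_left
      ⟨ha, by simpa using M.mul_mem hx (M.inv_mem (hR hr))⟩) (Subgroup.mem_sup_right hr)
  rw [← Subgroup.inf_relIndex_right A M]
  have h2 := Subgroup.relIndex_mul_relIndex ⊥ (A ⊓ M) M bot_le inf_le_right
  rw [Subgroup.relIndex_bot_left, Subgroup.relIndex_bot_left] at h2
  have h3 := Cores.card_sup_mul_card_inf (A ⊓ M) R
  rw [hsup, ← h2, mul_assoc] at h3
  exact ⟨_, (mul_left_cancel₀ Nat.card_pos.ne' h3).symm⟩

/-- Existence: the canonical `p`-component over a component of `G / O_{p'}(G)`. -/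
theorem isPComponent_pElemClosure (hC : Cfsg.IsComponent C) :
    Cfsg.IsPComponent p (pElemClosure p (C.comap (qmap p G))) := by
  refine ⟨isSubnormal_pElemClosure (hC.1.comap _), ?_, ?_⟩
  · rw [show (pElemClosure p (C.comap (qmap p G))).map (QuotientGroup.mk' _) = C from
      map_pElemClosure_comap hC]
    exact hC
  · intro A hA hle hmap
    refine le_antisymm hle (pElemClosure_comap_le C hA ?_)
    exact (map_pElemClosure_comap hC).ge.trans hmap.ge

/-- Uniqueness: a `p`-component is generated by the `p`-elements of the preimage of its image. -/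
theorem pComponent_eq {K : Subgroup G} (hK : Cfsg.IsPComponent p K) :
    K = pElemClosure p ((K.map (qmap p G)).comap (qmap p G)) :=
  (hK.2.2 _ (isSubnormal_pElemClosure (hK.2.1.1.comap _))
    (pElemClosure_comap_le _ hK.1 le_rfl) (map_pElemClosure_comap hK.2.1)).symm

theorem pComponent_ext {K L : Subgroup G} (hK : Cfsg.IsPComponent p K)
    (hL : Cfsg.IsPComponent p L) (h : K.map (qmap p G) = L.map (qmap p G)) : K = L := by
  rw [pComponent_eq hK, pComponent_eq hL, h]

theorem existsUnique_pComponent (hC : Cfsg.IsComponent C) :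
    ∃! K : Subgroup G, Cfsg.IsPComponent p K ∧ K.map (qmap p G) = C :=
  ⟨_, ⟨isPComponent_pElemClosure hC, map_pElemClosure_comap hC⟩,
    fun K ⟨hK, hKC⟩ => by rw [pComponent_eq hK, hKC]⟩

/-- `L_{p'}(G)` maps onto `E(G/O_{p'}(G))`. -/
theorem map_pLayer : (Cfsg.pLayer p G).map (qmap p G) =
    Cfsg.layer (G ⧸ Cfsg.pPrimeCore p G) := by
  refine le_antisymm (Subgroup.map_le_iff_le_comap.mpr (sSup_le fun K hK =>
    Subgroup.map_le_iff_le_comap.mp (component_le_layer hK.2.1))) (layer_le_iff.mpr fun C hC => ?_)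
  exact (map_pElemClosure_comap hC).ge.trans
    (Subgroup.map_mono (le_sSup (isPComponent_pElemClosure hC)))

theorem pLayer_eq_bot_iff : Cfsg.pLayer p G = ⊥ ↔
    Cfsg.layer (G ⧸ Cfsg.pPrimeCore p G) = ⊥ := by
  refine ⟨fun h => by rw [← map_pLayer, h, Subgroup.map_bot],
    fun h => le_bot_iff.mp (sSup_le fun K hK => ?_)⟩
  exact absurd hK.2.1 (layer_eq_bot_iff.mp h _)

theorem pComponent_le_iff {K A : Subgroup G} (hK : Cfsg.IsPComponent p K) (hA : A.IsSubnormal) :
    K ≤ A ↔ K.map (qmap p G) ≤ A.map (qmap p G) :=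
  ⟨fun h => Subgroup.map_mono h,
    fun h => (pComponent_eq hK).le.trans (pElemClosure_comap_le _ hA h)⟩

theorem pComponent_pElemClosure_self {K : Subgroup G} (hK : Cfsg.IsPComponent p K) :
    pElemClosure p K = K :=
  hK.2.2 _ (isSubnormal_pElemClosure hK.1) (pElemClosure_le_self K) (by
    show (pElemClosure p K).map (qmap p G) = K.map (qmap p G)
    rw [map_pElemClosure _ hK.2.1.1, pElemClosure_component pPrimeCore_quotient_eq_bot hK.2.1])

/-- A `p`-component has no proper normal (or subnormal) subgroup of index prime to `p`. -/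
theorem pComponent_eq_top_of_coprime_index {K : Subgroup G} (hK : Cfsg.IsPComponent p K)
    {N : Subgroup K} (hN : N.IsSubnormal) (hi : N.index.Coprime p) : N = ⊤ := by
  rw [eq_top_iff]
  intro x _
  have h : pElemClosure p K ≤ N.map K.subtype := by
    refine pElemClosure_le_of_relIndex (hN.trans' hK.1) ?_
    rwa [Subgroup.relIndex, Subgroup.subgroupOf,
      Subgroup.comap_map_eq_self_of_injective K.subtype_injective]
  rw [pComponent_pElemClosure_self hK] at h
  obtain ⟨y, hy, hyx⟩ := h x.2
  rwa [← Subtype.ext hyx]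

theorem pComponent_perfect {K : Subgroup G} (hK : Cfsg.IsPComponent p K) : ⁅K, K⁆ = K :=
  hK.2.2 _
    (.step _ _ (Subgroup.commutator_le_self K) hK.1
      ((Subgroup.normal_subgroupOf_iff_le_normalizer (Subgroup.commutator_le_self K)).mpr
        (Subgroup.normalizer_commutator_ge_left K K)))
    (Subgroup.commutator_le_self K)
    (by
      show ⁅K, K⁆.map (qmap p G) = K.map (qmap p G)
      rw [Subgroup.map_commutator]
      exact component_perfect hK.2.1)

theorem pComponent_dvd_card {K : Subgroup G} (hK : Cfsg.IsPComponent p K) : p ∣ Nat.card K :=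
  (dvd_card_component (C := K.map (qmap p G)) pPrimeCore_quotient_eq_bot hK.2.1).trans
    (Subgroup.card_map_dvd _ _)

theorem pComponent_le_pLayer {K : Subgroup G} (hK : Cfsg.IsPComponent p K) :
    K ≤ Cfsg.pLayer p G :=
  le_sSup hK

theorem pLayer_perfect : ⁅Cfsg.pLayer p G, Cfsg.pLayer p G⁆ = Cfsg.pLayer p G :=
  le_antisymm (Subgroup.commutator_le_self _) (sSup_le fun _ hK =>
    (pComponent_perfect hK).ge.trans
      (Subgroup.commutator_mono (pComponent_le_pLayer hK) (pComponent_le_pLayer hK)))

theorem pComponent_conj {K : Subgroup G} (hK : Cfsg.IsPComponent p K) (g : G) :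
    Cfsg.IsPComponent p (K.map (MulAut.conj g).toMonoidHom) := by
  have key : ∀ (A : Subgroup G) (g : G), (A.map (MulAut.conj g).toMonoidHom).map (qmap p G) =
      (A.map (qmap p G)).map (MulAut.conj (qmap p G g)).toMonoidHom := by
    intro A g
    rw [Subgroup.map_map, Subgroup.map_map]
    congr 1
  refine ⟨isSubnormal_conj hK.1 g, ?_, fun A hA hle hmap => ?_⟩
  · exact (key K g).symm ▸ component_conj hK.2.1 _
  · have h2 := hK.2.2 (A.map (MulAut.conj g⁻¹).toMonoidHom) (isSubnormal_conj hA _) ?_ ?_
    · rw [← h2, Subgroup.map_map]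
      convert (Subgroup.map_id A).symm
      ext x
      simp [mul_assoc]
    · refine (Subgroup.map_mono hle).trans (le_of_eq ?_)
      rw [Subgroup.map_map]
      convert Subgroup.map_id K
      ext x
      simp [mul_assoc]
    · show (A.map (MulAut.conj g⁻¹).toMonoidHom).map (qmap p G) = K.map (qmap p G)
      rw [key, show A.map (qmap p G) = _ from hmap, key, Subgroup.map_map]
      convert Subgroup.map_id (K.map (qmap p G))
      ext x
      simp [mul_assoc]

theorem pComponent_le_normalizer {K A : Subgroup G} (hK : Cfsg.IsPComponent p K)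
    (h : A.map (qmap p G) ≤ Subgroup.normalizer ((K.map (qmap p G) : Subgroup _) : Set _)) :
    A ≤ Subgroup.normalizer (K : Set G) := by
  rw [pComponent_eq hK]
  refine le_trans ?_ (normalizer_le_normalizer_pElemClosure _)
  exact (Subgroup.map_le_iff_le_comap.mp h).trans (Subgroup.le_normalizer_comap _)

theorem pComponent_le_normalizer_pComponent {K L : Subgroup G} (hK : Cfsg.IsPComponent p K)
    (hL : Cfsg.IsPComponent p L) : L ≤ Subgroup.normalizer (K : Set G) := by
  by_cases h : L.map (qmap p G) = K.map (qmap p G)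
  · exact pComponent_le_normalizer hK (h ▸ Subgroup.le_normalizer)
  · exact pComponent_le_normalizer hK
      (le_normalizer_of_commutator_eq_bot (components_commute hL.2.1 hK.2.1 h))

theorem pLayer_le_normalizer {K : Subgroup G} (hK : Cfsg.IsPComponent p K) :
    Cfsg.pLayer p G ≤ Subgroup.normalizer (K : Set G) :=
  sSup_le fun _ hL => pComponent_le_normalizer_pComponent hK hL

theorem pPrimeCore_le_normalizer {K : Subgroup G} (hK : Cfsg.IsPComponent p K) :
    Cfsg.pPrimeCore p G ≤ Subgroup.normalizer (K : Set G) := by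
  refine pComponent_le_normalizer hK ?_
  rw [(Subgroup.map_eq_bot_iff _).mpr ker_qmap.ge]
  exact bot_le

/-- `O_{p'}(K) = K ∩ O_{p'}(G)` for a `p`-component `K`. -/
theorem map_pPrimeCore_pComponent {K : Subgroup G} (hK : Cfsg.IsPComponent p K) :
    (Cfsg.pPrimeCore p K).map K.subtype = Cfsg.pPrimeCore p G ⊓ K := by
  refine le_antisymm
    (le_inf (Cores.map_pPrimeCore_le_of_isSubnormal hK.1) (Subgroup.map_subtype_le _)) ?_
  have h := Subgroup.map_mono (f := K.subtype) (Cores.subgroupOf_pPrimeCore_le (p := p) K)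
  rwa [Subgroup.subgroupOf_map_subtype] at h

/-- `K / O_{p'}(K)` is quasisimple. -/
theorem quasisimple_quotient_pComponent {K : Subgroup G} (hK : Cfsg.IsPComponent p K) :
    Cfsg.IsQuasisimple (↥K ⧸ Cfsg.pPrimeCore p K) := by
  have hker : ((qmap p G).subgroupMap K).ker = Cfsg.pPrimeCore p K := by
    ext x
    constructor
    · intro hx
      have h1 : (x : G) ∈ Cfsg.pPrimeCore p G ⊓ K := by
        refine ⟨?_, x.2⟩
        show (x : G) ∈ Cfsg.pPrimeCore p G
        rw [← ker_qmap (p := p) (G := G), MonoidHom.mem_ker]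
        exact congrArg Subtype.val (MonoidHom.mem_ker.mp hx)
      rw [← map_pPrimeCore_pComponent hK] at h1
      obtain ⟨y, hy, hyx⟩ := h1
      exact Subtype.ext hyx ▸ hy
    · intro hx
      have h1 : (x : G) ∈ Cfsg.pPrimeCore p G ⊓ K :=
        map_pPrimeCore_pComponent hK ▸ Subgroup.mem_map_of_mem K.subtype hx
      rw [MonoidHom.mem_ker]
      apply Subtype.ext
      exact (QuotientGroup.eq_one_iff _).mpr h1.1
  exact qs_congr ((QuotientGroup.quotientMulEquivOfEq hker.symm).trans
    (QuotientGroup.quotientKerEquivOfSurjective _ ((qmap p G).subgroupMap_surjective K))).symm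
    hK.2.1.2

/-- Distinct `p`-components commute modulo `O_{p'}`. -/
theorem commutator_pComponents_le {K L : Subgroup G} (hK : Cfsg.IsPComponent p K)
    (hL : Cfsg.IsPComponent p L) (hne : K ≠ L) :
    ⁅K, L⁆ ≤ Cfsg.pPrimeCore p G ⊓ K ⊓ L := by
  refine le_inf (le_inf ?_ ?_) ?_
  · rw [← ker_qmap (p := p) (G := G), ← Subgroup.map_eq_bot_iff, Subgroup.map_commutator]
    exact components_commute hK.2.1 hL.2.1 fun h => hne (pComponent_ext hK hL h)
  · rw [Subgroup.commutator_comm]
    exact commutator_le_of_le_normalizer (pComponent_le_normalizer_pComponent hK hL)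
  · exact commutator_le_of_le_normalizer (pComponent_le_normalizer_pComponent hL hK)

theorem pComponent_not_le_pPrimeCore {K : Subgroup G} (hK : Cfsg.IsPComponent p K) :
    ¬ K ≤ Cfsg.pPrimeCore p G := fun h =>
  qsSub_ne_bot hK.2.1.2 ((Subgroup.map_eq_bot_iff _).mpr (h.trans ker_qmap.ge))

theorem quasisimple_of_commutator_core {K : Subgroup G} (hK : Cfsg.IsPComponent p K)
    (h : ⁅K, Cfsg.pPrimeCore p G ⊓ K⁆ = ⊥) : Cfsg.IsQuasisimple K := by
  have hperf := pComponent_perfect hK
  haveI : Nontrivial K :=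
    (Subgroup.nontrivial_iff_ne_bot K).mpr fun hb => pComponent_not_le_pPrimeCore hK (hb ▸ bot_le)
  refine qs_of_perfect (Subgroup.isPerfect_iff.mpr hperf) fun N hN hNt => ?_
  set A := N.map K.subtype with hA
  have hAK : A ≤ K := Subgroup.map_subtype_le _
  have hAn : (A.subgroupOf K).Normal := by
    rwa [hA, Subgroup.subgroupOf, Subgroup.comap_map_eq_self_of_injective K.subtype_injective]
  have hAs : A.IsSubnormal := .step _ _ hAK hK.1 hAn
  have hc : ⁅K, A⁆ = ⊥ := by
    rcases component_le_or_commutator_eq_bot hK.2.1 (K := A.map (qmap p G))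
        (hAs.map qmap_surjective) with h' | h'
    · exfalso
      apply hNt
      have : A = K := le_antisymm hAK ((pComponent_le_iff hK hAs).mpr h')
      exact Subgroup.map_subtype_inj.mp (this.trans
        (by rw [← MonoidHom.range_eq_map, Subgroup.range_subtype]))
    · have h2 : ⁅K, A⁆ ≤ Cfsg.pPrimeCore p G ⊓ K := by
        refine le_inf ?_ ((Subgroup.commutator_mono le_rfl hAK).trans
          (Subgroup.commutator_le_self K))
        rw [← ker_qmap (p := p) (G := G), ← Subgroup.map_eq_bot_iff, Subgroup.map_commutator]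
        exact h'
      refine commutator_eq_bot_of_perfect hperf (le_bot_iff.mp ?_)
      exact ((Subgroup.commutator_mono h2 le_rfl).trans
        (le_of_eq (Subgroup.commutator_comm _ _))).trans h.le
  intro x hx
  rw [Subgroup.mem_center_iff]
  exact fun y => Subtype.ext (commute_of_commutator_eq_bot hc y.2 ⟨x, hx, rfl⟩)

/-- A `p`-component is quasisimple iff it centralizes `O_{p'}(G)`. -/
theorem quasisimple_iff_commutator_core {K : Subgroup G} (hK : Cfsg.IsPComponent p K) :
    Cfsg.IsQuasisimple K ↔ ⁅K, Cfsg.pPrimeCore p G⁆ = ⊥ :=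
  ⟨fun h => (component_le_or_commutator_eq_bot_normal ⟨hK.1, h⟩ _).resolve_left
      (pComponent_not_le_pPrimeCore hK),
    fun h => quasisimple_of_commutator_core hK
      (le_bot_iff.mp ((Subgroup.commutator_mono le_rfl inf_le_left).trans h.le))⟩

theorem quasisimple_iff_commutator_core_self {K : Subgroup G} (hK : Cfsg.IsPComponent p K) :
    Cfsg.IsQuasisimple K ↔ ⁅K, (Cfsg.pPrimeCore p K).map K.subtype⁆ = ⊥ := by
  rw [map_pPrimeCore_pComponent hK]
  exact ⟨fun h => le_bot_iff.mp ((Subgroup.commutator_mono le_rfl inf_le_left).trans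
    ((quasisimple_iff_commutator_core hK).mp h).le), quasisimple_of_commutator_core hK⟩

/-- A perfect subnormal subgroup of a `p`-component of order divisible by `p` is all of it. -/
theorem pComponent_minimal_perfect {K A : Subgroup G} (hK : Cfsg.IsPComponent p K) (hle : A ≤ K)
    (hA : A.IsSubnormal) (hperf : ⁅A, A⁆ = A) (hdvd : p ∣ Nat.card A) : A = K := by
  rcases component_le_or_commutator_eq_bot hK.2.1 (K := A.map (qmap p G))
      (hA.map qmap_surjective) with h | h
  · exact le_antisymm hle ((pComponent_le_iff hK hA).mpr h)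
  · exfalso
    have h2 : A.map (qmap p G) = ⊥ := le_bot_iff.mp (by
      rw [← hperf, Subgroup.map_commutator]
      exact (Subgroup.commutator_mono (Subgroup.map_mono hle) le_rfl).trans h.le)
    have h3 : A ≤ Cfsg.pPrimeCore p G := ((Subgroup.map_eq_bot_iff _).mp h2).trans ker_qmap.le
    exact Cores.not_dvd_card_pPrimeCore (p := p) (G := G)
      (hdvd.trans (Subgroup.card_dvd_of_le h3))

/-- A component with image a nontrivial subgroup is a `p`-component. -/
theorem isPComponent_of_component {L : Subgroup G} (hL : Cfsg.IsComponent L)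
    (h : ¬ L ≤ Cfsg.pPrimeCore p G) : Cfsg.IsPComponent p L := by
  refine ⟨hL.1, ⟨hL.1.map qmap_surjective, ?_⟩, fun A hA hle hmap => ?_⟩
  · haveI : Nontrivial (L.map (QuotientGroup.mk' (Cfsg.pPrimeCore p G))) := by
      rw [Subgroup.nontrivial_iff_ne_bot]
      intro hb
      rw [Subgroup.map_eq_bot_iff, QuotientGroup.ker_mk'] at hb
      exact h hb
    exact qs_of_surjective hL.2 _ (MonoidHom.subgroupMap_surjective _ L)
  · refine (component_le_or_commutator_eq_bot hL hA).elim (fun h' => le_antisymm hle h') fun h' => ?_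
    exfalso
    apply h
    rw [← ker_qmap (p := p) (G := G), ← Subgroup.map_eq_bot_iff, ← component_perfect hL,
      Subgroup.map_commutator]
    calc ⁅L.map (qmap p G), L.map (qmap p G)⁆ = ⁅L.map (qmap p G), A.map (qmap p G)⁆ := by
          rw [show A.map (qmap p G) = L.map (qmap p G) from hmap]
      _ = ⊥ := by rw [← Subgroup.map_commutator, h', Subgroup.map_bot]

/-- `E(G)` maps onto `E(G/O_{p'}(G))` iff every `p`-component is a component. -/
theorem map_layer_eq_iff :
    (Cfsg.layer G).map (qmap p G) = Cfsg.layer (G ⧸ Cfsg.pPrimeCore p G) ↔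
      Cfsg.pLayer p G ≤ Cfsg.layer G := by
  constructor
  · intro h
    refine sSup_le fun K hK => ?_
    obtain ⟨L, hL, hLK⟩ : ∃ L : Subgroup G, Cfsg.IsComponent L ∧
        K.map (qmap p G) ≤ L.map (qmap p G) := by
      by_contra hno
      simp only [not_exists, not_and] at hno
      apply qsSub_ne_bot hK.2.1.2
      have h1 : ⁅K.map (qmap p G), (Cfsg.layer G).map (qmap p G)⁆ = ⊥ := by
        rw [Subgroup.commutator_eq_bot_iff_le_centralizer, Subgroup.le_centralizer_iff,
          Subgroup.map_le_iff_le_comap]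
        refine layer_le_iff.mpr fun L hL => Subgroup.map_le_iff_le_comap.mp ?_
        refine Subgroup.le_centralizer_iff.mp (Subgroup.commutator_eq_bot_iff_le_centralizer.mp ?_)
        exact (component_le_or_commutator_eq_bot hK.2.1 (hL.1.map qmap_surjective)).resolve_left
          (hno L hL)
      rw [h] at h1
      exact le_bot_iff.mp ((component_perfect hK.2.1).ge.trans
        ((Subgroup.commutator_mono le_rfl (component_le_layer hK.2.1)).trans h1.le))
    exact ((pComponent_le_iff hK hL.1).mpr hLK).trans (component_le_layer hL)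
  · intro h
    refine le_antisymm (Subgroup.map_le_iff_le_comap.mpr (layer_le_iff.mpr fun L hL => ?_))
      (map_pLayer.ge.trans (Subgroup.map_mono h))
    refine Subgroup.map_le_iff_le_comap.mp ?_
    by_cases hb : L ≤ Cfsg.pPrimeCore p G
    · rw [(Subgroup.map_eq_bot_iff _).mpr (hb.trans ker_qmap.ge)]
      exact bot_le
    · exact component_le_layer (isPComponent_of_component (p := p) hL hb).2.1

end Cfsg.Agent.Components
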