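import Mathlib
import Cfsg.Agent.Components.PComponent
import Cfsg.Agent.Cores.Fitting
import Cfsg.Agent.Cores.Constrained
import Cfsg.Agent.Coprime.Centralize

/-!
Components and cores of `p`-local subgroups; the criterion `F*(G) = O_p(G)`.
-/

namespace Cfsg.Agent.Components

set_option linter.style.haveILetI false
set_option linter.unusedSectionVars false

open Cfsg.Agent

variable {G : Type*} [Group G] {p : ℕ}

/-- If `L` normalizes the nilpotent `Q`, centralizes `P ≤ Q` and `N_Q(P)`, and centralizes any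
subgroup `Z` whenever it centralizes `[Z,L]`, then `L` centralizes `Q`. -/
theorem centralizes_nilpotent [Finite G] {L Q P : Subgroup G} [hQ : Group.IsNilpotent Q]
    (hact : ∀ Z : Subgroup G, Z ≤ Q → L ≤ Subgroup.normalizer (Z : Set G) →
      ⁅⁅Z, L⁆, L⁆ = ⊥ → ⁅Z, L⁆ = ⊥)
    (hPQ : P ≤ Q) (hLQ : L ≤ Subgroup.normalizer (Q : Set G)) (hP : ⁅P, L⁆ = ⊥)
    (hN : ⁅Q ⊓ Subgroup.normalizer (P : Set G), L⁆ = ⊥) : ⁅Q, L⁆ = ⊥ := by
  obtain ⟨R, ⟨hPR, hRQ, hRL⟩, hmax⟩ := (Set.toFinite
      {R : Subgroup G | P ≤ R ∧ R ≤ Q ∧ ⁅R, L⁆ = ⊥}).exists_maximal ⟨P, le_rfl, hPQ, hP⟩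
  by_cases hR : R = Q
  · exact hR ▸ hRL
  exfalso
  set R' := Q ⊓ Subgroup.normalizer (R : Set G) with hR'
  have hRR' : R ≤ R' := le_inf hRQ Subgroup.le_normalizer
  have hLR : L ≤ Subgroup.normalizer (R' : Set G) := by
    have h1 : L ≤ Subgroup.normalizer ((Subgroup.normalizer (R : Set G) : Subgroup G) : Set G) :=
      (le_normalizer_of_commutator_eq_bot (by rwa [Subgroup.commutator_comm])).trans
        Subgroup.le_normalizer
    exact (le_inf hLQ h1).trans Subgroup.inf_normalizer_le_normalizer_inf
  have hlt : R < R' := by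
    refine lt_of_le_of_ne hRR' fun he => ?_
    have hne : R.subgroupOf Q < ⊤ := lt_top_iff_ne_top.mpr fun ht =>
      hR (le_antisymm hRQ (Subgroup.subgroupOf_eq_top.mp ht))
    have := Group.normalizerCondition_of_isNilpotent (R.subgroupOf Q) hne
    rw [← Subgroup.subgroupOf_normalizer_eq hRQ] at this
    refine this.not_ge ?_
    intro x hx
    exact Subgroup.mem_subgroupOf.mpr (he.ge ⟨x.2, hx⟩)
  have hcomm : ⁅⁅R', L⁆, R⁆ = ⊥ := by
    have h1 : ⁅⁅L, R⁆, R'⁆ = ⊥ := by
      rw [Subgroup.commutator_comm L R, hRL, Subgroup.commutator_bot_left]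
    have h2 : ⁅⁅R, R'⁆, L⁆ = ⊥ := by
      refine le_bot_iff.mp ((Subgroup.commutator_mono ?_ le_rfl).trans hRL.le)
      rw [Subgroup.commutator_comm]
      exact commutator_le_of_le_normalizer inf_le_right
    exact Subgroup.commutator_commutator_eq_bot_of_rotate h1 h2
  have hle : ⁅R', L⁆ ≤ Q ⊓ Subgroup.normalizer (P : Set G) := by
    refine le_inf ?_ ?_
    · exact (Subgroup.commutator_mono inf_le_left le_rfl).trans
        (Subgroup.le_normalizer_iff_commutator_le_left.mp hLQ)
    · exact le_normalizer_of_commutator_eq_bot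
        (le_bot_iff.mp ((Subgroup.commutator_mono le_rfl hPR).trans hcomm.le))
  have hzero : ⁅R', L⁆ = ⊥ := hact R' inf_le_left hLR
    (le_bot_iff.mp ((Subgroup.commutator_mono hle le_rfl).trans hN.le))
  exact hlt.not_ge (hmax ⟨hPR.trans hRR', inf_le_left, hzero⟩ hRR')

theorem centralizes_nilpotent_of_perfect [Finite G] {L Q P : Subgroup G}
    [Group.IsNilpotent Q] (hL : ⁅L, L⁆ = L) (hPQ : P ≤ Q)
    (hLQ : L ≤ Subgroup.normalizer (Q : Set G)) (hP : ⁅P, L⁆ = ⊥)
    (hN : ⁅Q ⊓ Subgroup.normalizer (P : Set G), L⁆ = ⊥) : ⁅Q, L⁆ = ⊥ :=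
  centralizes_nilpotent (fun _ _ _ h => commutator_eq_bot_of_perfect' hL h) hPQ hLQ hP hN

theorem centralizes_nilpotent_of_coprime [Finite G] {L Q P : Subgroup G}
    [Group.IsNilpotent Q] (hcop : (Nat.card L).Coprime (Nat.card Q)) (hPQ : P ≤ Q)
    (hLQ : L ≤ Subgroup.normalizer (Q : Set G)) (hP : ⁅P, L⁆ = ⊥)
    (hN : ⁅Q ⊓ Subgroup.normalizer (P : Set G), L⁆ = ⊥) : ⁅Q, L⁆ = ⊥ :=
  centralizes_nilpotent (fun Z hZ hn h => by
    rw [Subgroup.commutator_comm, Subgroup.commutator_eq_bot_iff_le_centralizer]
    exact Coprime.le_centralizer_of_commutator_le_centralizer hn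
      (hcop.coprime_dvd_right (Subgroup.card_dvd_of_le hZ))
      (Subgroup.commutator_eq_bot_iff_le_centralizer.mp h)) hPQ hLQ hP hN

theorem inf_normalizer_le_normalizer_sup (A B : Subgroup G) :
    Subgroup.normalizer (A : Set G) ⊓ Subgroup.normalizer (B : Set G) ≤
      Subgroup.normalizer ((A ⊔ B : Subgroup G) : Set G) := fun g hg =>
  mem_normalizer_of_map_conj_eq (by
    rw [Subgroup.map_sup, map_conj_eq_of_mem_normalizer hg.1, map_conj_eq_of_mem_normalizer hg.2])

variable [Finite G] [hp : Fact p.Prime]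

theorem isNilpotent_pCore : Group.IsNilpotent (Cfsg.pCore p G) :=
  (isPGroup_pCore p).isNilpotent

/-- The condition on a subgroup `A ≤ N` to centralize `O_p(G)` given that it centralizes every
normal `p`-subgroup of `N = N_G(P)`; `A` perfect. -/
theorem commutator_pCore_of_perfect {P : Subgroup G} (hP : IsPGroup p P) {A : Subgroup G}
    (hA : ⁅A, A⁆ = A) (hle : A ≤ Subgroup.normalizer (P : Set G))
    (h : ∀ S : Subgroup G, IsPGroup p S → S ≤ Subgroup.normalizer (P : Set G) →
      Subgroup.normalizer (P : Set G) ≤ Subgroup.normalizer (S : Set G) → ⁅S, A⁆ = ⊥) :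
    ⁅Cfsg.pCore p G, A⁆ = ⊥ := by
  haveI : Group.IsNilpotent (Cfsg.pCore p G ⊔ P : Subgroup G) :=
    ((isPGroup_pCore p).to_sup_of_normal_left hP).isNilpotent
  have hPA : ⁅P, A⁆ = ⊥ := h P hP Subgroup.le_normalizer le_rfl
  refine le_bot_iff.mp ((Subgroup.commutator_mono (le_sup_left (b := P)) le_rfl).trans (le_of_eq ?_))
  refine centralizes_nilpotent_of_perfect hA le_sup_right ?_ hPA
    (h _ (((isPGroup_pCore p).to_sup_of_normal_left hP).to_le inf_le_left) inf_le_right ?_)
  · exact (le_inf (le_normalizer_of_normal _) hle).trans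
      (inf_normalizer_le_normalizer_sup _ _)
  · refine (le_inf ?_ Subgroup.le_normalizer).trans Subgroup.inf_normalizer_le_normalizer_inf
    exact (le_inf (le_normalizer_of_normal _) le_rfl).trans
      (inf_normalizer_le_normalizer_sup _ _)

theorem commutator_pCore_of_coprime {P : Subgroup G} (hP : IsPGroup p P) {A : Subgroup G}
    (hA : (Nat.card A).Coprime p) (hle : A ≤ Subgroup.normalizer (P : Set G))
    (hn : Subgroup.normalizer (P : Set G) ≤ Subgroup.normalizer (A : Set G)) :
    ⁅Cfsg.pCore p G, A⁆ = ⊥ := by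
  have hpg := (isPGroup_pCore p (G := G)).to_sup_of_normal_left hP
  haveI : Group.IsNilpotent (Cfsg.pCore p G ⊔ P : Subgroup G) := hpg.isNilpotent
  have key : ∀ S : Subgroup G, IsPGroup p S → S ≤ Subgroup.normalizer (A : Set G) →
      A ≤ Subgroup.normalizer (S : Set G) → ⁅S, A⁆ = ⊥ := by
    intro S hS h1 h2
    rw [← le_bot_iff, ← Cores.disjoint_of_isPGroup_of_coprime hS hA]
    exact le_inf (Subgroup.le_normalizer_iff_commutator_le_left.mp h2)
      (Subgroup.le_normalizer_iff_commutator_le_right.mp h1)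
  refine le_bot_iff.mp ((Subgroup.commutator_mono (le_sup_left (b := P)) le_rfl).trans (le_of_eq ?_))
  refine centralizes_nilpotent_of_coprime ?_ le_sup_right ?_
    (key P hP (Subgroup.le_normalizer.trans hn) hle)
    (key _ (hpg.to_le inf_le_left) (inf_le_right.trans hn) ?_)
  · obtain ⟨n, hn⟩ := IsPGroup.iff_card.mp hpg
    rw [hn]
    exact hA.pow_right n
  · exact (le_inf (le_normalizer_of_normal _) hle).trans
      (inf_normalizer_le_normalizer_sup _ _)
  · exact (le_inf ((le_inf (le_normalizer_of_normal _) hle).trans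
      (inf_normalizer_le_normalizer_sup _ _)) (hle.trans Subgroup.le_normalizer)).trans
      Subgroup.inf_normalizer_le_normalizer_inf

/-- A component of `N_G(P)` centralizes `O_p(G)`. -/
theorem qs_normalizer_commutator_pCore {P : Subgroup G} (hP : IsPGroup p P) {L : Subgroup G}
    (hqs : Cfsg.IsQuasisimple L) (hle : L ≤ Subgroup.normalizer (P : Set G))
    (hsn : (L.subgroupOf (Subgroup.normalizer (P : Set G))).IsSubnormal) :
    ⁅Cfsg.pCore p G, L⁆ = ⊥ :=
  commutator_pCore_of_perfect hP (qsSub_perfect hqs) hle fun S hS hSN hn => by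
    rw [Subgroup.commutator_comm]
    haveI := hS.isNilpotent
    exact (qs_subnormal_le_or_commutator_eq_bot hqs hle hsn hSN hn).resolve_left
      (qsSub_not_le_of_isSolvable hqs inferInstance)

theorem fitting_le_pCore (h : Cfsg.pPrimeCore p G = ⊥) :
    Cfsg.fittingSubgroup G ≤ Cfsg.pCore p G := by
  have := Cores.iSup_pCore_le_sup (G := G) p
  rwa [h, bot_sup_eq, ← Cores.iSup_pCore_eq_fittingSubgroup] at this

/-- `F*(G) = O_p(G)` iff `O_p(G)` contains its centralizer. -/
theorem genFitting_eq_pCore_iff :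
    Cfsg.generalizedFittingSubgroup G = Cfsg.pCore p G ↔
      Subgroup.centralizer (Cfsg.pCore p G : Set G) ≤ Cfsg.pCore p G := by
  constructor
  · intro h
    exact h ▸ centralizer_genFitting_le
  · intro h
    have hF : Cfsg.pPrimeCore p G = ⊥ := by
      rw [← le_bot_iff, ← Cores.pCore_inf_pPrimeCore (p := p) (G := G)]
      exact le_inf (fun x hx => h fun y hy =>
        (Cores.commute_pCore_pPrimeCore hy hx).eq) le_rfl
    refine le_antisymm (sup_le (layer_le_iff.mpr fun L hL => ?_) (fitting_le_pCore hF))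
      ((pCore_le_fitting p).trans fitting_le_genFitting)
    exfalso
    haveI : Group.IsNilpotent (Cfsg.pCore p G) := isNilpotent_pCore
    exact qsSub_not_le_of_isSolvable hL.2 inferInstance ((Subgroup.commutator_eq_bot_iff_le_centralizer.mp
      (component_commutator_solvable hL inferInstance (le_normalizer_of_normal _))).trans h)

theorem genFitting_eq_pCore_iff_cores :
    Cfsg.generalizedFittingSubgroup G = Cfsg.pCore p G ↔
      Cfsg.layer G = ⊥ ∧ Cfsg.pPrimeCore p G = ⊥ := by
  constructor
  · intro h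
    haveI : Group.IsNilpotent (Cfsg.pCore p G) := isNilpotent_pCore
    refine ⟨layer_eq_bot_iff.mpr fun L hL => ?_, ?_⟩
    · exact qsSub_not_le_of_isSolvable hL.2 inferInstance
        (((component_le_layer hL).trans layer_le_genFitting).trans h.le)
    · rw [← le_bot_iff, ← Cores.pCore_inf_pPrimeCore (p := p) (G := G)]
      exact le_inf (fun x hx => (h ▸ centralizer_genFitting_le :
        Subgroup.centralizer (Cfsg.pCore p G : Set G) ≤ Cfsg.pCore p G) fun y hy =>
          (Cores.commute_pCore_pPrimeCore hy hx).eq) le_rfl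
  · rintro ⟨h1, h2⟩
    refine le_antisymm (sup_le (h1 ▸ bot_le) (fitting_le_pCore h2))
      ((pCore_le_fitting p).trans fitting_le_genFitting)

variable {P : Subgroup G}

theorem no_qs_normalizer (hF : Cfsg.generalizedFittingSubgroup G = Cfsg.pCore p G)
    (hP : IsPGroup p P) {L : Subgroup G} (hqs : Cfsg.IsQuasisimple L)
    (hle : L ≤ Subgroup.normalizer (P : Set G))
    (hsn : (L.subgroupOf (Subgroup.normalizer (P : Set G))).IsSubnormal) : False := by
  haveI : Group.IsNilpotent (Cfsg.pCore p G) := isNilpotent_pCore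
  refine qsSub_not_le_of_isSolvable hqs inferInstance (A := Cfsg.pCore p G) ?_
  refine le_trans ?_ (genFitting_eq_pCore_iff.mp hF)
  rw [← Subgroup.commutator_eq_bot_iff_le_centralizer, Subgroup.commutator_comm]
  exact qs_normalizer_commutator_pCore hP hqs hle hsn

theorem no_coprime_normal_normalizer (hF : Cfsg.generalizedFittingSubgroup G = Cfsg.pCore p G)
    (hP : IsPGroup p P) {A : Subgroup G} (hA : (Nat.card A).Coprime p)
    (hle : A ≤ Subgroup.normalizer (P : Set G))
    (hn : Subgroup.normalizer (P : Set G) ≤ Subgroup.normalizer (A : Set G)) : A = ⊥ := by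
  rw [← le_bot_iff, ← Cores.disjoint_of_isPGroup_of_coprime (isPGroup_pCore p (G := G)) hA]
  refine le_inf (le_trans ?_ (genFitting_eq_pCore_iff.mp hF)) le_rfl
  rw [← Subgroup.commutator_eq_bot_iff_le_centralizer, Subgroup.commutator_comm]
  exact commutator_pCore_of_coprime hP hA hle hn

theorem subgroupOf_map_subtype_self {T : Subgroup G} (A : Subgroup T) :
    (A.map T.subtype).subgroupOf T = A :=
  Subgroup.comap_map_eq_self_of_injective T.subtype_injective A

theorem le_normalizer_map_subtype {T : Subgroup G} (A : Subgroup T) [hA : A.Normal] :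
    T ≤ Subgroup.normalizer ((A.map T.subtype : Subgroup G) : Set G) :=
  le_normalizer_of_normal_subgroupOf (Subgroup.map_subtype_le A)
    (by rwa [subgroupOf_map_subtype_self])

/-- If `F*(G) = O_p(G)`, the same holds for normalizers of `p`-subgroups. -/
theorem genFitting_normalizer (hF : Cfsg.generalizedFittingSubgroup G = Cfsg.pCore p G)
    (hP : IsPGroup p P) :
    Cfsg.generalizedFittingSubgroup (Subgroup.normalizer (P : Set G)) =
      Cfsg.pCore p (Subgroup.normalizer (P : Set G)) := by
  set N := Subgroup.normalizer (P : Set G)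
  refine genFitting_eq_pCore_iff_cores.mpr ⟨layer_eq_bot_iff.mpr fun L hL => ?_, ?_⟩
  · refine no_qs_normalizer hF hP (L := L.map N.subtype) ?_ (Subgroup.map_subtype_le _) ?_
    · exact qs_congr (L.equivMapOfInjective _ N.subtype_injective) hL.2
    · rw [subgroupOf_map_subtype_self]; exact hL.1
  · have := no_coprime_normal_normalizer hF hP
      (A := (Cfsg.pPrimeCore p N).map N.subtype) ?_ (Subgroup.map_subtype_le _)
      (le_normalizer_map_subtype _)
    · exact (Subgroup.map_eq_bot_iff_of_injective _ N.subtype_injective).mp this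
    · rw [Subgroup.card_map_of_injective N.subtype_injective]
      exact Cores.coprime_card_pPrimeCore

/-- If `t ∈ T` is centralized by the `p`-group `T` and `F*(C(t)) = O_p(C(t))`, then
`F*(N(T)) = O_p(N(T))`. -/
theorem genFitting_normalizer_of_central {T : Subgroup G} (hT : IsPGroup p T) {t : G}
    (htT : t ∈ T) (hTC : T ≤ Subgroup.centralizer ({t} : Set G))
    (hF : Cfsg.generalizedFittingSubgroup (Subgroup.centralizer ({t} : Set G)) =
      Cfsg.pCore p (Subgroup.centralizer ({t} : Set G))) :
    Cfsg.generalizedFittingSubgroup (Subgroup.normalizer (T : Set G)) =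
      Cfsg.pCore p (Subgroup.normalizer (T : Set G)) := by
  set C := Subgroup.centralizer ({t} : Set G)
  set N := Subgroup.normalizer (T : Set G)
  have hnC : Subgroup.normalizer ((T.subgroupOf C : Subgroup C) : Set C) = N.subgroupOf C :=
    (Subgroup.subgroupOf_normalizer_eq hTC).symm
  have hTC' : IsPGroup p (T.subgroupOf C) := hT.comap_subtype
  have hcent : ∀ A : Subgroup G, ⁅A, T⁆ = ⊥ → A ≤ C := fun A hA x hx =>
    Subgroup.mem_centralizer_singleton_iff.mpr (commute_of_commutator_eq_bot hA hx htT)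
  refine genFitting_eq_pCore_iff_cores.mpr ⟨layer_eq_bot_iff.mpr fun L hL => ?_, ?_⟩
  · set A := L.map N.subtype
    have hAqs : Cfsg.IsQuasisimple A := qs_congr (L.equivMapOfInjective _ N.subtype_injective) hL.2
    haveI := hT.isNilpotent
    have hAT : ⁅A, T⁆ = ⊥ := (qs_subnormal_le_or_commutator_eq_bot hAqs (Subgroup.map_subtype_le _)
      (by rw [subgroupOf_map_subtype_self]; exact hL.1) Subgroup.le_normalizer le_rfl).resolve_left
      (qsSub_not_le_of_isSolvable hAqs inferInstance)
    refine no_qs_normalizer hF hTC' (L := A.subgroupOf C)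
      (qs_congr (Subgroup.subgroupOfEquivOfLe (hcent A hAT)).symm hAqs) ?_ ?_
    · rw [hnC]
      exact Subgroup.comap_mono (Subgroup.map_subtype_le _)
    · rw [hnC]
      have := hL.1.comap (((C.subtype.comp (N.subgroupOf C).subtype)).codRestrict N
        fun x => x.2)
      convert this using 1
      ext x
      simp only [Subgroup.mem_comap, Subgroup.mem_subgroupOf, A, Subgroup.mem_map]
      constructor
      · rintro ⟨y, hy, hyx⟩
        convert hy using 1
        exact Subtype.ext hyx.symm
      · exact fun hx => ⟨_, hx, rfl⟩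
  · set A := (Cfsg.pPrimeCore p N).map N.subtype
    have hAc : (Nat.card A).Coprime p := by
      rw [Subgroup.card_map_of_injective N.subtype_injective]
      exact Cores.coprime_card_pPrimeCore
    have hAN : N ≤ Subgroup.normalizer (A : Set G) := le_normalizer_map_subtype _
    have hAT : ⁅A, T⁆ = ⊥ := by
      rw [← le_bot_iff, ← Cores.disjoint_of_isPGroup_of_coprime hT hAc]
      exact le_inf (Subgroup.le_normalizer_iff_commutator_le_right.mp (Subgroup.map_subtype_le _))
        (Subgroup.le_normalizer_iff_commutator_le_left.mp (Subgroup.le_normalizer.trans hAN))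
    have := no_coprime_normal_normalizer hF hTC' (A := A.subgroupOf C) ?_ ?_ ?_
    · rw [Subgroup.subgroupOf_eq_bot, disjoint_iff, inf_eq_left.mpr (hcent A hAT)] at this
      exact (Subgroup.map_eq_bot_iff_of_injective _ N.subtype_injective).mp this
    · rw [Nat.card_congr (Subgroup.subgroupOfEquivOfLe (hcent A hAT)).toEquiv]
      exact hAc
    · rw [hnC]
      exact Subgroup.comap_mono (Subgroup.map_subtype_le _)
    · rw [hnC]
      exact (Subgroup.comap_mono hAN).trans (Subgroup.le_normalizer_comap _)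

/-- A nontrivial `p`-group has a central element of order `p`. -/
theorem exists_central_orderOf {T : Subgroup G} (hT : IsPGroup p T) (hT1 : T ≠ ⊥) :
    ∃ t ∈ T, orderOf t = p ∧ T ≤ Subgroup.centralizer ({t} : Set G) := by
  haveI : Nontrivial T := (Subgroup.nontrivial_iff_ne_bot T).mpr hT1
  have hZ : p ∣ Nat.card (Subgroup.center T) :=
    ((hT.to_subgroup (Subgroup.center T)).card_eq_or_dvd).resolve_left (fun h1 =>
      not_subsingleton_iff_nontrivial.mpr hT.center_nontrivial
        (Nat.card_eq_one_iff_unique.mp h1).1)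
  obtain ⟨z, hz⟩ := exists_prime_orderOf_dvd_card' p hZ
  refine ⟨((z : T) : G), (z : T).2, by rw [Subgroup.orderOf_coe, Subgroup.orderOf_coe, hz],
    fun x hx => ?_⟩
  rw [Subgroup.mem_centralizer_singleton_iff]
  exact congrArg Subtype.val (Subgroup.mem_center_iff.mp z.2 ⟨x, hx⟩)

/-- If `F*` of every centralizer of an element of order `p` is its `p`-core, so it is for every
`p`-local subgroup. -/
theorem genFitting_normalizer_of_centralizers
    (h : ∀ t : G, orderOf t = p →
      Cfsg.generalizedFittingSubgroup (Subgroup.centralizer ({t} : Set G)) =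
        Cfsg.pCore p (Subgroup.centralizer ({t} : Set G)))
    {T : Subgroup G} (hT : IsPGroup p T) (hT1 : T ≠ ⊥) :
    Cfsg.generalizedFittingSubgroup (Subgroup.normalizer (T : Set G)) =
      Cfsg.pCore p (Subgroup.normalizer (T : Set G)) := by
  obtain ⟨t, htT, hto, hTC⟩ := exists_central_orderOf hT hT1
  exact genFitting_normalizer_of_central hT htT hTC (h t hto)

/-- `F* = O_p` iff `F*` is a `p`-group. -/
theorem genFitting_eq_pCore_iff_isPGroup :
    Cfsg.generalizedFittingSubgroup G = Cfsg.pCore p G ↔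
      IsPGroup p (Cfsg.generalizedFittingSubgroup G) :=
  ⟨fun h => h ▸ isPGroup_pCore p, fun h => le_antisymm (le_pCore inferInstance h)
    ((pCore_le_fitting p).trans fitting_le_genFitting)⟩

theorem genFitting_eq_pCore_congr {H : Type*} [Group H] [Finite H] (e : G ≃* H) :
    Cfsg.generalizedFittingSubgroup G = Cfsg.pCore p G ↔
      Cfsg.generalizedFittingSubgroup H = Cfsg.pCore p H := by
  rw [← map_genFitting_equiv e, ← Cores.pCore_map_mulEquiv e]
  exact ⟨fun h => by rw [h], fun h => Subgroup.map_injective e.injective h⟩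

/-- A subnormal subgroup inherits `F* = O_p`. -/
theorem genFitting_eq_pCore_of_isSubnormal {S : Subgroup G} (hS : S.IsSubnormal)
    (h : Cfsg.generalizedFittingSubgroup G = Cfsg.pCore p G) :
    Cfsg.generalizedFittingSubgroup S = Cfsg.pCore p S := by
  rw [genFitting_eq_pCore_iff_isPGroup] at h ⊢
  have h1 : IsPGroup p ((Cfsg.generalizedFittingSubgroup S).map S.subtype) := by
    rw [genFitting_subnormal hS]
    exact h.to_le inf_le_left
  exact h1.of_equiv
    ((Cfsg.generalizedFittingSubgroup S).equivMapOfInjective _ S.subtype_injective).symm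

/-- `E(N_G(P)) = E(G)` for `P ≤ O_p(G)`. -/
theorem map_layer_normalizer_of_le_pCore (hP : P ≤ Cfsg.pCore p G) :
    (Cfsg.layer (Subgroup.normalizer (P : Set G))).map
      (Subgroup.normalizer (P : Set G)).subtype = Cfsg.layer G := by
  set N := Subgroup.normalizer (P : Set G) with hN
  have hPp : IsPGroup p P := (isPGroup_pCore p).to_le hP
  have hE : ⁅Cfsg.layer G, P⁆ = ⊥ := by
    haveI : Group.IsNilpotent (Cfsg.pCore p G) := isNilpotent_pCore
    exact le_bot_iff.mp ((Subgroup.commutator_mono le_rfl (hP.trans (pCore_le_fitting p))).trans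
      layer_commutator_fitting.le)
  have hEN : Cfsg.layer G ≤ N := le_normalizer_of_commutator_eq_bot hE
  refine le_antisymm (Subgroup.map_le_iff_le_comap.mpr (layer_le_iff.mpr fun L hL => ?_))
    (layer_le_iff.mpr fun L hL => ?_)
  · set A := L.map N.subtype
    have hAqs : Cfsg.IsQuasisimple A := qs_congr (L.equivMapOfInjective _ N.subtype_injective) hL.2
    have hAle : A ≤ N := Subgroup.map_subtype_le _
    have hAsn : (A.subgroupOf N).IsSubnormal := by rw [subgroupOf_map_subtype_self]; exact hL.1
    refine Subgroup.map_le_iff_le_comap.mp ?_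
    by_contra hne
    -- otherwise `A` centralizes `F*(G)`
    have h1 : ⁅Cfsg.layer G, A⁆ = ⊥ := by
      refine Subgroup.commutator_eq_bot_iff_le_centralizer.mpr (layer_le_iff.mpr fun K hK => ?_)
      rw [← Subgroup.commutator_eq_bot_iff_le_centralizer]
      have hKN : K ≤ N := (component_le_layer hK).trans hEN
      have h3 := components_commute (component_subgroupOf hK hKN) hL fun he => hne (by
        show L.map N.subtype ≤ _
        rw [← he, map_subgroupOf hKN]
        exact component_le_layer hK)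
      have h4 := congrArg (Subgroup.map N.subtype) h3
      rwa [Subgroup.map_commutator, Subgroup.map_bot, map_subgroupOf hKN] at h4
    have h2 : ⁅Cfsg.fittingSubgroup G, A⁆ = ⊥ := by
      rw [fitting_eq_iSup_pCore, Subgroup.commutator_eq_bot_iff_le_centralizer]
      refine iSup_le fun q => ?_
      haveI := Fact.mk (Nat.prime_of_mem_primeFactors q.2)
      rw [← Subgroup.commutator_eq_bot_iff_le_centralizer]
      by_cases hq : (q : ℕ) = p
      · rw [hq]
        exact qs_normalizer_commutator_pCore hPp hAqs hAle hAsn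
      · have hc : Cfsg.pCore (q : ℕ) G ≤ N := le_normalizer_of_commutator_eq_bot (le_bot_iff.mp (by
          refine (Subgroup.commutator_mono le_rfl hP).trans
            ((Subgroup.commutator_le_inf _ _).trans (le_of_eq ?_))
          exact disjoint_iff.mp (IsPGroup.disjoint_of_ne (q : ℕ) p hq _ _
            (isPGroup_pCore (q : ℕ)) (isPGroup_pCore p))))
        rw [Subgroup.commutator_comm]
        haveI : Group.IsNilpotent (Cfsg.pCore (q : ℕ) G) := isNilpotent_pCore
        exact (qs_subnormal_le_or_commutator_eq_bot hAqs hAle hAsn hc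
          (le_normalizer_of_normal _)).resolve_left (qsSub_not_le_of_isSolvable hAqs inferInstance)
    have h3 : A ≤ Subgroup.centralizer (Cfsg.generalizedFittingSubgroup G : Set G) := by
      rw [← Subgroup.commutator_eq_bot_iff_le_centralizer, Subgroup.commutator_comm,
        Subgroup.commutator_eq_bot_iff_le_centralizer]
      exact sup_le (Subgroup.commutator_eq_bot_iff_le_centralizer.mp h1)
        (Subgroup.commutator_eq_bot_iff_le_centralizer.mp h2)
    apply qsSub_ne_bot hAqs
    rw [← le_bot_iff, ← qsSub_perfect hAqs]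
    exact (Subgroup.commutator_mono le_rfl (h3.trans centralizer_genFitting_le)).trans
      (Subgroup.commutator_eq_bot_iff_le_centralizer.mpr h3).le
  · have hLN : L ≤ N := (component_le_layer hL).trans hEN
    conv_lhs => rw [← map_subgroupOf hLN]
    exact Subgroup.map_mono (component_le_layer (component_subgroupOf hL hLN))

end Cfsg.Agent.Components

namespace Cfsg.Agent.Components

set_option linter.style.haveILetI false
set_option linter.unusedSectionVars false

open Cfsg.Agent

variable {G : Type*} [Group G] [Finite G] {p : ℕ} [hp : Fact p.Prime]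

/-- Coprime lifting of normalizers. -/
theorem map_normalizer_of_coprime (R : Subgroup G) [R.Normal]
    (hR : (Nat.card R).Coprime p) {P : Subgroup G} (hP : IsPGroup p P) :
    (Subgroup.normalizer (P : Set G)).map (QuotientGroup.mk' R) =
      Subgroup.normalizer ((P.map (QuotientGroup.mk' R) : Subgroup (G ⧸ R)) : Set (G ⧸ R)) := by
  refine le_antisymm (Subgroup.le_normalizer_map _) fun z hz => ?_
  obtain ⟨g, rfl⟩ := QuotientGroup.mk'_surjective R z
  set M := P ⊔ R with hM
  set g' := (MulAut.conj g).toMonoidHom with hg'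
  have hconj : P.map g' ≤ M := by
    rintro _ ⟨x, hx, rfl⟩
    have h1 : QuotientGroup.mk' R (g * x * g⁻¹) ∈ P.map (QuotientGroup.mk' R) := by
      simpa only [map_mul, map_inv, SetLike.mem_coe] using
        (Subgroup.mem_normalizer_iff.mp hz _).mp (Subgroup.mem_map_of_mem _ hx)
    rw [← Subgroup.mem_comap, Subgroup.comap_map_eq, QuotientGroup.ker_mk'] at h1
    exact h1
  have hidx : ∀ S : Subgroup G, S ≤ M → Nat.card S = Nat.card P →
      ¬ p ∣ (S.subgroupOf M).index := by
    intro S hS hSc hdvd
    have h1 := Subgroup.relIndex_mul_relIndex ⊥ S M bot_le hS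
    rw [Subgroup.relIndex_bot_left, Subgroup.relIndex_bot_left, hSc] at h1
    have h2 : S.relIndex M ∣ Nat.card R := by
      have := Cores.card_sup_dvd P R
      rw [← hM, ← h1] at this
      exact (Nat.mul_dvd_mul_iff_left Nat.card_pos).mp this
    exact hp.out.not_dvd_one (hR.symm ▸ Nat.dvd_gcd dvd_rfl (hdvd.trans h2))
  let S₁ : Sylow p M := (hP.comap_subtype (K := M)).toSylow (hidx P le_sup_left rfl)
  let S₂ : Sylow p M := ((hP.map g').comap_subtype (K := M)).toSylow
    (hidx _ hconj (Subgroup.card_map_of_injective (MulAut.conj g).injective))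
  obtain ⟨m, hm⟩ := MulAction.exists_smul_eq M S₂ S₁
  obtain ⟨v, hv, u, hu, hvu⟩ := Subgroup.mem_sup_of_normal_right.mp m.2
  refine ⟨u * g, ?_, by
    rw [map_mul, show QuotientGroup.mk' R u = 1 from (QuotientGroup.eq_one_iff u).mpr hu, one_mul]⟩
  have h4 : P.map (MulAut.conj (u * g)).toMonoidHom ≤ P := by
    rintro _ ⟨x, hx, rfl⟩
    have h5 : (⟨g * x * g⁻¹, hconj ⟨x, hx, rfl⟩⟩ : M) ∈ (S₂ : Subgroup M) := ⟨x, hx, rfl⟩
    have h6 : m * ⟨g * x * g⁻¹, hconj ⟨x, hx, rfl⟩⟩ * m⁻¹ ∈ (S₁ : Subgroup M) := by
      rw [← hm, Sylow.coe_subgroup_smul]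
      exact ⟨_, h5, rfl⟩
    have h7 : (m : G) * (g * x * g⁻¹) * (m : G)⁻¹ ∈ P := h6
    rw [← hvu] at h7
    have h8 := P.mul_mem (P.mul_mem (P.inv_mem hv) h7) hv
    simpa [mul_assoc] using h8
  refine mem_normalizer_of_map_conj_eq ?_
  exact Subgroup.eq_of_le_of_card_ge h4
    (Subgroup.card_map_of_injective (MulAut.conj (u * g)).injective).ge

/-- The preimage of the layer of `G/O_{p'}(G)`. -/
theorem comap_layer_eq :
    (Cfsg.layer (G ⧸ Cfsg.pPrimeCore p G)).comap (qmap p G) =
      Cfsg.pLayer p G ⊔ Cfsg.pPrimeCore p G := by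
  rw [← map_pLayer, Subgroup.comap_map_eq, ker_qmap]

/-- A `p`-component centralizes every normal `p`-subgroup. -/
theorem pComponent_commutator_isPGroup {K : Subgroup G} (hK : Cfsg.IsPComponent p K)
    {S : Subgroup G} [S.Normal] (hS : IsPGroup p S) : ⁅S, K⁆ = ⊥ := by
  haveI : Group.IsNilpotent (S.map (qmap p G)) := (hS.map _).isNilpotent
  haveI : (S.map (qmap p G)).Normal :=
    (inferInstance : S.Normal).map _ qmap_surjective
  have h1 : ⁅K.map (qmap p G), S.map (qmap p G)⁆ = ⊥ :=
    component_commutator_solvable hK.2.1 inferInstance (le_normalizer_of_normal _)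
  rw [Subgroup.commutator_comm, ← Subgroup.map_commutator, Subgroup.map_eq_bot_iff, ker_qmap] at h1
  rw [← le_bot_iff, ← Cores.disjoint_of_isPGroup_of_coprime hS
    (Cores.coprime_card_pPrimeCore (p := p) (G := G))]
  exact le_inf (Subgroup.commutator_le_left _ _) h1

/-- For a `p`-subgroup `P`, the preimage in `N_G(P)` of `E(N_G(P)/O_{p'})` centralizes `O_p(G)`. -/
theorem comap_layer_normalizer_le_centralizer {P : Subgroup G} (hP : IsPGroup p P) :
    ((Cfsg.layer (_ ⧸ Cfsg.pPrimeCore p (Subgroup.normalizer (P : Set G)))).comap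
        (qmap p (Subgroup.normalizer (P : Set G)))).map
      (Subgroup.normalizer (P : Set G)).subtype ≤ Subgroup.centralizer (Cfsg.pCore p G : Set G) := by
  set N := Subgroup.normalizer (P : Set G)
  rw [comap_layer_eq, Subgroup.map_sup]
  refine sup_le ?_ ?_
  · rw [Cfsg.pLayer, Subgroup.map_le_iff_le_comap]
    refine sSup_le fun K hK => Subgroup.map_le_iff_le_comap.mp ?_
    rw [← Subgroup.commutator_eq_bot_iff_le_centralizer, Subgroup.commutator_comm]
    refine commutator_pCore_of_perfect hP ?_ (Subgroup.map_subtype_le _) fun S hS hSN hn => ?_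
    · rw [← Subgroup.map_commutator, pComponent_perfect hK]
    · haveI : (S.subgroupOf N).Normal :=
        (Subgroup.normal_subgroupOf_iff_le_normalizer hSN).mpr hn
      have := pComponent_commutator_isPGroup hK (S := S.subgroupOf N) hS.comap_subtype
      have h4 := congrArg (Subgroup.map N.subtype) this
      rwa [Subgroup.map_commutator, Subgroup.map_bot, map_subgroupOf hSN] at h4
  · rw [← Subgroup.commutator_eq_bot_iff_le_centralizer, Subgroup.commutator_comm]
    refine commutator_pCore_of_coprime hP ?_ (Subgroup.map_subtype_le _)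
      (le_normalizer_map_subtype _)
    rw [Subgroup.card_map_of_injective N.subtype_injective]
    exact Cores.coprime_card_pPrimeCore

/-- If `L_{p'}(G) = 1` the same holds in `p`-local subgroups, and their `p'`-cores lie in
`O_{p'}(G)`. -/
theorem pLayer_normalizer_eq_bot (hL : Cfsg.pLayer p G = ⊥) {P : Subgroup G}
    (hP : IsPGroup p P) :
    Cfsg.pLayer p (Subgroup.normalizer (P : Set G)) = ⊥ ∧
      (Cfsg.pPrimeCore p (Subgroup.normalizer (P : Set G))).map
        (Subgroup.normalizer (P : Set G)).subtype ≤ Cfsg.pPrimeCore p G := by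
  set N := Subgroup.normalizer (P : Set G)
  set R := Cfsg.pPrimeCore p G
  have hFQ : Cfsg.generalizedFittingSubgroup (G ⧸ R) = Cfsg.pCore p (G ⧸ R) :=
    genFitting_eq_pCore_iff_cores.mpr
      ⟨pLayer_eq_bot_iff.mp hL, pPrimeCore_quotient_eq_bot⟩
  set M := Subgroup.normalizer ((P.map (qmap p G) : Subgroup (G ⧸ R)) : Set (G ⧸ R))
  have hMF := genFitting_eq_pCore_iff_cores.mp (genFitting_normalizer hFQ (hP.map (qmap p G)))
  have hmap : N.map (qmap p G) = M :=
    map_normalizer_of_coprime R Cores.coprime_card_pPrimeCore hP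
  let f : N →* M := ((qmap p G).comp N.subtype).codRestrict M fun x =>
    hmap.le ⟨x, x.2, rfl⟩
  have hf : Function.Surjective f := fun y => by
    obtain ⟨x, hx, hxy⟩ := hmap.ge y.2
    exact ⟨⟨x, hx⟩, Subtype.ext hxy⟩
  have hmem : ∀ x : N, x ∈ f.ker ↔ (x : G) ∈ R := fun x => by
    rw [MonoidHom.mem_ker, Subtype.ext_iff]
    exact QuotientGroup.eq_one_iff _
  have hle : f.ker = Cfsg.pPrimeCore p N := by
    refine le_antisymm ?_ ?_
    · refine le_trans ?_ (Cores.subgroupOf_pPrimeCore_le N)
      exact fun x hx => (hmem x).mp hx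
    · rw [← Subgroup.map_eq_bot_iff, ← le_bot_iff, ← hMF.2]
      exact Cores.pPrimeCore_map_le hf
  refine ⟨pLayer_eq_bot_iff.mpr ?_, ?_⟩
  · let e : N ⧸ Cfsg.pPrimeCore p N ≃* M :=
      (QuotientGroup.quotientMulEquivOfEq hle.symm).trans
        (QuotientGroup.quotientKerEquivOfSurjective f hf)
    have := map_layer_equiv e
    rw [hMF.1, Subgroup.map_eq_bot_iff_of_injective] at this
    exacts [this, e.injective]
  · rintro _ ⟨x, hx, rfl⟩
    exact (hmem x).mp (hle.ge hx)

/-- `p`-constrained iff the `p`-layer is trivial. -/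
theorem isPConstrained_iff_pLayer :
    Cfsg.IsPConstrained p G ↔ Cfsg.pLayer p G = ⊥ := by
  rw [Cores.isPConstrained_iff, pLayer_eq_bot_iff, ← genFitting_eq_pCore_iff,
    genFitting_eq_pCore_iff_cores, and_iff_left pPrimeCore_quotient_eq_bot]

end Cfsg.Agent.Components
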