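import Mathlib
import Cfsg.Agent.Components.PLocal
import Cfsg.Agent.Coprime.Action

/-!
A `p`-group `Y` acting on a group `L = F*(L)` with `O_p(L) = 1`:
`L = [L,Y] C_L(Y)` and `[L,Y,Y] = [L,Y]`.
-/

namespace Cfsg.Agent.Components

set_option linter.style.haveILetI false
set_option linter.unusedSectionVars false

open Cfsg.Agent
open scoped commutatorElement

variable {G : Type*} [Group G]

/-- A characteristic subgroup of `L` is normalized by whatever normalizes `L`. -/
theorem le_normalizer_map_characteristic {L : Subgroup G} (C : Subgroup L) [hC : C.Characteristic]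
    {Y : Subgroup G} (hY : Y ≤ Subgroup.normalizer (L : Set G)) :
    Y ≤ Subgroup.normalizer ((C.map L.subtype : Subgroup G) : Set G) := by
  intro y hy
  refine mem_normalizer_of_map_conj_eq ?_
  have hL := map_conj_eq_of_mem_normalizer (hY hy)
  let e : L ≃* L := ((MulAut.conj y).subgroupMap L).trans (MulEquiv.subgroupCongr hL)
  have h1 : C.map e.toMonoidHom = C := Subgroup.characteristic_iff_map_eq.mp hC e
  conv_rhs => rw [← h1]
  rw [Subgroup.map_map, Subgroup.map_map]
  rfl

variable [Finite G] {p : ℕ} [hp : Fact p.Prime]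

theorem coprime_card_fitting (h : Cfsg.pCore p G = ⊥) :
    (Nat.card (Cfsg.fittingSubgroup G)).Coprime p := by
  refine Nat.Coprime.coprime_dvd_left (Subgroup.card_dvd_of_le ?_)
    (Cores.coprime_card_pPrimeCore (p := p) (G := G))
  have := Cores.iSup_pCore_le_sup (G := G) p
  rwa [h, sup_bot_eq, ← Cores.iSup_pCore_eq_fittingSubgroup] at this

/-- A subnormal subgroup of `F*(G)` is its own `F*`. -/
theorem genFitting_eq_top_of_le {T : Subgroup G} (hT : T.IsSubnormal)
    (hle : T ≤ Cfsg.generalizedFittingSubgroup G) :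
    Cfsg.generalizedFittingSubgroup T = ⊤ := by
  apply Subgroup.map_injective T.subtype_injective
  rw [genFitting_subnormal hT, inf_eq_right.mpr hle, ← MonoidHom.range_eq_map,
    Subgroup.range_subtype]

theorem pCore_subnormal_eq_bot {T : Subgroup G} (hT : T.IsSubnormal) (h : Cfsg.pCore p G = ⊥) :
    Cfsg.pCore p T = ⊥ := by
  rw [← Subgroup.map_eq_bot_iff_of_injective _ T.subtype_injective, ← le_bot_iff, ← h]
  exact Cores.map_pCore_le_of_isSubnormal hT

variable {L Y : Subgroup G}

/-- Components of `L` not centralized by `Y` lie in `[L,Y]`. -/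
theorem qs_le_commutator_or {X : Subgroup G} (hqs : Cfsg.IsQuasisimple X) (hXL : X ≤ L)
    (hsn : (X.subgroupOf L).IsSubnormal) (hYL : Y ≤ Subgroup.normalizer (L : Set G)) :
    X ≤ ⁅L, Y⁆ ∨ ⁅X, Y⁆ = ⊥ := by
  refine (qs_subnormal_le_or_commutator_eq_bot hqs hXL hsn
    (Subgroup.le_normalizer_iff_commutator_le_left.mp hYL)
    (Subgroup.normalizer_commutator_ge_left L Y)).imp id fun h => ?_
  apply commutator_eq_bot_of_perfect (qsSub_perfect hqs)
  rw [Subgroup.commutator_comm, ← le_bot_iff, ← h]
  exact Subgroup.commutator_mono le_rfl (Subgroup.commutator_mono hXL le_rfl)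

variable (hL : Cfsg.generalizedFittingSubgroup L = ⊤) (hO : Cfsg.pCore p L = ⊥)
  (hY : IsPGroup p Y) (hYL : Y ≤ Subgroup.normalizer (L : Set G))

include hL hO hY hYL

/-- The common induction: any `D` containing the relevant generators covers `L` modulo `C_L(Y)`. -/
theorem le_sup_centralizer {D : Subgroup G}
    (hcomp : ∀ X : Subgroup G, Cfsg.IsQuasisimple X → X ≤ L → (X.subgroupOf L).IsSubnormal →
      X ≤ D ∨ ⁅X, Y⁆ = ⊥)
    (hF : ∀ F : Subgroup G, F ≤ L → (Nat.card F).Coprime p →
      Y ≤ Subgroup.normalizer (F : Set G) → ⁅⁅F, Y⁆, Y⁆ ≤ D) :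
    L ≤ D ⊔ (L ⊓ Subgroup.centralizer (Y : Set G)) := by
  set F := (Cfsg.fittingSubgroup L).map L.subtype with hFdef
  have hFL : F ≤ L := Subgroup.map_subtype_le _
  have hFc : (Nat.card F).Coprime p := by
    rw [Subgroup.card_map_of_injective L.subtype_injective]
    exact coprime_card_fitting hO
  have hYF : Y ≤ Subgroup.normalizer (F : Set G) := le_normalizer_map_characteristic _ hYL
  have hcop : (Nat.card Y).Coprime (Nat.card F) := by
    obtain ⟨n, hn⟩ := IsPGroup.iff_card.mp hY
    rw [hn]
    exact (hFc.pow_right n).symm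
  have hs : Group.IsSolvable Y ∨ Group.IsSolvable F := by
    haveI := hY.isNilpotent
    exact Or.inl inferInstance
  have hFle : F ≤ D ⊔ (L ⊓ Subgroup.centralizer (Y : Set G)) := by
    rw [← Coprime.commutator_sup_centralizer hYF hcop hs,
      ← Coprime.commutator_commutator_eq hYF hcop hs]
    exact sup_le (le_sup_of_le_left (hF F hFL hFc hYF))
      (le_sup_of_le_right (inf_le_inf_right _ hFL))
  have : L = (Cfsg.layer L).map L.subtype ⊔ F := by
    rw [hFdef, ← Subgroup.map_sup, ← genFitting_eq_sup, hL, ← MonoidHom.range_eq_map,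
      Subgroup.range_subtype]
  refine this.le.trans (sup_le ?_ hFle)
  rw [Subgroup.map_le_iff_le_comap, layer_le_iff]
  intro K hK
  rw [← Subgroup.map_le_iff_le_comap]
  rcases hcomp (K.map L.subtype) (qs_congr (K.equivMapOfInjective _ L.subtype_injective) hK.2)
      (Subgroup.map_subtype_le _) (by rw [subgroupOf_map_subtype_self]; exact hK.1) with h | h
  · exact le_sup_of_le_left h
  · exact le_sup_of_le_right (le_inf (Subgroup.map_subtype_le _)
      (Subgroup.commutator_eq_bot_iff_le_centralizer.mp h))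

/-- `L = [L,Y] C_L(Y)`. -/
theorem commutator_sup_centralizer_genFitting :
    ⁅L, Y⁆ ⊔ (L ⊓ Subgroup.centralizer (Y : Set G)) = L := by
  refine le_antisymm (sup_le (Subgroup.le_normalizer_iff_commutator_le_left.mp hYL) inf_le_left) ?_
  refine le_sup_centralizer hL hO hY hYL (fun X h1 h2 h3 => qs_le_commutator_or h1 h2 h3 hYL)
    fun F hF _ hYF => ?_
  exact (Subgroup.commutator_mono
    (Subgroup.le_normalizer_iff_commutator_le_left.mp hYF) le_rfl).trans
    (Subgroup.commutator_mono hF le_rfl)

/-- `[L,Y,Y] = [L,Y]`. -/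
theorem commutator_commutator_genFitting : ⁅⁅L, Y⁆, Y⁆ = ⁅L, Y⁆ := by
  set W := ⁅L, Y⁆ with hWdef
  set D := ⁅W, Y⁆ with hDdef
  have hWL : W ≤ L := Subgroup.le_normalizer_iff_commutator_le_left.mp hYL
  have hYW : Y ≤ Subgroup.normalizer (W : Set G) := Subgroup.normalizer_commutator_ge_right L Y
  have hYD : Y ≤ Subgroup.normalizer (D : Set G) := Subgroup.normalizer_commutator_ge_right W Y
  refine le_antisymm (Subgroup.commutator_mono hWL le_rfl) ?_
  have hC : L ⊓ Subgroup.centralizer (Y : Set G) ≤ Subgroup.normalizer (D : Set G) := by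
    intro c hc
    have hcY : c ∈ Subgroup.normalizer (Y : Set G) := Subgroup.centralizer_le_normalizer _ hc.2
    have hcW : W.map (MulAut.conj c).toMonoidHom = W := by
      rw [hWdef, Subgroup.map_commutator,
        map_conj_eq_of_mem_normalizer (Subgroup.le_normalizer hc.1),
        map_conj_eq_of_mem_normalizer hcY]
    refine mem_normalizer_of_map_conj_eq ?_
    rw [hDdef, Subgroup.map_commutator, hcW, map_conj_eq_of_mem_normalizer hcY]
  have key : L ≤ D ⊔ (L ⊓ Subgroup.centralizer (Y : Set G)) := by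
    refine le_sup_centralizer hL hO hY hYL (fun X hqs hXL hsn => ?_) fun F hF _ hYF => ?_
    · rcases qs_le_commutator_or hqs hXL hsn hYL with h | h
      · refine qs_le_commutator_or hqs h ?_ hYW
        convert hsn.comap (Subgroup.inclusion hWL) using 1; rfl
      · exact Or.inr h
    · exact Subgroup.commutator_mono (Subgroup.commutator_mono hF le_rfl) le_rfl
  rw [hWdef, Subgroup.commutator_le]
  intro l hl y hy
  have hl' := key hl
  rw [sup_comm, ← SetLike.mem_coe, Subgroup.coe_mul_of_left_le_normalizer_right _ _ hC] at hl'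
  obtain ⟨c, hc, d, hd, rfl⟩ := hl'
  have hcy : y * c = c * y := Subgroup.mem_centralizer_iff.mp hc.2 y hy
  have he : ⁅c * d, y⁆ = c * ⁅d, y⁆ * c⁻¹ := by
    rw [commutatorElement_mul_left_eq_conj_mul,
      commutatorElement_eq_one_iff_mul_comm.mpr hcy.symm, mul_one]
  show ⁅c * d, y⁆ ∈ D
  rw [he]
  exact (Subgroup.mem_normalizer_iff.mp (hC hc) _).mp
    (Subgroup.le_normalizer_iff_commutator_le_left.mp hYD (Subgroup.commutator_mem_commutator hd hy))

/-- If `Y` centralizes `[L,Y]` it centralizes `L`. -/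
theorem commutator_eq_bot_genFitting (h : ⁅⁅L, Y⁆, Y⁆ = ⊥) : ⁅L, Y⁆ = ⊥ := by
  rwa [commutator_commutator_genFitting hL hO hY hYL] at h

end Cfsg.Agent.Components
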