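import Cfsg.Agent.Components.PLocal
import Cfsg.Agent.Components.PAction

/-!
Monotonicity of `F* = O_p` for centralizers of `p`-subgroups.
-/

namespace Cfsg.Agent.Components

set_option linter.style.haveILetI false
set_option linter.unusedSectionVars false

open Cfsg.Agent

variable {G : Type*} [Group G] [Finite G] {p : ℕ} [Fact p.Prime]

theorem normalizer_le_normalizer_centralizer (W : Subgroup G) :
    Subgroup.normalizer (W : Set G) ≤
      Subgroup.normalizer ((Subgroup.centralizer (W : Set G) : Subgroup G) : Set G) := by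
  have key : ∀ n ∈ Subgroup.normalizer (W : Set G), ∀ x ∈ Subgroup.centralizer (W : Set G),
      n * x * n⁻¹ ∈ Subgroup.centralizer (W : Set G) := by
    intro n hn x hx w hw
    have h1 : n⁻¹ * w * n ∈ W :=
      ((Subgroup.mem_normalizer_iff''.mp hn) w).mp hw
    have h2 : n⁻¹ * w * n * x = x * (n⁻¹ * w * n) := hx _ h1
    calc w * (n * x * n⁻¹) = n * (n⁻¹ * w * n * x) * n⁻¹ := by group
      _ = n * (x * (n⁻¹ * w * n)) * n⁻¹ := by rw [h2]
      _ = n * x * n⁻¹ * w := by group
  intro n hn
  exact Subgroup.mem_normalizer_iff.mpr fun x => ⟨key n hn x, fun h => by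
    simpa [mul_assoc] using key n⁻¹ (Subgroup.inv_mem _ hn) _ h⟩

/-- If `F*(C(W))` is a `p`-group for the `p`-group `W`, so is `F*(N(W))`. -/
theorem genFitting_normalizer_of_centralizer {W : Subgroup G} (hW : IsPGroup p W)
    (h : Cfsg.generalizedFittingSubgroup (Subgroup.centralizer (W : Set G)) =
      Cfsg.pCore p (Subgroup.centralizer (W : Set G))) :
    Cfsg.generalizedFittingSubgroup (Subgroup.normalizer (W : Set G)) =
      Cfsg.pCore p (Subgroup.normalizer (W : Set G)) := by
  set C := Subgroup.centralizer (W : Set G)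
  set N := Subgroup.normalizer (W : Set G)
  have hCN : C ≤ N := Subgroup.centralizer_le_normalizer _
  set P := (Cfsg.pCore p C).map C.subtype
  have hPN : P ≤ N := (Subgroup.map_subtype_le _).trans hCN
  have hP : P.subgroupOf N ≤ Cfsg.pCore p N := by
    refine le_pCore (Subgroup.normal_subgroupOf_of_le_normalizer ?_)
      (((isPGroup_pCore p).map C.subtype).comap_subtype)
    exact le_normalizer_map_characteristic _ (normalizer_le_normalizer_centralizer W)
  have hW' : W.subgroupOf N ≤ Cfsg.pCore p N :=
    le_pCore (Subgroup.normal_subgroupOf_of_le_normalizer le_rfl) hW.comap_subtype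
  refine genFitting_eq_pCore_iff.mpr fun x hx => ?_
  have hxC : (x : G) ∈ C := fun w hw => congrArg Subtype.val
    (hx (⟨w, Subgroup.le_normalizer hw⟩ : N) (hW' hw))
  have h2 : (⟨(x : G), hxC⟩ : C) ∈ Cfsg.pCore p C := by
    refine genFitting_eq_pCore_iff.mp h fun y hy => ?_
    have h4 : (⟨(y : G), hCN y.2⟩ : N) * x = x * ⟨(y : G), hCN y.2⟩ :=
      hx _ (hP (Subgroup.mem_subgroupOf.mpr ⟨y, hy, rfl⟩))
    exact Subtype.ext (congrArg Subtype.val h4 :)
  exact hP (Subgroup.mem_subgroupOf.mpr ⟨_, h2, rfl⟩)

/-- If `W ⊴ W'` are `p`-groups and `F*(C(W))` is a `p`-group, so is `F*(C(W'))`. -/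
theorem genFitting_centralizer_step {W W' : Subgroup G} (hW' : IsPGroup p W') (hle : W ≤ W')
    (hn : W' ≤ Subgroup.normalizer (W : Set G))
    (h : Cfsg.generalizedFittingSubgroup (Subgroup.centralizer (W : Set G)) =
      Cfsg.pCore p (Subgroup.centralizer (W : Set G))) :
    Cfsg.generalizedFittingSubgroup (Subgroup.centralizer (W' : Set G)) =
      Cfsg.pCore p (Subgroup.centralizer (W' : Set G)) := by
  set N := Subgroup.normalizer (W : Set G)
  have hN := genFitting_normalizer_of_centralizer (hW'.to_le hle) h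
  set K := W'.subgroupOf N
  have hKp : IsPGroup p K := hW'.comap_subtype
  have hNK := genFitting_normalizer hN hKp
  set M := Subgroup.normalizer (K : Set N)
  have hCM : Subgroup.centralizer (K : Set N) ≤ M := Subgroup.centralizer_le_normalizer _
  have hn' : ((Subgroup.centralizer (K : Set N)).subgroupOf M).Normal :=
    Subgroup.normal_subgroupOf_of_le_normalizer (normalizer_le_normalizer_centralizer K)
  have h1 := genFitting_eq_pCore_of_isSubnormal (Subgroup.Normal.isSubnormal hn') hNK
  have h2 := (genFitting_eq_pCore_congr (Subgroup.subgroupOfEquivOfLe hCM)).mp h1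
  have hC'N : Subgroup.centralizer (W' : Set G) ≤ N :=
    (Subgroup.centralizer_le hle).trans (Subgroup.centralizer_le_normalizer _)
  have heq : Subgroup.centralizer (K : Set N) =
      (Subgroup.centralizer (W' : Set G)).subgroupOf N := by
    apply Subgroup.map_injective N.subtype_injective
    rw [map_subtype_centralizer, map_subgroupOf hn, map_subgroupOf hC'N, inf_eq_left.mpr hC'N]
  rw [heq] at h2
  exact (genFitting_eq_pCore_congr (Subgroup.subgroupOfEquivOfLe hC'N)).mp h2

/-- If `V ≤ U` are `p`-groups and `F*(C(V))` is a `p`-group, so is `F*(C(U))`. -/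
theorem genFitting_centralizer_mono {U V : Subgroup G} (hU : IsPGroup p U) (hle : V ≤ U)
    (h : Cfsg.generalizedFittingSubgroup (Subgroup.centralizer (V : Set G)) =
      Cfsg.pCore p (Subgroup.centralizer (V : Set G))) :
    Cfsg.generalizedFittingSubgroup (Subgroup.centralizer (U : Set G)) =
      Cfsg.pCore p (Subgroup.centralizer (U : Set G)) := by
  obtain ⟨W, ⟨hVW, hWU, hW⟩, hmax⟩ := (Set.toFinite {W : Subgroup G | V ≤ W ∧ W ≤ U ∧
      Cfsg.generalizedFittingSubgroup (Subgroup.centralizer (W : Set G)) =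
        Cfsg.pCore p (Subgroup.centralizer (W : Set G))}).exists_maximal ⟨V, le_rfl, hle, h⟩
  by_cases heq : W = U
  · exact heq ▸ hW
  · exfalso
    haveI := hU.isNilpotent
    have hlt : W.subgroupOf U < ⊤ := lt_top_iff_ne_top.mpr fun ht =>
      heq (le_antisymm hWU (Subgroup.subgroupOf_eq_top.mp ht))
    have h2 := Group.normalizerCondition_of_isNilpotent _ hlt
    rw [← Subgroup.subgroupOf_normalizer_eq hWU] at h2
    set W' := Subgroup.normalizer (W : Set G) ⊓ U
    have hWW' : W ≤ W' := le_inf Subgroup.le_normalizer hWU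
    have h3 := genFitting_centralizer_step (hU.to_le (inf_le_right : W' ≤ U)) hWW' inf_le_left hW
    have h4 : W' ≤ W := hmax ⟨hVW.trans hWW', inf_le_right, h3⟩ hWW'
    exact h2.not_ge fun x hx => Subgroup.mem_subgroupOf.mpr (h4 ⟨hx, x.2⟩)

end Cfsg.Agent.Components
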