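import Cfsg.Agent.Components.PLocal
import Cfsg.Agent.Components.PAction
import Cfsg.Agent.Components.PLocalMore

/-!
Bender's theorem on primitive pairs.
-/

namespace Cfsg.Agent.Components

set_option linter.style.haveILetI false
set_option linter.unusedSectionVars false

open Cfsg.Agent
open scoped commutatorElement

variable {G : Type*} [Group G] [Finite G] {p : ℕ} [Fact p.Prime]

theorem layer_eq_of_genFitting_le (D : Subgroup G)
    (h : Cfsg.generalizedFittingSubgroup G ≤ D) :
    (Cfsg.layer D).map D.subtype = Cfsg.layer G := by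
  refine le_antisymm (Subgroup.map_le_iff_le_comap.mpr (layer_le_iff.mpr fun L hL => ?_))
    (layer_le_iff.mpr fun L hL => ?_)
  · rw [← Subgroup.map_le_iff_le_comap]
    set A := L.map D.subtype
    set F := Cfsg.generalizedFittingSubgroup G
    have hAqs : Cfsg.IsQuasisimple A := qs_congr (L.equivMapOfInjective _ D.subtype_injective) hL.2
    have hAD : A ≤ D := Subgroup.map_subtype_le _
    have hsn : (A.subgroupOf D).IsSubnormal := by rw [subgroupOf_map_subtype_self]; exact hL.1
    have hAF : A ≤ F := (qs_subnormal_le_or_commutator_eq_bot hAqs hAD hsn h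
      (le_normalizer_of_normal _)).elim id fun h' =>
        (Subgroup.commutator_eq_bot_iff_le_centralizer.mp h').trans centralizer_genFitting_le
    have hF : F.IsSubnormal := Subgroup.Normal.isSubnormal inferInstance
    have h1 : (A.subgroupOf F).IsSubnormal := hsn.comap (Subgroup.inclusion h)
    exact component_le_layer ⟨Subgroup.IsSubnormal.trans hAF h1 hF, hAqs⟩
  · have hle : L ≤ D := (component_le_layer hL).trans (layer_le_genFitting.trans h)
    rw [← map_subgroupOf hle]
    exact Subgroup.map_mono (component_le_layer (component_subgroupOf hL hle))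

/-- `F*(M)` seen in `G`. -/
abbrev gFitIn (M : Subgroup G) : Subgroup G :=
  (Cfsg.generalizedFittingSubgroup M).map M.subtype

/-- `O_p(M)` seen in `G`. -/
abbrev pCoreIn (p : ℕ) (M : Subgroup G) : Subgroup G := (Cfsg.pCore p M).map M.subtype

/-- `O_{p'}(M) ∩ F*(M)` seen in `G`. -/
abbrev qCoreIn (p : ℕ) (M : Subgroup G) : Subgroup G :=
  (Cfsg.pPrimeCore p M ⊓ Cfsg.generalizedFittingSubgroup M).map M.subtype

theorem pCoreIn_le (M : Subgroup G) : pCoreIn p M ≤ gFitIn M :=
  Subgroup.map_mono ((pCore_le_fitting p).trans fitting_le_genFitting)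

theorem qCoreIn_le (M : Subgroup G) : qCoreIn p M ≤ gFitIn M :=
  Subgroup.map_mono inf_le_right

theorem le_normalizer_qCoreIn (M : Subgroup G) :
    M ≤ Subgroup.normalizer (qCoreIn p M : Set G) := by
  haveI : (Cfsg.pPrimeCore p M ⊓ Cfsg.generalizedFittingSubgroup M).Normal :=
    Subgroup.normal_inf_normal _ _
  exact le_normalizer_map_subtype _

theorem isPGroup_pCoreIn (M : Subgroup G) : IsPGroup p (pCoreIn p M) :=
  (isPGroup_pCore p).map _

theorem coprime_qCoreIn (M : Subgroup G) : (Nat.card (qCoreIn p M)).Coprime p := by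
  rw [Subgroup.card_map_of_injective M.subtype_injective]
  exact Nat.Coprime.coprime_dvd_left (Subgroup.card_dvd_of_le inf_le_left)
    Cores.coprime_card_pPrimeCore

theorem gFitIn_le_sup {M : Subgroup G} (hE : Cfsg.layer M = ⊥) :
    gFitIn M ≤ pCoreIn p M ⊔ qCoreIn p M := by
  rw [← Subgroup.map_sup]
  refine Subgroup.map_mono fun x hx => ?_
  have hx' : x ∈ Cfsg.fittingSubgroup M := by
    rwa [genFitting_eq_sup, hE, bot_sup_eq] at hx
  have h1 := Cores.iSup_pCore_le_sup (G := M) p
  rw [← Cores.iSup_pCore_eq_fittingSubgroup] at h1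
  obtain ⟨a, ha, b, hb, rfl⟩ := Subgroup.mem_sup_of_normal_left.mp (h1 hx')
  refine Subgroup.mul_mem _ (Subgroup.mem_sup_right ⟨ha, ?_⟩)
    (Subgroup.mem_sup_left hb)
  have := Subgroup.mul_mem _ hx (Subgroup.inv_mem _
    ((pCore_le_fitting p).trans fitting_le_genFitting hb))
  rwa [mul_inv_cancel_right] at this

theorem mem_gFitIn_of_centralizes {M : Subgroup G} (hE : Cfsg.layer M = ⊥) {x : G} (hx : x ∈ M)
    (hP : x ∈ Subgroup.centralizer (pCoreIn p M : Set G))
    (hQ : x ∈ Subgroup.centralizer (qCoreIn p M : Set G)) : x ∈ gFitIn M := by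
  refine ⟨⟨x, hx⟩, centralizer_genFitting_le fun y hy => Subtype.ext ?_, rfl⟩
  have h1 : pCoreIn p M ⊔ qCoreIn p M ≤ Subgroup.centralizer ({x} : Set G) :=
    sup_le (fun z hz => Subgroup.mem_centralizer_singleton_iff.mpr (hP z hz))
      (fun z hz => Subgroup.mem_centralizer_singleton_iff.mpr (hQ z hz))
  exact Subgroup.mem_centralizer_singleton_iff.mp (h1 (gFitIn_le_sup hE ⟨y, hy, rfl⟩))

theorem commutator_eq_bot_of_normal_coprime {A B D : Subgroup G} (hA : A ≤ D) (hB : B ≤ D)
    (hnA : D ≤ Subgroup.normalizer (A : Set G)) (hnB : D ≤ Subgroup.normalizer (B : Set G))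
    (hp : IsPGroup p A) (hc : (Nat.card B).Coprime p) : ⁅A, B⁆ = ⊥ := by
  rw [← le_bot_iff, ← Cores.disjoint_of_isPGroup_of_coprime hp hc]
  exact le_inf (Subgroup.le_normalizer_iff_commutator_le_left.mp (hB.trans hnA))
    (Subgroup.le_normalizer_iff_commutator_le_right.mp (hA.trans hnB))

section Pair

variable {M N : Subgroup G}

theorem prime_transfer (hN : Cfsg.layer N = ⊥) (h₁ : gFitIn M ≤ N) (h₂ : gFitIn N ≤ M) :
    (pCoreIn p N = ⊥ → pCoreIn p M = ⊥) ∧ (qCoreIn p N = ⊥ → qCoreIn p M = ⊥) := by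
  have hMD : gFitIn M ≤ M ⊓ N := le_inf (Subgroup.map_subtype_le _) h₁
  have hND : gFitIn N ≤ M ⊓ N := le_inf h₂ (Subgroup.map_subtype_le _)
  constructor
  · intro hb
    have hc : ⁅pCoreIn p M, qCoreIn p N⁆ = ⊥ :=
      commutator_eq_bot_of_normal_coprime (D := M ⊓ N) ((pCoreIn_le M).trans hMD)
      ((qCoreIn_le N).trans hND) (inf_le_left.trans (le_normalizer_map_subtype _))
      (inf_le_right.trans (le_normalizer_qCoreIn _)) (isPGroup_pCoreIn M) (coprime_qCoreIn N)
    have h : pCoreIn p M ≤ qCoreIn p N := fun x hx => by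
      have := gFitIn_le_sup hN (p := p) (mem_gFitIn_of_centralizes hN (h₁ (pCoreIn_le M hx))
        (by rw [hb]; exact fun z hz => by rw [Subgroup.mem_bot.mp hz, one_mul, mul_one])
        (Subgroup.commutator_eq_bot_iff_le_centralizer.mp hc hx))
      rwa [hb, bot_sup_eq] at this
    rw [← le_bot_iff, ← Cores.disjoint_of_isPGroup_of_coprime (isPGroup_pCoreIn (p := p) M)
      (coprime_qCoreIn N)]
    exact le_inf le_rfl h
  · intro hb
    have hc : ⁅pCoreIn p N, qCoreIn p M⁆ = ⊥ :=
      commutator_eq_bot_of_normal_coprime (D := M ⊓ N) ((pCoreIn_le N).trans hND)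
      ((qCoreIn_le M).trans hMD) (inf_le_right.trans (le_normalizer_map_subtype _))
      (inf_le_left.trans (le_normalizer_qCoreIn _)) (isPGroup_pCoreIn N) (coprime_qCoreIn M)
    rw [Subgroup.commutator_comm] at hc
    have h : qCoreIn p M ≤ pCoreIn p N := fun x hx => by
      have := gFitIn_le_sup hN (p := p) (mem_gFitIn_of_centralizes hN (h₁ (qCoreIn_le M hx))
        (Subgroup.commutator_eq_bot_iff_le_centralizer.mp hc hx)
        (by rw [hb]; exact fun z hz => by rw [Subgroup.mem_bot.mp hz, one_mul, mul_one]))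
      rwa [hb, sup_bot_eq] at this
    rw [← le_bot_iff, ← Cores.disjoint_of_isPGroup_of_coprime (isPGroup_pCoreIn (p := p) N)
      (coprime_qCoreIn M)]
    exact le_inf h le_rfl

theorem pCoreIn_inter_le (hM : Cfsg.layer M = ⊥) (h₁ : gFitIn M ≤ N) (h₂ : gFitIn N ≤ M)
    (hprim : M ⊓ Subgroup.normalizer (qCoreIn p N : Set G) = M ⊓ N) :
    pCoreIn p (M ⊓ N) ≤ pCoreIn p M := by
  set D := M ⊓ N
  set P := pCoreIn p D
  set Q := (Cfsg.pPrimeCore p D).map D.subtype
  set P₁ := pCoreIn p M
  set Q₁ := qCoreIn p M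
  set Q₂ := qCoreIn p N
  have hMD : gFitIn M ≤ D := le_inf (Subgroup.map_subtype_le _) h₁
  have hND : gFitIn N ≤ D := le_inf h₂ (Subgroup.map_subtype_le _)
  have hP₁D : P₁ ≤ D := (pCoreIn_le M).trans hMD
  have hQ₁D : Q₁ ≤ D := (qCoreIn_le M).trans hMD
  have hQ₂D : Q₂ ≤ D := (qCoreIn_le N).trans hND
  have hnP₁ : M ≤ Subgroup.normalizer (P₁ : Set G) := le_normalizer_map_subtype _
  have hnQ₁ : M ≤ Subgroup.normalizer (Q₁ : Set G) := le_normalizer_qCoreIn _
  have hnQ₂ : D ≤ Subgroup.normalizer (Q₂ : Set G) :=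
    inf_le_right.trans (le_normalizer_qCoreIn _)
  have hQcop : (Nat.card Q).Coprime p := by
    rw [Subgroup.card_map_of_injective D.subtype_injective]
    exact Cores.coprime_card_pPrimeCore
  have hQmem : ∀ {A : Subgroup G}, A ≤ D → D ≤ Subgroup.normalizer (A : Set G) →
      (Nat.card A).Coprime p → A ≤ Q := by
    intro A hA hn hc
    rw [← map_subgroupOf hA]
    refine Subgroup.map_mono (Cores.le_pPrimeCore
      (hN := Subgroup.normal_subgroupOf_of_le_normalizer hn) ?_)
    rwa [Nat.card_congr (Subgroup.subgroupOfEquivOfLe hA).toEquiv]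
  have hQ₂Q : Q₂ ≤ Q := hQmem hQ₂D hnQ₂ (coprime_qCoreIn N)
  have hQ₁Q : Q₁ ≤ Q := hQmem hQ₁D (inf_le_left.trans hnQ₁) (coprime_qCoreIn M)
  have hc12 : ⁅P₁, Q₂⁆ = ⊥ := commutator_eq_bot_of_normal_coprime hP₁D hQ₂D
    (inf_le_left.trans hnP₁) hnQ₂ (isPGroup_pCoreIn M) (coprime_qCoreIn N)
  have hcP1 : ⁅P, Q₁⁆ = ⊥ := commutator_eq_bot_of_normal_coprime (Subgroup.map_subtype_le _) hQ₁D
    (le_normalizer_map_subtype _) (inf_le_left.trans hnQ₁) (isPGroup_pCoreIn D)
    (coprime_qCoreIn M)
  have hPQ : ∀ z ∈ P₁, z ∈ Q → z = 1 := fun z hz hz' => Subgroup.mem_bot.mp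
    ((Cores.disjoint_of_isPGroup_of_coprime (isPGroup_pCoreIn (p := p) M) hQcop).le ⟨hz, hz'⟩)
  set T := Subgroup.centralizer (Q₁ : Set G) ⊓ M
  have key : ∀ t ∈ T, ∀ k : ℕ, t ^ p ^ k = 1 → t ∈ D := by
    intro t ht k hk
    have hcomm : ∀ x ∈ Q₂, Commute x t := by
      intro x hx
      have hxM : x ∈ M := (hQ₂D hx).1
      set c := x * t * x⁻¹ * t⁻¹
      have hcM : c ∈ M :=
        M.mul_mem (M.mul_mem (M.mul_mem hxM ht.2) (M.inv_mem hxM)) (M.inv_mem ht.2)
      have hcQ1 : c ∈ Subgroup.centralizer (Q₁ : Set G) := by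
        refine Subgroup.mul_mem _ ?_ (Subgroup.inv_mem _ ht.1)
        exact ((Subgroup.mem_normalizer_iff.mp
          (normalizer_le_normalizer_centralizer Q₁ (hnQ₁ hxM))) t).mp ht.1
      have hcP1 : c ∈ Subgroup.centralizer (P₁ : Set G) := by
        intro z hz
        have hz' : t⁻¹ * z * t ∈ P₁ :=
          ((Subgroup.mem_normalizer_iff''.mp (hnP₁ ht.2)) z).mp hz
        have e1 : z * x = x * z := commute_of_commutator_eq_bot hc12 hz hx
        have e2 : t⁻¹ * z * t * x = x * (t⁻¹ * z * t) := commute_of_commutator_eq_bot hc12 hz' hx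
        calc z * c = z * x * t * x⁻¹ * t⁻¹ := by simp only [c]; group
          _ = x * t * (t⁻¹ * z * t) * x⁻¹ * t⁻¹ := by rw [e1]; group
          _ = x * t * x⁻¹ * (x * (t⁻¹ * z * t)) * x⁻¹ * t⁻¹ := by group
          _ = x * t * x⁻¹ * (t⁻¹ * z * t * x) * x⁻¹ * t⁻¹ := by rw [e2]
          _ = c * z := by simp only [c]; group
      have hcF := mem_gFitIn_of_centralizes (p := p) hM hcM hcP1 hcQ1
      have hcQ : c ∈ Q₁ := by
        have hs := gFitIn_le_sup hM (p := p) hcF
        rw [← Subgroup.map_sup] at hs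
        obtain ⟨w, hw, hwc⟩ := hs
        obtain ⟨a', ha', b', hb', rfl⟩ := Subgroup.mem_sup_of_normal_left.mp hw
        rw [map_mul] at hwc
        set a : G := M.subtype a' with hadef
        set b : G := M.subtype b' with hbdef
        have ha : a ∈ P₁ := ⟨a', ha', rfl⟩
        have hb : b ∈ Q₁ := ⟨b', hb', rfl⟩
        have hab : Commute a (x⁻¹ * b) := Commute.mul_right
          (Commute.inv_right (commute_of_commutator_eq_bot hc12 ha hx))
          (congrArg M.subtype (Cores.commute_pCore_pPrimeCore ha' hb'.1).eq :)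
        have hy : t * x⁻¹ * t⁻¹ = a * (x⁻¹ * b) := by
          have e : t * x⁻¹ * t⁻¹ = x⁻¹ * c := by simp only [c]; group
          rw [e, ← hwc, ← mul_assoc, ← mul_assoc,
            (Commute.inv_right (commute_of_commutator_eq_bot hc12 ha hx)).eq]
        have hm : (a * (x⁻¹ * b)) ^ orderOf x = 1 := by
          rw [← hy, conj_pow, inv_pow, pow_orderOf_eq_one, inv_one, mul_one, mul_inv_cancel]
        rw [hab.mul_pow] at hm
        have ham : a ^ orderOf x = 1 := by
          refine hPQ _ (Subgroup.pow_mem _ ha _) ?_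
          rw [eq_inv_of_mul_eq_one_left hm]
          exact Q.inv_mem (Q.pow_mem (Q.mul_mem (Q.inv_mem (hQ₂Q hx)) (hQ₁Q hb)) _)
        have ha1 : a = 1 := by
          obtain ⟨j, hj⟩ := isPGroup_pCoreIn M ⟨a, ha⟩
          have hj' : a ^ p ^ j = 1 := congrArg Subtype.val hj
          exact orderOf_eq_one_iff.mp (Nat.eq_one_of_dvd_coprimes
            (((coprime_qCoreIn (p := p) N).coprime_dvd_left
              (Subgroup.orderOf_dvd_natCard _ hx)).pow_right j)
            (orderOf_dvd_of_pow_eq_one ham) (orderOf_dvd_of_pow_eq_one hj'))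
        rw [← hwc, ha1, one_mul]
        exact hb
      have hct : Commute c t := ht.1 c hcQ
      have h2 : x * t * x⁻¹ = c * t := by simp only [c]; group
      have h3 : c ^ p ^ k = 1 := by
        have := congrArg (· ^ p ^ k) h2
        simp only [conj_pow, hct.mul_pow, hk, mul_one, mul_inv_cancel] at this
        exact this.symm
      have h4 : c = 1 := by
        have hd := orderOf_dvd_of_pow_eq_one h3
        have hd' : orderOf c ∣ Nat.card Q₁ := Subgroup.orderOf_dvd_natCard _ hcQ
        exact orderOf_eq_one_iff.mp (Nat.eq_one_of_dvd_coprimes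
          ((coprime_qCoreIn (p := p) M).pow_right k) hd' hd)
      rw [h4, one_mul] at h2
      exact mul_inv_eq_iff_eq_mul.mp h2
    have : t ∈ M ⊓ Subgroup.normalizer (Q₂ : Set G) :=
      ⟨ht.2, Subgroup.centralizer_le_normalizer _ fun z hz => (hcomm z hz).eq⟩
    exact hprim.le this
  set U := pElemClosure p T
  have hUD : U ≤ D := (Subgroup.closure_le D).mpr fun t ⟨ht, k, hk⟩ => key t ht k hk
  have hUM : U ≤ M := hUD.trans inf_le_left
  have hTM : M ≤ Subgroup.normalizer (T : Set G) :=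
    (le_inf (hnQ₁.trans (normalizer_le_normalizer_centralizer Q₁)) Subgroup.le_normalizer).trans
      Subgroup.inf_normalizer_le_normalizer_inf
  have hUn : M ≤ Subgroup.normalizer (U : Set G) :=
    hTM.trans (normalizer_le_normalizer_pElemClosure T)
  have hPD : P ≤ D := Subgroup.map_subtype_le _
  have hPU : P ≤ U := le_pElemClosure_of_isPGroup (isPGroup_pCoreIn D)
    (le_inf (Subgroup.commutator_eq_bot_iff_le_centralizer.mp hcP1) (hPD.trans inf_le_left))
  have hsn : (P.subgroupOf M).IsSubnormal := by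
    have h1 : (U.subgroupOf M).IsSubnormal :=
      Subgroup.Normal.isSubnormal (Subgroup.normal_subgroupOf_of_le_normalizer hUn)
    refine Subgroup.IsSubnormal.trans (Subgroup.comap_mono hPU) ?_ h1
    refine Subgroup.Normal.isSubnormal (Subgroup.normal_subgroupOf_of_le_normalizer ?_)
    refine le_trans ?_ (Subgroup.le_normalizer_comap _)
    exact Subgroup.comap_mono (hUD.trans (le_normalizer_map_subtype _))
  rw [← map_subgroupOf (hPU.trans hUM)]
  exact Subgroup.map_mono (Cores.le_pCore_of_isSubnormal hsn (isPGroup_pCoreIn D).comap_subtype)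

/-- Bender's theorem on primitive pairs. -/
theorem primitive_pair {M N : Subgroup G} (hne : M ≠ N)
    (hMN : ∀ A : Subgroup G, A ≠ ⊥ → A ≤ M ⊓ N → M ≤ Subgroup.normalizer (A : Set G) →
      N ⊓ Subgroup.normalizer (A : Set G) = M ⊓ N)
    (hNM : ∀ A : Subgroup G, A ≠ ⊥ → A ≤ M ⊓ N → N ≤ Subgroup.normalizer (A : Set G) →
      M ⊓ Subgroup.normalizer (A : Set G) = M ⊓ N)
    (h₁ : gFitIn M ≤ N) (h₂ : gFitIn N ≤ M) :
    ∃ p : ℕ, p.Prime ∧ Cfsg.generalizedFittingSubgroup M = Cfsg.pCore p M ∧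
      Cfsg.generalizedFittingSubgroup N = Cfsg.pCore p N := by
  have hMD : gFitIn M ≤ M ⊓ N := le_inf (Subgroup.map_subtype_le _) h₁
  have hND : gFitIn N ≤ M ⊓ N := le_inf h₂ (Subgroup.map_subtype_le _)
  -- a nontrivial subgroup normal in both forces equality
  have hboth : ∀ A : Subgroup G, A ≤ M ⊓ N → M ≤ Subgroup.normalizer (A : Set G) →
      N ≤ Subgroup.normalizer (A : Set G) → A = ⊥ := by
    intro A hA hnM hnN
    by_contra hb
    exact hne (le_antisymm
      ((inf_eq_left.mpr hnM).symm.trans_le ((hNM A hb hA hnN).le.trans inf_le_right))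
      ((inf_eq_left.mpr hnN).symm.trans_le ((hMN A hb hA hnM).le.trans inf_le_left)))
  -- the layers vanish
  have hEeq : ∀ K : Subgroup G, M ⊓ N ≤ K → gFitIn K ≤ M ⊓ N →
      (Cfsg.layer K).map K.subtype = (Cfsg.layer (M ⊓ N : Subgroup G)).map (M ⊓ N).subtype := by
    intro K hK hF
    have h : Cfsg.generalizedFittingSubgroup K ≤ (M ⊓ N).subgroupOf K := fun x hx =>
      hF ⟨x, hx, rfl⟩
    rw [← layer_eq_of_genFitting_le _ h, ← map_layer_equiv (Subgroup.subgroupOfEquivOfLe hK),
      Subgroup.map_map, Subgroup.map_map]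
    rfl
  have hEM : (Cfsg.layer M).map M.subtype = ⊥ := by
    refine hboth _ ((Subgroup.map_mono layer_le_genFitting).trans hMD)
      (le_normalizer_map_subtype _) ?_
    rw [hEeq M inf_le_left hMD, ← hEeq N inf_le_right hND]
    exact le_normalizer_map_subtype _
  have hEN : (Cfsg.layer N).map N.subtype = ⊥ := by
    rw [hEeq N inf_le_right hND, ← hEeq M inf_le_left hMD, hEM]
  have hEM' := (Subgroup.map_eq_bot_iff_of_injective _ M.subtype_injective).mp hEM
  have hEN' := (Subgroup.map_eq_bot_iff_of_injective _ N.subtype_injective).mp hEN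
  have hF1 : Cfsg.fittingSubgroup M ≠ ⊥ := by
    intro hb
    have hM1 : M = ⊥ := by
      have h := centralizer_genFitting_le (G := M)
      rw [genFitting_eq_sup, hEM', hb, bot_sup_eq] at h
      refine le_bot_iff.mp fun x hx => ?_
      exact congrArg Subtype.val (Subgroup.mem_bot.mp (h (x := (⟨x, hx⟩ : M))
        (fun y hy => by rw [Subgroup.mem_bot.mp hy, one_mul, mul_one])))
    have h := centralizer_genFitting_le (G := N)
    have hFN : Cfsg.generalizedFittingSubgroup N = ⊥ :=
      (Subgroup.map_eq_bot_iff_of_injective _ N.subtype_injective).mp (le_bot_iff.mp (hM1 ▸ h₂))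
    rw [hFN] at h
    refine hne (hM1.trans (le_bot_iff.mp fun x hx => ?_).symm)
    exact congrArg Subtype.val (Subgroup.mem_bot.mp (h (x := (⟨x, hx⟩ : N))
      (fun y hy => by rw [Subgroup.mem_bot.mp hy, one_mul, mul_one])))
  obtain ⟨p, hp, hP1⟩ : ∃ p : ℕ, p.Prime ∧ pCoreIn p M ≠ ⊥ := by
    by_contra hcon
    push Not at hcon
    refine hF1 ?_
    rw [fitting_eq_iSup_pCore]
    simp only [iSup_eq_bot]
    exact fun q => (Subgroup.map_eq_bot_iff_of_injective _ M.subtype_injective).mp
      (hcon q (Nat.prime_of_mem_primeFactors q.2))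
  haveI : Fact p.Prime := ⟨hp⟩
  have hP2 : pCoreIn p N ≠ ⊥ := fun h => hP1 ((prime_transfer hEN' h₁ h₂).1 h)
  by_cases hQ : qCoreIn p M = ⊥
  · have hQ2 : qCoreIn p N = ⊥ := (prime_transfer hEM' h₂ h₁).2 hQ
    have conc : ∀ {K : Subgroup G}, Cfsg.layer K = ⊥ → qCoreIn p K = ⊥ →
        Cfsg.generalizedFittingSubgroup K = Cfsg.pCore p K := by
      intro K hE hq
      have h := gFitIn_le_sup (p := p) hE
      rw [hq, sup_bot_eq] at h
      refine le_antisymm ((Subgroup.map_le_map_iff_of_injective K.subtype_injective).mp h)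
        ((pCore_le_fitting p).trans fitting_le_genFitting)
    exact ⟨p, hp, conc hEM' hQ, conc hEN' hQ2⟩
  · exfalso
    have hQ2 : qCoreIn p N ≠ ⊥ := fun h => hQ ((prime_transfer hEN' h₁ h₂).2 h)
    have hDM := pCoreIn_inter_le (p := p) hEM' h₁ h₂
      (hNM _ hQ2 ((qCoreIn_le N).trans hND) (le_normalizer_qCoreIn _))
    have hDN := pCoreIn_inter_le (p := p) (M := N) (N := M) hEN' h₂ h₁
      (by rw [inf_comm N M]; exact hMN _ hQ ((qCoreIn_le M).trans hMD) (le_normalizer_qCoreIn _))
    rw [inf_comm N M] at hDN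
    have hle : ∀ K : Subgroup G, M ⊓ N ≤ K → gFitIn K ≤ M ⊓ N →
        pCoreIn p K ≤ pCoreIn p (M ⊓ N) := by
      intro K hK hF
      rw [← map_subgroupOf ((pCoreIn_le K).trans hF)]
      exact Subgroup.map_mono (le_pCore (Subgroup.normal_subgroupOf_of_le_normalizer
        (hK.trans (le_normalizer_map_subtype _))) (isPGroup_pCoreIn K).comap_subtype)
    have he : pCoreIn p M = pCoreIn p N := le_antisymm
      ((hle M inf_le_left hMD).trans hDN) ((hle N inf_le_right hND).trans hDM)
    exact hP1 (hboth _ ((pCoreIn_le M).trans hMD) (le_normalizer_map_subtype _)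
      (he ▸ le_normalizer_map_subtype _))

end Pair

end Cfsg.Agent.Components
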