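import Cfsg.Agent.Components.Bender

/-!
Bender's uniqueness theorem for a pair of maximal subgroups.
-/

namespace Cfsg.Agent.Components

set_option linter.style.haveILetI false
set_option linter.unusedSectionVars false

open Cfsg.Agent
open scoped commutatorElement IsMulCommutative

variable {G : Type*} [Group G] [Finite G]

/-- A `p`-subgroup of `F(G)` lies in `O_p(G)`. -/
theorem le_pCore_of_le_fitting {p : ℕ} [Fact p.Prime] {P : Subgroup G} (hP : IsPGroup p P)
    (hle : P ≤ Cfsg.fittingSubgroup G) : P ≤ Cfsg.pCore p G := by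
  obtain ⟨S, hS⟩ :=
    (hP.comap_subtype (K := Cfsg.fittingSubgroup G)).exists_le_sylow
  have h3 : ∀ (r : ℕ) (_ : Fact r.Prime) (P : Sylow r (Cfsg.fittingSubgroup G)),
      (P : Subgroup (Cfsg.fittingSubgroup G)).Normal :=
    ((Group.isNilpotent_of_finite_tfae (G := Cfsg.fittingSubgroup G)).out 0 3
      (a := Group.IsNilpotent (Cfsg.fittingSubgroup G))).mp fitting_isNilpotent
  have hSn : (S : Subgroup (Cfsg.fittingSubgroup G)).Normal := h3 p inferInstance S
  rw [← map_subgroupOf hle]
  exact (Subgroup.map_mono hS).trans (Cores.le_pCore_of_isSubnormal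
    (isSubnormal_map_subtype (Subgroup.Normal.isSubnormal hSn)
      (Subgroup.Normal.isSubnormal inferInstance)) (S.isPGroup'.map _))

theorem pCore_ne_bot_iff {p : ℕ} [Fact p.Prime] :
    Cfsg.pCore p G ≠ ⊥ ↔ p ∣ Nat.card (Cfsg.fittingSubgroup G) := by
  constructor
  · intro h
    obtain ⟨n, hn⟩ := IsPGroup.iff_card.mp (isPGroup_pCore p (G := G))
    rcases n with _ | n
    · exact absurd (Subgroup.eq_bot_of_card_eq _ (by simpa using hn)) h
    · exact (hn ▸ dvd_pow_self p n.succ_ne_zero).trans (Subgroup.card_dvd_of_le (pCore_le_fitting p))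
  · intro h hb
    obtain ⟨x, hx⟩ := exists_prime_orderOf_dvd_card' p h
    have hxo : orderOf (x : G) = p := by rw [Subgroup.orderOf_coe, hx]
    have hle := le_pCore_of_le_fitting (p := p) (P := Subgroup.zpowers (x : G))
      (IsPGroup.of_card (n := 1) (by rw [Nat.card_zpowers, hxo, pow_one]))
      (Subgroup.zpowers_le.mpr x.2)
    rw [hb, Subgroup.zpowers_le, Subgroup.mem_bot] at hle
    rw [hle, orderOf_one] at hxo
    exact (Fact.out : p.Prime).one_lt.ne hxo

/-- A nontrivial `O_r(G)` meets `C(F*(G))`. -/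
theorem pCore_inf_centralizer_ne_bot {r : ℕ} [Fact r.Prime] (h : Cfsg.pCore r G ≠ ⊥) :
    Cfsg.pCore r G ⊓ Subgroup.centralizer (Cfsg.generalizedFittingSubgroup G : Set G) ≠ ⊥ := by
  obtain ⟨t, ht, hto, htc⟩ := exists_central_orderOf (isPGroup_pCore r) h
  intro hb
  have htF : Cfsg.generalizedFittingSubgroup G ≤ Subgroup.centralizer ({t} : Set G) := by
    refine sup_le (fun x hx => Subgroup.mem_centralizer_singleton_iff.mpr
      (commute_of_commutator_eq_bot layer_commutator_fitting hx (pCore_le_fitting r ht))) ?_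
    have h1 := Cores.iSup_pCore_le_sup (G := G) r
    rw [← Cores.iSup_pCore_eq_fittingSubgroup] at h1
    refine h1.trans (sup_le (fun x hx => Subgroup.mem_centralizer_singleton_iff.mpr ?_) htc)
    exact (Cores.commute_pCore_pPrimeCore ht hx).symm.eq
  have hm : t ∈ Cfsg.pCore r G ⊓ Subgroup.centralizer (Cfsg.generalizedFittingSubgroup G : Set G) :=
    ⟨ht, fun x hx => Subgroup.mem_centralizer_singleton_iff.mp (htF hx)⟩
  rw [hb, Subgroup.mem_bot] at hm
  rw [hm, orderOf_one] at hto
  exact (Fact.out : r.Prime).one_lt.ne hto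

/-- `O_{p'}(G) ∩ Z(F*(G))`-type subgroups are nontrivial if another prime divides `|F(G)|`. -/
theorem pPrimeCore_inf_centralizer_ne_bot {p r : ℕ} [Fact p.Prime] [Fact r.Prime] (hne : r ≠ p)
    (h : Cfsg.pCore r G ≠ ⊥) :
    Cfsg.pPrimeCore p G ⊓ Subgroup.centralizer (Cfsg.generalizedFittingSubgroup G : Set G) ≠ ⊥ := by
  refine ne_bot_of_le_ne_bot (pCore_inf_centralizer_ne_bot h) (inf_le_inf ?_ le_rfl)
  refine Cores.le_pPrimeCore ?_
  obtain ⟨k, hk⟩ := IsPGroup.iff_card.mp (isPGroup_pCore r (G := G))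
  rw [hk]
  exact ((Nat.coprime_primes Fact.out Fact.out).mpr hne).pow_left k

variable {M N Q : Subgroup G}

/-- `F(M)` seen in `G`. -/
abbrev fitIn (M : Subgroup G) : Subgroup G := (Cfsg.fittingSubgroup M).map M.subtype

/-- `E(M)` seen in `G`. -/
abbrev layerIn (M : Subgroup G) : Subgroup G := (Cfsg.layer M).map M.subtype

theorem layerIn_commutator_fitIn (M : Subgroup G) : ⁅layerIn M, fitIn M⁆ = ⊥ := by
  rw [← Subgroup.map_commutator, layer_commutator_fitting, Subgroup.map_bot]

/-- Elements of `F*(M)` centralizing `Q` lie in `N`. -/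
theorem centralizer_map_le (hQF : Q ≤ fitIn M) (hQN : gFitIn M ⊓ Subgroup.normalizer (Q : Set G) ≤ N)
    (A : Subgroup M)
    (hA : A ≤ Subgroup.centralizer (Cfsg.generalizedFittingSubgroup M : Set M)) :
    A.map M.subtype ≤ N := by
  refine le_trans (le_inf (Subgroup.map_mono (hA.trans centralizer_genFitting_le)) ?_) hQN
  refine le_trans ?_ (Subgroup.centralizer_le_normalizer _)
  rw [Subgroup.le_centralizer_iff]
  intro q hq
  obtain ⟨y, hy, rfl⟩ := hQF hq
  rintro _ ⟨a, ha, rfl⟩
  exact congrArg M.subtype ((hA ha y (fitting_le_genFitting hy)).symm)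

theorem layerIn_le (hQF : Q ≤ fitIn M)
    (hQN : gFitIn M ⊓ Subgroup.normalizer (Q : Set G) ≤ N) : layerIn M ≤ N := by
  refine le_trans (le_inf (Subgroup.map_mono layer_le_genFitting) ?_) hQN
  refine le_trans (le_trans ?_ (Subgroup.centralizer_le hQF))
    (Subgroup.centralizer_le_normalizer _)
  exact Subgroup.commutator_eq_bot_iff_le_centralizer.mp (layerIn_commutator_fitIn M)

section Prime

variable {q : ℕ} [Fact q.Prime]

/-- `O_q(N) ∩ M = 1` for `q` prime to `|F(M)|`. -/
theorem pCoreIn_inf_eq_bot (hQF : Q ≤ fitIn M)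
    (hQN : gFitIn M ⊓ Subgroup.normalizer (Q : Set G) ≤ N)
    (hq : ¬ q ∣ Nat.card (Cfsg.fittingSubgroup M)) : pCoreIn q N ⊓ M = ⊥ := by
  set R := pCoreIn q N ⊓ M with hR
  set FM := fitIn M
  have hRq : IsPGroup q R := (isPGroup_pCoreIn N).to_le inf_le_left
  have hFcop : (Nat.card FM).Coprime q := by
    rw [Subgroup.card_map_of_injective M.subtype_injective]
    exact ((Fact.out : q.Prime).coprime_iff_not_dvd.mpr hq).symm
  have hnR : ∀ A : Subgroup G, A ≤ M → A ≤ N → A ≤ Subgroup.normalizer (R : Set G) :=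
    fun A hAM hAN => (le_inf (hAN.trans (le_normalizer_map_subtype _))
      (hAM.trans Subgroup.le_normalizer)).trans Subgroup.inf_normalizer_le_normalizer_inf
  have hzero : ∀ A : Subgroup G, A ≤ FM → A ≤ N → ⁅A, R⁆ = ⊥ := by
    intro A hA hAN
    have hAM : A ≤ M := hA.trans (Subgroup.map_subtype_le _)
    rw [← le_bot_iff, ← Cores.disjoint_of_isPGroup_of_coprime hRq hFcop]
    exact le_inf (Subgroup.le_normalizer_iff_commutator_le_right.mp (hnR A hAM hAN))
      ((Subgroup.commutator_mono hA le_rfl).trans (Subgroup.le_normalizer_iff_commutator_le_left.mp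
        (inf_le_right.trans (le_normalizer_map_subtype _))))
  have hQN' : Q ≤ N := le_trans (le_inf (hQF.trans (Subgroup.map_mono fitting_le_genFitting))
    Subgroup.le_normalizer) hQN
  have hpart : ∀ r : ℕ, r.Prime → ⁅pCoreIn r M, R⁆ = ⊥ := by
    intro r hr
    haveI := Fact.mk hr
    by_cases hU : Cfsg.pCore r M = ⊥
    · rw [pCoreIn, hU, Subgroup.map_bot, Subgroup.commutator_bot_left]
    have hrq : r ≠ q := fun h => hq (h ▸ pCore_ne_bot_iff.mp hU)
    set U := pCoreIn r M
    have hUF : U ≤ FM := Subgroup.map_mono (pCore_le_fitting r)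
    haveI : Group.IsNilpotent U := (isPGroup_pCoreIn M).isNilpotent
    have hNU : U ⊓ Subgroup.normalizer ((Q ⊓ U : Subgroup G) : Set G) ≤ N := by
      refine le_trans (le_inf (inf_le_left.trans (pCoreIn_le M)) ?_) hQN
      rintro u ⟨hu, hun⟩
      have hle : Q ≤ Q.comap (MulAut.conj u).toMonoidHom := by
        refine Coprime.le_of_forall_sylow_le fun s hs P hP hPs x hx => ?_
        haveI := Fact.mk hs
        have hxs : x ∈ pCoreIn s M := by
          have h1 : (P.subgroupOf M) ≤ Cfsg.pCore s M := by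
            refine le_pCore_of_le_fitting hPs.comap_subtype fun y hy => ?_
            obtain ⟨z, hz, hzy⟩ := hQF (hP hy)
            rwa [← M.subtype_injective hzy]
          exact Subgroup.map_mono h1 ⟨⟨x, hQF.trans (Subgroup.map_subtype_le _) (hP hx)⟩, hx, rfl⟩
        show u * x * u⁻¹ ∈ Q
        by_cases hsr : s = r
        · subst hsr
          exact (((Subgroup.mem_normalizer_iff.mp hun) x).mp ⟨hP hx, hxs⟩).1
        · obtain ⟨a, ha, rfl⟩ := hu
          obtain ⟨b, hb, rfl⟩ := hxs
          have hab : Commute a b := Cores.commute_pCore_pPrimeCore ha (Cores.le_pPrimeCore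
            (N := Cfsg.pCore s M) (by
              obtain ⟨k, hk⟩ := IsPGroup.iff_card.mp (isPGroup_pCore s (G := M))
              rw [hk]
              exact ((Nat.coprime_primes hs hr).mpr hsr).pow_left k) hb)
          rw [← map_inv, ← map_mul, ← map_mul, hab.eq, mul_inv_cancel_right]
          exact hP hx
      exact Subgroup.mem_normalizer_iff.mpr fun x => ⟨fun h => hle h, fun h => by
        have hfin := Subgroup.eq_of_le_of_card_ge hle (Nat.card_le_card_of_injective
          (fun y => (⟨MulAut.conj u y.1, y.2⟩ : Q))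
          fun a b hab => Subtype.ext ((MulAut.conj u).injective (congrArg Subtype.val hab)))
        exact hfin.ge h⟩
    refine centralizes_nilpotent_of_coprime ?_ (inf_le_right : Q ⊓ U ≤ U)
      (inf_le_right.trans (le_normalizer_map_subtype _))
      (hzero _ (inf_le_left.trans hQF) (inf_le_left.trans hQN')) (hzero _ (inf_le_left.trans hUF) hNU)
    obtain ⟨a, ha⟩ := IsPGroup.iff_card.mp hRq
    obtain ⟨b, hb⟩ := IsPGroup.iff_card.mp (isPGroup_pCoreIn (p := r) M)
    rw [ha, hb]
    exact ((Nat.coprime_primes Fact.out hr).mpr (Ne.symm hrq)).pow _ _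
  have hRC : R.subgroupOf M ≤
      Subgroup.centralizer (Cfsg.generalizedFittingSubgroup M : Set M) := by
    rw [Subgroup.le_centralizer_iff]
    refine sup_le ?_ ?_
    · refine Subgroup.commutator_eq_bot_iff_le_centralizer.mp ?_
      refine layer_commutator_solvable ?_ ?_
      · haveI : Group.IsNilpotent (R.subgroupOf M) := (hRq.comap_subtype (K := M)).isNilpotent
        infer_instance
      · intro e he
        have h := hnR _ (Subgroup.map_subtype_le _) (layerIn_le hQF hQN) (x := M.subtype e)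
          ⟨e, he, rfl⟩
        exact Subgroup.le_normalizer_comap (H := R) M.subtype h
    · rw [fitting_eq_iSup_pCore]
      refine iSup_le fun r x hx y hy => ?_
      exact M.subtype_injective (commute_of_commutator_eq_bot
        (hpart r (Nat.prime_of_mem_primeFactors r.2)) (Subgroup.mem_map_of_mem _ hx) hy).symm
  have hRF : R.subgroupOf M ≤ Cfsg.fittingSubgroup M := by
    refine hRC.trans (normal_nilpotent_le_fitting inferInstance ?_)
    haveI : IsMulCommutative
        (Subgroup.centralizer (Cfsg.generalizedFittingSubgroup M : Set M)) :=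
      ⟨⟨fun a b => Subtype.ext (b.2 _ (centralizer_genFitting_le a.2))⟩⟩
    infer_instance
  rw [← le_bot_iff, ← Cores.disjoint_of_isPGroup_of_coprime hRq hFcop]
  exact le_inf le_rfl ((map_subgroupOf (inf_le_right : R ≤ M)).symm.le.trans
    (Subgroup.map_mono hRF))

/-- `O_q(N) ≤ M` for `q ∈ π(F(M))` when `π(F(M))` has another prime. -/
theorem pCoreIn_le_of_two_primes (hM : ∀ A : Subgroup G, A ≠ ⊥ → A ≤ M →
      M ≤ Subgroup.normalizer (A : Set G) → Subgroup.normalizer (A : Set G) = M)
    (hQF : Q ≤ fitIn M) (hQN : gFitIn M ⊓ Subgroup.normalizer (Q : Set G) ≤ N)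
    (hq : Cfsg.pCore q M ≠ ⊥) {r : ℕ} [Fact r.Prime] (hrq : r ≠ q)
    (hr : Cfsg.pCore r M ≠ ⊥) : pCoreIn q N ≤ M := by
  set CF := Subgroup.centralizer (Cfsg.generalizedFittingSubgroup M : Set M)
  set P := (Cfsg.pCore q M ⊓ CF).map M.subtype
  set B := (Cfsg.pPrimeCore q M ⊓ CF).map M.subtype
  set T := pCoreIn q N
  haveI : (Cfsg.pCore q M ⊓ CF).Normal := Subgroup.normal_inf_normal _ _
  haveI : (Cfsg.pPrimeCore q M ⊓ CF).Normal := Subgroup.normal_inf_normal _ _
  have hPN : P ≤ N := centralizer_map_le hQF hQN _ inf_le_right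
  have hBN : B ≤ N := centralizer_map_le hQF hQN _ inf_le_right
  have hPne : P ≠ ⊥ := fun h => pCore_inf_centralizer_ne_bot hq
    ((Subgroup.map_eq_bot_iff_of_injective _ M.subtype_injective).mp h)
  have hBne : B ≠ ⊥ := fun h => pPrimeCore_inf_centralizer_ne_bot hrq hr
    ((Subgroup.map_eq_bot_iff_of_injective _ M.subtype_injective).mp h)
  have hNP := hM P hPne (Subgroup.map_subtype_le _) (le_normalizer_map_subtype _)
  have hNB := hM B hBne (Subgroup.map_subtype_le _) (le_normalizer_map_subtype _)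
  have hBcop : (Nat.card B).Coprime q := by
    rw [Subgroup.card_map_of_injective M.subtype_injective]
    exact Cores.coprime_card_pPrimeCore.coprime_dvd_left (Subgroup.card_dvd_of_le inf_le_left)
  have hPB : P ≤ Subgroup.centralizer (B : Set G) := by
    rintro _ ⟨a, ha, rfl⟩ _ ⟨b, hb, rfl⟩
    exact congrArg M.subtype (Cores.commute_pCore_pPrimeCore ha.1 hb.1).eq.symm
  have hT : B ≤ Subgroup.centralizer (T : Set G) := by
    refine Coprime.thompson_AxB ((isPGroup_pCore q).to_le inf_le_left |>.map _) hBcop hPB T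
      (isPGroup_pCoreIn N) (hPN.trans (le_normalizer_map_subtype _))
      (hBN.trans (le_normalizer_map_subtype _)) ?_
    have h1 : T ⊓ Subgroup.centralizer (P : Set G) ≤ T ⊓ M :=
      le_inf inf_le_left (inf_le_right.trans ((Subgroup.centralizer_le_normalizer _).trans hNP.le))
    refine h1.trans (Subgroup.commutator_eq_bot_iff_le_centralizer.mp ?_)
    rw [← le_bot_iff, ← Cores.disjoint_of_isPGroup_of_coprime
      ((isPGroup_pCoreIn N).to_le (inf_le_left : T ⊓ M ≤ T)) hBcop]
    refine le_inf (Subgroup.le_normalizer_iff_commutator_le_left.mp ?_)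
      (Subgroup.le_normalizer_iff_commutator_le_right.mp
        (inf_le_right.trans (le_normalizer_map_subtype _)))
    exact (le_inf (hBN.trans (le_normalizer_map_subtype _))
      ((Subgroup.map_subtype_le _).trans Subgroup.le_normalizer)).trans
      Subgroup.inf_normalizer_le_normalizer_inf
  exact (Subgroup.le_centralizer_iff.mp hT).trans
    ((Subgroup.centralizer_le_normalizer _).trans hNB.le)

/-- If `N ⇝ M`, the primes of `F(N)` divide `|F(M)|`. -/
theorem dvd_of_symmetric {Q' : Subgroup G} (hQF : Q ≤ fitIn M)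
    (hQN : gFitIn M ⊓ Subgroup.normalizer (Q : Set G) ≤ N)
    (hQF' : Q' ≤ fitIn N) (hQN' : gFitIn N ⊓ Subgroup.normalizer (Q' : Set G) ≤ M)
    (h : q ∣ Nat.card (Cfsg.fittingSubgroup N)) : q ∣ Nat.card (Cfsg.fittingSubgroup M) := by
  by_contra hq
  refine pCore_inf_centralizer_ne_bot (pCore_ne_bot_iff.mpr h) ?_
  have h1 := centralizer_map_le hQF' hQN'
    (Cfsg.pCore q N ⊓ Subgroup.centralizer (Cfsg.generalizedFittingSubgroup N : Set N))
    inf_le_right
  rw [← Subgroup.map_eq_bot_iff_of_injective _ N.subtype_injective, ← le_bot_iff,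
    ← pCoreIn_inf_eq_bot hQF hQN hq]
  exact le_inf (Subgroup.map_mono inf_le_left) h1

/-- In the one prime case, components of `M` are components of `N`. -/
theorem layerIn_le_layerIn (hM : ∀ A : Subgroup G, A ≠ ⊥ → A ≤ M →
      M ≤ Subgroup.normalizer (A : Set G) → Subgroup.normalizer (A : Set G) = M)
    {Q' : Subgroup G} (hQF : Q ≤ fitIn M)
    (hQN : gFitIn M ⊓ Subgroup.normalizer (Q : Set G) ≤ N)
    (hQF' : Q' ≤ fitIn N) (hQN' : gFitIn N ⊓ Subgroup.normalizer (Q' : Set G) ≤ M)
    (hqM : Cfsg.pCore q M ≠ ⊥) (hone : Cfsg.fittingSubgroup N ≤ Cfsg.pCore q N) :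
    layerIn M ≤ layerIn N := by
  refine Subgroup.map_le_iff_le_comap.mpr (layer_le_iff.mpr fun K hK => ?_)
  rw [← Subgroup.map_le_iff_le_comap]
  set A := K.map M.subtype with hAdef
  set D := M ⊓ N
  have hEN : layerIn N ≤ M := layerIn_le hQF' hQN'
  have hAqs : Cfsg.IsQuasisimple A := qs_congr (K.equivMapOfInjective _ M.subtype_injective) hK.2
  have hAM : A ≤ M := Subgroup.map_subtype_le _
  have hAE : A ≤ layerIn M := Subgroup.map_mono (component_le_layer hK)
  have hAN : A ≤ N := hAE.trans (layerIn_le hQF hQN)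
  have hAD : A ≤ D := le_inf hAM hAN
  have hsnD : (A.subgroupOf D).IsSubnormal := by
    have : (A.subgroupOf M).IsSubnormal := by rw [hAdef, subgroupOf_map_subtype_self]; exact hK.1
    exact this.comap (Subgroup.inclusion (inf_le_left : D ≤ M))
  have hEND : layerIn N ≤ D := le_inf hEN (Subgroup.map_subtype_le _)
  rcases qs_subnormal_le_or_commutator_eq_bot hAqs hAD hsnD hEND
    (inf_le_right.trans (le_normalizer_map_subtype _)) with h | h
  · have hsnN : (A.subgroupOf N).IsSubnormal := by
      refine Subgroup.IsSubnormal.trans (Subgroup.comap_mono h) ?_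
        (Subgroup.Normal.isSubnormal (Subgroup.normal_subgroupOf_of_le_normalizer
          (le_normalizer_map_subtype _)))
      exact hsnD.comap (((N.subtype).comp ((layerIn N).subgroupOf N).subtype).codRestrict D
        fun x => hEND x.2)
    rw [← map_subgroupOf hAN]
    exact Subgroup.map_mono (component_le_layer
      ⟨hsnN, qs_congr (Subgroup.subgroupOfEquivOfLe hAN).symm hAqs⟩)
  · exfalso
    set U := pCoreIn q N
    set P := (Cfsg.pCore q M ⊓
      Subgroup.centralizer (Cfsg.generalizedFittingSubgroup M : Set M)).map M.subtype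
    haveI : (Cfsg.pCore q M ⊓
      Subgroup.centralizer (Cfsg.generalizedFittingSubgroup M : Set M)).Normal :=
      Subgroup.normal_inf_normal _ _
    have hPN : P ≤ N := centralizer_map_le hQF hQN _ inf_le_right
    have hNP := hM P (fun h => pCore_inf_centralizer_ne_bot hqM
      ((Subgroup.map_eq_bot_iff_of_injective _ M.subtype_injective).mp h))
      (Subgroup.map_subtype_le _) (le_normalizer_map_subtype _)
    have hPp : IsPGroup q P := ((isPGroup_pCore q).to_le inf_le_left).map _
    have hUP : IsPGroup q ↥(U ⊔ P) :=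
      (isPGroup_pCoreIn N).to_sup_of_normal_left' hPp (hPN.trans (le_normalizer_map_subtype _))
    haveI := hUP.isNilpotent
    have hperf : ⁅A, A⁆ = A := qsSub_perfect hAqs
    have hW : ⁅U ⊔ P, A⁆ = ⊥ := by
      refine centralizes_nilpotent_of_perfect hperf le_sup_right ?_ ?_ ?_
      · exact (le_inf (hAN.trans (le_normalizer_map_subtype _))
          (hAM.trans (le_normalizer_map_subtype _))).trans (inf_normalizer_le_normalizer_sup U P)
      · rw [Subgroup.commutator_comm, ← le_bot_iff, ← layerIn_commutator_fitIn M]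
        exact Subgroup.commutator_mono hAE
          (Subgroup.map_mono (inf_le_left.trans (pCore_le_fitting q)))
      · set W := (U ⊔ P) ⊓ M
        have hWD : W ≤ D := le_inf inf_le_right
          (inf_le_left.trans (sup_le (Subgroup.map_subtype_le _) hPN))
        have hWn : D ≤ Subgroup.normalizer (W : Set G) := by
          refine (le_inf ?_ (inf_le_left.trans Subgroup.le_normalizer)).trans
            Subgroup.inf_normalizer_le_normalizer_inf
          exact (le_inf (inf_le_right.trans (le_normalizer_map_subtype _))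
            (inf_le_left.trans (le_normalizer_map_subtype _))).trans
            (inf_normalizer_le_normalizer_sup U P)
        have hWp : IsPGroup q W := hUP.to_le inf_le_left
        haveI := hWp.isNilpotent
        have h2 := (qs_subnormal_le_or_commutator_eq_bot hAqs hAD hsnD hWD hWn).resolve_left
          (qsSub_not_le_of_isSolvable hAqs inferInstance)
        rw [Subgroup.commutator_comm, ← le_bot_iff, ← h2]
        exact Subgroup.commutator_mono le_rfl (inf_le_inf le_rfl hNP.le)
    have hC : A.subgroupOf N ≤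
        Subgroup.centralizer (Cfsg.generalizedFittingSubgroup N : Set N) := by
      rw [Subgroup.le_centralizer_iff]
      refine sup_le (fun x hx y hy => N.subtype_injective ?_)
        (hone.trans fun x hx y hy => N.subtype_injective ?_)
      · exact commute_of_commutator_eq_bot h hy (Subgroup.mem_map_of_mem _ hx)
      · exact (commute_of_commutator_eq_bot hW
          (Subgroup.mem_sup_left (Subgroup.mem_map_of_mem _ hx)) hy).symm
    haveI : IsMulCommutative
        (Subgroup.centralizer (Cfsg.generalizedFittingSubgroup N : Set N)) :=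
      ⟨⟨fun a b => Subtype.ext (b.2 _ (centralizer_genFitting_le a.2))⟩⟩
    exact qsSub_not_le_of_isSolvable (qs_congr (Subgroup.subgroupOfEquivOfLe hAN).symm hAqs)
      inferInstance hC

end Prime

/-- Bender's uniqueness theorem, symmetric case. -/
theorem leadsTo_symmetric (hM : ∀ A : Subgroup G, A ≠ ⊥ → A ≤ M →
      M ≤ Subgroup.normalizer (A : Set G) → Subgroup.normalizer (A : Set G) = M)
    (hN : ∀ A : Subgroup G, A ≠ ⊥ → A ≤ N →
      N ≤ Subgroup.normalizer (A : Set G) → Subgroup.normalizer (A : Set G) = N)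
    {Q' : Subgroup G} (hQ : Q ≠ ⊥) (hQF : Q ≤ fitIn M)
    (hQN : gFitIn M ⊓ Subgroup.normalizer (Q : Set G) ≤ N)
    (hQF' : Q' ≤ fitIn N) (hQN' : gFitIn N ⊓ Subgroup.normalizer (Q' : Set G) ≤ M) :
    M = N ∨ ∃ p : ℕ, p.Prime ∧ Cfsg.generalizedFittingSubgroup M = Cfsg.pCore p M ∧
      Cfsg.generalizedFittingSubgroup N = Cfsg.pCore p N := by
  refine or_iff_not_imp_left.mpr fun hne => ?_
  obtain ⟨p, hp, hpd⟩ : ∃ p : ℕ, p.Prime ∧ p ∣ Nat.card (Cfsg.fittingSubgroup M) := by
    refine Nat.exists_prime_and_dvd fun h => hQ (le_bot_iff.mp ?_)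
    rw [fitIn, Subgroup.eq_bot_of_card_eq _ h, Subgroup.map_bot] at hQF
    exact hQF
  haveI := Fact.mk hp
  have hsame : ∀ r : ℕ, r.Prime → (r ∣ Nat.card (Cfsg.fittingSubgroup M) ↔
      r ∣ Nat.card (Cfsg.fittingSubgroup N)) := fun r hr => by
    haveI := Fact.mk hr
    exact ⟨dvd_of_symmetric hQF' hQN' hQF hQN, dvd_of_symmetric hQF hQN hQF' hQN'⟩
  have hFle : ∀ {K L : Subgroup G}, (∀ r : ℕ, r.Prime → r ∣ Nat.card (Cfsg.fittingSubgroup K) →
      pCoreIn r K ≤ L) → fitIn K ≤ L := by
    intro K L h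
    rw [fitIn, fitting_eq_iSup_pCore, Subgroup.map_iSup]
    refine iSup_le fun r => ?_
    haveI := Fact.mk (Nat.prime_of_mem_primeFactors r.2)
    by_cases hb : Cfsg.pCore (r : ℕ) K = ⊥
    · rw [hb, Subgroup.map_bot]; exact bot_le
    · exact h r (Nat.prime_of_mem_primeFactors r.2) (pCore_ne_bot_iff.mp hb)
  have hbender : fitIn M ≤ N → fitIn N ≤ M → ∃ r : ℕ, r.Prime ∧
      Cfsg.generalizedFittingSubgroup M = Cfsg.pCore r M ∧
      Cfsg.generalizedFittingSubgroup N = Cfsg.pCore r N := fun h1 h2 =>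
    primitive_pair hne
      (fun K a b c => by rw [hM K a (b.trans inf_le_left) c, inf_comm])
      (fun K a b c => by rw [hN K a (b.trans inf_le_right) c])
      (by rw [gFitIn, genFitting_eq_sup, Subgroup.map_sup]; exact sup_le (layerIn_le hQF hQN) h1)
      (by rw [gFitIn, genFitting_eq_sup, Subgroup.map_sup]; exact sup_le (layerIn_le hQF' hQN') h2)
  by_cases htwo : ∃ r : ℕ, r.Prime ∧ r ≠ p ∧ r ∣ Nat.card (Cfsg.fittingSubgroup M)
  · obtain ⟨r, hr, hrp, hrd⟩ := htwo
    have other : ∀ s : ℕ, ∃ t : ℕ, t.Prime ∧ t ≠ s ∧ t ∣ Nat.card (Cfsg.fittingSubgroup M) := by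
      intro s
      by_cases hs : p = s
      · exact ⟨r, hr, hs ▸ hrp, hrd⟩
      · exact ⟨p, hp, hs, hpd⟩
    refine hbender (hFle fun s hs hsd => ?_) (hFle fun s hs hsd => ?_)
    · obtain ⟨t, ht, hts, htd⟩ := other s
      haveI := Fact.mk hs
      haveI := Fact.mk ht
      exact pCoreIn_le_of_two_primes hN hQF' hQN' (pCore_ne_bot_iff.mpr ((hsame s hs).mp hsd))
        hts (pCore_ne_bot_iff.mpr ((hsame t ht).mp htd))
    · obtain ⟨t, ht, hts, htd⟩ := other s
      haveI := Fact.mk hs
      haveI := Fact.mk ht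
      exact pCoreIn_le_of_two_primes hM hQF hQN (pCore_ne_bot_iff.mpr ((hsame s hs).mpr hsd))
        hts (pCore_ne_bot_iff.mpr htd)
  · push Not at htwo
    have hone : ∀ {K : Subgroup G}, (∀ r : ℕ, r.Prime → r ∣ Nat.card (Cfsg.fittingSubgroup K) →
        r = p) → Cfsg.fittingSubgroup K ≤ Cfsg.pCore p K := by
      intro K h
      rw [fitting_eq_iSup_pCore]
      refine iSup_le fun r => ?_
      haveI := Fact.mk (Nat.prime_of_mem_primeFactors r.2)
      by_cases hb : Cfsg.pCore (r : ℕ) K = ⊥
      · rw [hb]; exact bot_le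
      · rw [h r (Nat.prime_of_mem_primeFactors r.2) (pCore_ne_bot_iff.mp hb)]
    have hpM : ∀ r : ℕ, r.Prime → r ∣ Nat.card (Cfsg.fittingSubgroup M) → r = p :=
      fun r hr hd => by_contra fun h => htwo r hr h hd
    have hpN : ∀ r : ℕ, r.Prime → r ∣ Nat.card (Cfsg.fittingSubgroup N) → r = p :=
      fun r hr hd => hpM r hr ((hsame r hr).mpr hd)
    have hEeq : layerIn M = layerIn N := le_antisymm
      (layerIn_le_layerIn hM hQF hQN hQF' hQN' (pCore_ne_bot_iff.mpr hpd) (hone hpN))
      (layerIn_le_layerIn hN hQF' hQN' hQF hQN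
        (pCore_ne_bot_iff.mpr ((hsame p hp).mp hpd)) (hone hpM))
    have hE : layerIn M = ⊥ := by
      by_contra hb
      refine hne ((hM _ hb (Subgroup.map_subtype_le _) (le_normalizer_map_subtype _)).symm.trans
        (hN _ hb (hEeq ▸ Subgroup.map_subtype_le _) ?_))
      rw [hEeq]
      exact le_normalizer_map_subtype _
    have conc : ∀ {K : Subgroup G}, layerIn K = ⊥ →
        Cfsg.fittingSubgroup K ≤ Cfsg.pCore p K →
        Cfsg.generalizedFittingSubgroup K = Cfsg.pCore p K := by
      intro K hb h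
      rw [layerIn, Subgroup.map_eq_bot_iff_of_injective _ K.subtype_injective] at hb
      rw [genFitting_eq_sup, hb, bot_sup_eq]
      exact le_antisymm h (pCore_le_fitting p)
    exact ⟨p, hp, conc hE (hone hpM), conc (hEeq ▸ hE) (hone hpN)⟩

/-- In a simple group a maximal subgroup is the normalizer of its nontrivial normal subgroups. -/
theorem coatom_normalizer [IsSimpleGroup G] {M : Subgroup G} (hM : IsCoatom M) (A : Subgroup G)
    (hA : A ≠ ⊥) (hle : A ≤ M) (hn : M ≤ Subgroup.normalizer (A : Set G)) :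
    Subgroup.normalizer (A : Set G) = M := by
  refine (hM.le_iff.mp hn).resolve_left fun ht => ?_
  rcases (Subgroup.normalizer_eq_top_iff.mp ht).eq_bot_or_eq_top with h | h
  · exact hA h
  · exact hM.1 (top_le_iff.mp (h ▸ hle))

theorem sylow_fitting_le_pCoreIn {q : ℕ} [Fact q.Prime] {N : Subgroup G}
    (R : Sylow q (Cfsg.fittingSubgroup N)) :
    ((R : Subgroup (Cfsg.fittingSubgroup N)).map (Cfsg.fittingSubgroup N).subtype).map N.subtype ≤
      pCoreIn q N :=
  Subgroup.map_mono (le_pCore_of_le_fitting (R.isPGroup'.map _) (Subgroup.map_subtype_le _))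

end Cfsg.Agent.Components
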