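import Cfsg.Agent.Components.PLocal

/-!
Structure of groups with `O_{p'} = 1` and a cyclic Sylow `p`-subgroup.
-/

namespace Cfsg.Agent.Components

set_option linter.style.haveILetI false
set_option linter.unusedSectionVars false

open Cfsg.Agent
open scoped commutatorElement IsMulCommutative

variable {G : Type*} [Group G] [Finite G] {p : ℕ} [Fact p.Prime]

/-- A perfect group with abelian Sylow `p`-subgroups has centre of order prime to `p`. -/
theorem eq_one_of_perfect_center [Group.IsPerfect G] (P : Sylow p G)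
    [IsMulCommutative (P : Subgroup G)] {z : G} (hz : z ∈ Subgroup.center G) (hzp : z ^ p = 1) :
    z = 1 := by
  have hcz : ∀ (k : ℕ) (g : G), g⁻¹ * z ^ k * g = z ^ k := fun k g => by
    rw [mul_assoc, ← Subgroup.mem_center_iff.mp (Subgroup.pow_mem _ hz k) g, inv_mul_cancel_left]
  let τ := MonoidHom.transfer (MonoidHom.id (P : Subgroup G))
  have h0 : τ z = 1 := by
    have : τ.ker = ⊤ := by
      rw [eq_top_iff, ← Group.IsPerfect.commutator_eq_top (G := G), commutator_def,
        Subgroup.commutator_le]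
      intro a _ b _
      rw [MonoidHom.mem_ker, map_commutatorElement, commutatorElement_eq_one_iff_mul_comm]
      exact mul_comm _ _
    exact MonoidHom.mem_ker.mp (this ▸ Subgroup.mem_top z)
  have h1 := MonoidHom.transfer_eq_pow (MonoidHom.id (P : Subgroup G)) z
    fun k g hk => hcz k g
  rw [h0] at h1
  have h2 : z ^ (P : Subgroup G).index = 1 := congrArg Subtype.val h1.symm
  rcases (Nat.dvd_prime Fact.out).mp (orderOf_dvd_of_pow_eq_one hzp) with h | h
  · exact orderOf_eq_one_iff.mp h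
  · exact absurd (h.symm.dvd.trans (orderOf_dvd_of_pow_eq_one h2)) P.not_dvd_index

theorem isCyclic_sylow {P : Sylow p G} (hP : IsCyclic (P : Subgroup G)) (Q : Sylow p G) :
    IsCyclic (Q : Subgroup G) :=
  isCyclic_of_surjective (P.equiv Q) (P.equiv Q).surjective

/-- In a cyclic group, two elements of order `p` generate the same subgroup. -/
theorem mem_zpowers_of_pow_eq_one {C : Type*} [Group C] [Finite C] [IsCyclic C] {z y : C}
    (hz : orderOf z = p) (hy : y ^ p = 1) : y ∈ Subgroup.zpowers z := by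
  classical
  haveI := Fintype.ofFinite C
  have hle := IsCyclic.card_pow_eq_one_le (α := C) (Fact.out : p.Prime).pos
  have hsub : (Subgroup.zpowers z : Set C).toFinset ⊆ ({a : C | a ^ p = 1} : Finset C) := by
    intro a ha
    obtain ⟨k, rfl⟩ := Subgroup.mem_zpowers_iff.mp (Set.mem_toFinset.mp ha)
    rw [Finset.mem_filter]
    refine ⟨Finset.mem_univ _, ?_⟩
    rw [← zpow_natCast, ← zpow_mul, mul_comm, zpow_mul, zpow_natCast, ← hz, pow_orderOf_eq_one,
      one_zpow]
  have heq := Finset.eq_of_subset_of_card_le hsub (hle.trans (by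
    rw [Set.toFinset_card, ← Nat.card_eq_fintype_card]
    exact le_of_eq (hz.symm.trans (Nat.card_zpowers z).symm)))
  exact Set.mem_toFinset.mp (heq ▸ (Finset.mem_filter.mpr ⟨Finset.mem_univ _, hy⟩))

/-- Commuting elements of order `p` generate the same subgroup. -/
theorem mem_zpowers_of_commute {P : Sylow p G} (hP : IsCyclic (P : Subgroup G)) {z y : G}
    (hz : orderOf z = p) (hy : y ^ p = 1) (hzy : Commute z y) : y ∈ Subgroup.zpowers z := by
  have hzp : IsPGroup p (Subgroup.zpowers z) :=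
    IsPGroup.of_card (n := 1) (by rw [Nat.card_zpowers, hz, pow_one])
  obtain ⟨n, hn⟩ : ∃ n, orderOf y = p ^ n := by
    rcases (Nat.dvd_prime Fact.out).mp (orderOf_dvd_of_pow_eq_one hy) with h | h
    · exact ⟨0, by simp [h]⟩
    · exact ⟨1, by simp [h]⟩
  have hyp : IsPGroup p (Subgroup.zpowers y) :=
    IsPGroup.of_card (n := n) (by rw [Nat.card_zpowers, hn])
  have hnorm : Subgroup.zpowers y ≤ Subgroup.normalizer (Subgroup.zpowers z : Set G) := by
    refine Subgroup.zpowers_le.mpr (Subgroup.centralizer_le_normalizer _ ?_)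
    rintro _ ⟨k, rfl⟩
    exact (hzy.zpow_left k).eq
  obtain ⟨Q, hQ⟩ := (hzp.to_sup_of_normal_left' hyp hnorm).exists_le_sylow
  haveI := isCyclic_sylow hP Q
  have hzQ : z ∈ (Q : Subgroup G) := hQ (Subgroup.mem_sup_left (Subgroup.mem_zpowers z))
  have hyQ : y ∈ (Q : Subgroup G) := hQ (Subgroup.mem_sup_right (Subgroup.mem_zpowers y))
  have h := mem_zpowers_of_pow_eq_one (C := (Q : Subgroup G)) (z := ⟨z, hzQ⟩) (y := ⟨y, hyQ⟩)
    (by rw [Subgroup.orderOf_mk, hz]) (Subtype.ext hy)
  obtain ⟨k, hk⟩ := Subgroup.mem_zpowers_iff.mp h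
  exact Subgroup.mem_zpowers_iff.mpr ⟨k, congrArg Subtype.val hk⟩

/-- A `g` fixing an element of order `p` of a cyclic normal `p`-subgroup acts on it as a
`p`-element. -/
theorem exists_pow_mem_centralizer {P : Subgroup G} [P.Normal] [IsCyclic P] (hP : IsPGroup p P)
    {z g : G} (hz : z ∈ P) (hzo : orderOf z = p) (hgz : g * z * g⁻¹ = z) :
    ∃ k : ℕ, g ^ p ^ k ∈ Subgroup.centralizer (P : Set G) := by
  obtain ⟨n, hn⟩ := IsPGroup.iff_card.mp hP
  obtain ⟨m, hm⟩ := MonoidHom.map_cyclic (MulAut.conjNormal g : MulAut P).toMonoidHom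
  have hstep : ∀ x ∈ P, g * x * g⁻¹ = x ^ m := fun x hx => by
    have := congrArg Subtype.val (hm ⟨x, hx⟩)
    rwa [Subgroup.coe_zpow, MulEquiv.coe_toMonoidHom, MulAut.conjNormal_apply] at this
  have hiter : ∀ (i : ℕ), ∀ x ∈ P, g ^ i * x * (g ^ i)⁻¹ = x ^ (m ^ i) := by
    intro i
    induction i with
    | zero => intro x _; simp
    | succ i ih =>
      intro x hx
      have : g ^ (i + 1) * x * (g ^ (i + 1))⁻¹ = g * (g ^ i * x * (g ^ i)⁻¹) * g⁻¹ := by
        rw [pow_succ']; group
      rw [this, ih x hx, hstep _ (P.zpow_mem hx _), ← zpow_mul, pow_succ]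
  have hm1 : (p : ℤ) ∣ m - 1 := by
    rw [← hzo, orderOf_dvd_iff_zpow_eq_one, zpow_sub_one, ← hstep z hz, hgz, mul_inv_cancel]
  have hd := dvd_sub_pow_of_dvd_sub (R := ℤ) (a := m) (b := 1) hm1 n
  rw [one_pow] at hd
  refine ⟨n, fun x hx => ?_⟩
  have h1 : x ^ (m ^ p ^ n - 1) = 1 := by
    rw [← orderOf_dvd_iff_zpow_eq_one]
    refine dvd_trans ?_ ((pow_dvd_pow (p : ℤ) n.le_succ).trans hd)
    rw [← Nat.cast_pow, Int.natCast_dvd_natCast, ← hn]
    exact Subgroup.orderOf_dvd_natCard P hx
  have h2 := hiter (p ^ n) x hx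
  rw [zpow_sub_one, mul_inv_eq_one] at h1
  rw [h1] at h2
  exact (mul_inv_eq_iff_eq_mul.mp h2).symm

/-- `O_{p'} = 1`, cyclic Sylow `p`-subgroup and no components. -/
theorem cyclic_sylow_no_layer (hp : p ∣ Nat.card G) (hO : Cfsg.pPrimeCore p G = ⊥)
    (P : Sylow p G) [hc : IsCyclic (P : Subgroup G)] (hE : Cfsg.layer G = ⊥) :
    (P : Subgroup G).Normal ∧
      Subgroup.centralizer ((P : Subgroup G) : Set G) = (P : Subgroup G) ∧
      (∀ (_ : (P : Subgroup G).Normal), IsCyclic (G ⧸ (P : Subgroup G))) ∧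
      (P : Subgroup G).index ∣ p - 1 := by
  have hC := genFitting_eq_pCore_iff.mp (genFitting_eq_pCore_iff_cores.mpr ⟨hE, hO⟩)
  have hQP : Cfsg.pCore p G ≤ (P : Subgroup G) := Cores.pCore_le_sylow P
  have hPC : (P : Subgroup G) ≤ Subgroup.centralizer ((P : Subgroup G) : Set G) :=
    Subgroup.le_centralizer (P : Subgroup G)
  have hPQ : (P : Subgroup G) = Cfsg.pCore p G :=
    le_antisymm ((hPC.trans (Subgroup.centralizer_le hQP)).trans hC) hQP
  have hPn : (P : Subgroup G).Normal := hPQ ▸ inferInstance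
  have hPC' : Subgroup.centralizer ((P : Subgroup G) : Set G) = (P : Subgroup G) :=
    le_antisymm (by rw [hPQ]; exact hC) hPC
  obtain ⟨z, hz⟩ := exists_prime_orderOf_dvd_card' p (P.dvd_card_of_dvd_card hp)
  have hzo : orderOf (z : G) = p := by rw [Subgroup.orderOf_coe, hz]
  set Z := Subgroup.zpowers (z : G)
  have hZn : Z.Normal := by
    refine ⟨fun x hx g => ?_⟩
    obtain ⟨k, rfl⟩ := Subgroup.mem_zpowers_iff.mp hx
    rw [← conj_zpow]
    refine Z.zpow_mem ?_ k
    have h := mem_zpowers_of_pow_eq_one (C := (P : Subgroup G)) hz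
      (y := ⟨g * z * g⁻¹, hPn.conj_mem _ z.2 g⟩)
      (Subtype.ext (by
        show (g * (z : G) * g⁻¹) ^ p = 1
        rw [conj_pow, orderOf_dvd_iff_pow_eq_one.mp hzo.dvd, mul_one, mul_inv_cancel]))
    obtain ⟨j, hj⟩ := Subgroup.mem_zpowers_iff.mp h
    exact Subgroup.mem_zpowers_iff.mpr ⟨j, congrArg Subtype.val hj⟩
  have hZc : Nat.card Z = p := by rw [Nat.card_zpowers, hzo]
  haveI : IsCyclic Z := isCyclic_of_prime_card hZc
  set χ : G →* MulAut Z := MulAut.conjNormal
  have hker : χ.ker = (P : Subgroup G) := by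
    refine le_antisymm (fun g hg => ?_) fun g hg => MonoidHom.mem_ker.mpr ?_
    · have hgz : g * (z : G) * g⁻¹ = z := by
        have h := congrArg (fun e : MulAut Z => ((e ⟨z, Subgroup.mem_zpowers (z : G)⟩ : Z) : G))
          (MonoidHom.mem_ker.mp hg)
        simpa [χ] using h
      obtain ⟨k, hk⟩ := exists_pow_mem_centralizer P.isPGroup' z.2 hzo hgz
      rw [hPC'] at hk
      obtain ⟨j, hj⟩ := P.isPGroup' ⟨_, hk⟩
      have hj' : g ^ p ^ (k + j) = 1 := by
        rw [pow_add, pow_mul]; exact congrArg Subtype.val hj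
      have hgp : IsPGroup p (Subgroup.zpowers g) := by
        obtain ⟨i, -, hi⟩ := (Nat.dvd_prime_pow Fact.out).mp (orderOf_dvd_of_pow_eq_one hj')
        exact IsPGroup.of_card (n := i) (by rw [Nat.card_zpowers, hi])
      obtain ⟨S, hS⟩ := hgp.exists_le_sylow
      letI := Sylow.unique_of_normal P hPn
      exact (Subsingleton.elim S P) ▸ hS (Subgroup.mem_zpowers g)
    · ext x
      have hxP : (x : G) ∈ (P : Subgroup G) := Subgroup.zpowers_le.mpr z.2 x.2
      simp [χ, MulAut.conjNormal_apply, mul_inv_eq_iff_eq_mul, (hPC hg) _ hxP]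
  have hcard : Nat.card (MulAut Z) = p - 1 := by
    rw [IsCyclic.card_mulAut, hZc, Nat.totient_prime Fact.out]
  haveI : IsCyclic (MulAut Z) := by
    haveI : IsCyclic (ZMod (Nat.card Z))ˣ := by
      rw [hZc]; exact ZMod.isCyclic_units_prime Fact.out
    exact isCyclic_of_surjective (IsCyclic.mulAutMulEquiv Z).symm
      (IsCyclic.mulAutMulEquiv Z).symm.surjective
  refine ⟨hPn, hPC', fun _ => ?_, ?_⟩
  · let e := (QuotientGroup.quotientMulEquivOfEq hker.symm).trans
      (QuotientGroup.quotientKerEquivRange χ)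
    exact isCyclic_of_surjective e.symm e.symm.surjective
  · rw [← hker, Subgroup.index_ker, ← hcard]
    exact Subgroup.card_subgroup_dvd_card _

/-- `O_{p'} = 1`, cyclic Sylow `p`-subgroup and a component. -/
theorem cyclic_sylow_layer (hO : Cfsg.pPrimeCore p G = ⊥)
    (P : Sylow p G) [hc : IsCyclic (P : Subgroup G)] (hE : Cfsg.layer G ≠ ⊥) :
    IsSimpleGroup (Cfsg.generalizedFittingSubgroup G) ∧
      ¬ IsMulCommutative (Cfsg.generalizedFittingSubgroup G) ∧
      ¬ p ∣ (Cfsg.generalizedFittingSubgroup G).index := by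
  obtain ⟨L, hL⟩ : ∃ L : Subgroup G, Cfsg.IsComponent L := by
    by_contra h
    exact hE (layer_eq_bot_iff.mpr fun L hL => h ⟨L, hL⟩)
  have hkey : ∀ {M : Subgroup G} {y : G}, Cfsg.IsComponent M → y ∈ M → y ^ p = 1 →
      (∀ x ∈ M, Commute x y) → y = 1 := by
    intro M y hM hy hyp hcomm
    haveI : Group.IsPerfect M := hM.2.1
    obtain ⟨R⟩ : Nonempty (Sylow p M) := inferInstance
    obtain ⟨S, hS⟩ := (R.isPGroup'.map M.subtype).exists_le_sylow
    haveI := isCyclic_sylow hc S
    haveI : IsMulCommutative (R : Subgroup M) := ⟨⟨fun a b => Subtype.ext (M.subtype_injective (by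
      have ha : M.subtype a ∈ (S : Subgroup G) := hS ⟨a, a.2, rfl⟩
      have hb : M.subtype b ∈ (S : Subgroup G) := hS ⟨b, b.2, rfl⟩
      simpa using congrArg Subtype.val
        (mul_comm (⟨_, ha⟩ : (S : Subgroup G)) ⟨_, hb⟩)))⟩⟩
    exact congrArg Subtype.val (eq_one_of_perfect_center R (z := ⟨y, hy⟩)
      (Subgroup.mem_center_iff.mpr fun x => Subtype.ext (hcomm x x.2)) (Subtype.ext hyp))
  obtain ⟨y₀, hy₀⟩ := exists_prime_orderOf_dvd_card' p (dvd_card_component hO hL)
  have hy₀o : orderOf (y₀ : G) = p := by rw [Subgroup.orderOf_coe, hy₀]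
  have huniq : ∀ M : Subgroup G, Cfsg.IsComponent M → M = L := by
    intro M hM
    by_contra hne
    obtain ⟨y, hy⟩ := exists_prime_orderOf_dvd_card' p (dvd_card_component hO hM)
    have hyo : orderOf (y : G) = p := by rw [Subgroup.orderOf_coe, hy]
    have hcomm := components_commute hL hM (Ne.symm hne)
    have hmem : (y : G) ∈ Subgroup.zpowers (y₀ : G) := mem_zpowers_of_commute hc hy₀o
      (by rw [← hyo, pow_orderOf_eq_one]) (commute_of_commutator_eq_bot hcomm y₀.2 y.2)
    have hyL : (y : G) ∈ L := Subgroup.zpowers_le.mpr y₀.2 hmem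
    have := hkey hM y.2 (by rw [← hyo, pow_orderOf_eq_one]) fun x hx =>
      (commute_of_commutator_eq_bot hcomm hyL hx).symm
    rw [this, orderOf_one] at hyo
    exact (Fact.out : p.Prime).one_lt.ne hyo
  have hEL : Cfsg.layer G = L :=
    le_antisymm (layer_le_iff.mpr fun M hM => (huniq M hM).le) (component_le_layer hL)
  have hQ : Cfsg.pCore p G = ⊥ := by
    by_contra hb
    have hd : p ∣ Nat.card (Cfsg.pCore p G) := by
      obtain ⟨n, hn⟩ := IsPGroup.iff_card.mp (isPGroup_pCore p (G := G))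
      rcases n with _ | n
      · exact absurd (Subgroup.eq_bot_of_card_eq _ (by simpa using hn)) hb
      · rw [hn]; exact dvd_pow_self p n.succ_ne_zero
    obtain ⟨w, hw⟩ := exists_prime_orderOf_dvd_card' p hd
    have hwo : orderOf (w : G) = p := by rw [Subgroup.orderOf_coe, hw]
    have hwL : ∀ x ∈ L, Commute x (w : G) := fun x hx =>
      commute_of_commutator_eq_bot (component_commutator_fitting hL) hx
        (pCore_le_fitting p w.2)
    have hmem : (y₀ : G) ∈ Subgroup.zpowers (w : G) := mem_zpowers_of_commute hc hwo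
      (by rw [← hy₀o, pow_orderOf_eq_one]) (hwL _ y₀.2).symm
    obtain ⟨k, hk⟩ := Subgroup.mem_zpowers_iff.mp hmem
    have := hkey hL y₀.2 (by rw [← hy₀o, pow_orderOf_eq_one]) fun x hx =>
      hk ▸ (hwL x hx).zpow_right k
    rw [this, orderOf_one] at hy₀o
    exact (Fact.out : p.Prime).one_lt.ne hy₀o
  have hF : Cfsg.fittingSubgroup G = ⊥ := le_bot_iff.mp ((fitting_le_pCore hO).trans hQ.le)
  have hGF : Cfsg.generalizedFittingSubgroup G = L := by
    rw [genFitting_eq_sup, hF, sup_bot_eq, hEL]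
  have hZ : Subgroup.center L = ⊥ := by
    have h := center_layer_eq_fitting_inf (G := G)
    rw [hF, bot_inf_eq, Subgroup.map_eq_bot_iff_of_injective _ (Cfsg.layer G).subtype_injective,
      hEL] at h
    exact h
  have hsimp : IsSimpleGroup L := by
    haveI := hL.2.2
    haveI := qs_nontrivial hL.2
    refine ⟨fun N hN => ?_⟩
    by_cases ht : N = ⊤
    · exact Or.inr ht
    · exact Or.inl (le_bot_iff.mp ((qs_normal_le_center hL.2 N ht).trans hZ.le))
  have hnc : ¬ IsMulCommutative L := fun h => qs_not_isSolvable hL.2 inferInstance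
  refine ⟨by rw [hGF]; exact hsimp, by rw [hGF]; exact hnc, ?_⟩
  rw [hGF]
  have hLn : L.Normal := hEL ▸ inferInstance
  haveI : Group.IsPerfect L := hL.2.1
  suffices hPL : (P : Subgroup G) ≤ L from fun hd =>
    P.not_dvd_index (hd.trans (Subgroup.index_dvd_of_le hPL))
  set H := L ⊔ (P : Subgroup G)
  have hLH : L ≤ H := le_sup_left
  let PH : Sylow p H := P.subtype le_sup_right
  haveI : IsCyclic PH := isCyclic_of_surjective _
    (Subgroup.subgroupOfEquivOfLe (le_sup_right : (P : Subgroup G) ≤ H)).symm.surjective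
  rcases PH.normalizer_le_centralizer_or_le_commutator with h | h
  · exfalso
    haveI : IsMulCommutative (PH : Subgroup H) := inferInstance
    set τ := MonoidHom.transferSylow PH h
    have hLker : L.subgroupOf H ≤ τ.ker := by
      have hperf : ⁅L.subgroupOf H, L.subgroupOf H⁆ = L.subgroupOf H := by
        apply Subgroup.map_injective H.subtype_injective
        rw [Subgroup.map_commutator, map_subgroupOf hLH, component_perfect hL]
      rw [← hperf, Subgroup.commutator_le]
      intro a _ b _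
      rw [MonoidHom.mem_ker, map_commutatorElement, commutatorElement_eq_one_iff_mul_comm]
      exact mul_comm _ _
    refine MonoidHom.not_dvd_card_ker_transferSylow PH h ?_
    refine (dvd_card_component hO hL).trans ?_
    rw [← Nat.card_congr (Subgroup.subgroupOfEquivOfLe hLH).toEquiv]
    exact Subgroup.card_dvd_of_le hLker
  · have hc' : commutator H ≤ L.subgroupOf H := by
      rw [commutator_def, Subgroup.commutator_le]
      intro a _ b _
      obtain ⟨l₁, hl₁, q₁, hq₁, ha⟩ := Subgroup.mem_sup_of_normal_left.mp a.2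
      obtain ⟨l₂, hl₂, q₂, hq₂, hb⟩ := Subgroup.mem_sup_of_normal_left.mp b.2
      rw [Subgroup.mem_subgroupOf, ← QuotientGroup.eq_one_iff]
      have h1 : QuotientGroup.mk' L (a : G) = QuotientGroup.mk' L q₁ := by
        rw [← ha, map_mul, (QuotientGroup.eq_one_iff l₁).mpr hl₁ |> (fun e => (e :
          QuotientGroup.mk' L l₁ = 1)), one_mul]
      have h2 : QuotientGroup.mk' L (b : G) = QuotientGroup.mk' L q₂ := by
        rw [← hb, map_mul, (QuotientGroup.eq_one_iff l₂).mpr hl₂ |> (fun e => (e :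
          QuotientGroup.mk' L l₂ = 1)), one_mul]
      show QuotientGroup.mk' L ((⁅a, b⁆ : H) : G) = 1
      rw [show ((⁅a, b⁆ : H) : G) = ⁅(a : G), (b : G)⁆ from map_commutatorElement H.subtype a b,
        map_commutatorElement, h1, h2, commutatorElement_eq_one_iff_mul_comm, ← map_mul, ← map_mul]
      congr 1
      exact congrArg Subtype.val (mul_comm (⟨q₁, hq₁⟩ : (P : Subgroup G)) ⟨q₂, hq₂⟩)
    intro x hx
    exact hc' (h (Subgroup.mem_subgroupOf.mpr hx : (⟨x, Subgroup.mem_sup_right hx⟩ : H) ∈ _))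

end Cfsg.Agent.Components
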