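import Cfsg.Agent.Components.TransferOrbit

/-!
# Transfer into a cyclic group of order four from subgroups missing part of an extraspecial normal
subgroup of a `2`-group
-/

set_option autoImplicit false
set_option linter.style.haveILetI false

namespace Cfsg.Agent.Components.TransferOrbit

open Subgroup

variable {R : Type*} [Group R] [Finite R] {A : Type*} [CommGroup A]

/-- Transfer from a subgroup of index two is a square everywhere. -/
theorem isSquare_transfer_index_two {M : Subgroup R} (hM : M.index = 2) (η : M →* A) {y : R}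
    (hy : y ∉ M) (hyy : ∀ h : y * y ∈ M, IsSquare (η ⟨y * y, h⟩))
    (hc : ∀ x ∈ M, ∀ h : x⁻¹ * y⁻¹ * x * y ∈ M, IsSquare (η ⟨x⁻¹ * y⁻¹ * x * y, h⟩)) (g : R) :
    IsSquare (MonoidHom.transfer η g) := by
  classical
  letI := Fintype.ofFinite (R ⧸ M)
  haveI hMn : M.Normal := normal_of_index_eq_two hM
  let s : R ⧸ M → R := fun q => if q = ((1 : R) : R ⧸ M) then 1 else y
  have hy' : (y : R ⧸ M) ≠ ((1 : R) : R ⧸ M) := fun h => hy (by
    simpa using M.inv_mem (by simpa using QuotientGroup.eq.mp h : y⁻¹ ∈ M))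
  have huniv : (Finset.univ : Finset (R ⧸ M)) = {((1 : R) : R ⧸ M), (y : R ⧸ M)} := by
    refine (Finset.eq_univ_of_card _ ?_).symm
    rw [Finset.card_pair hy'.symm, ← Nat.card_eq_fintype_card]
    exact hM.symm
  have hs : ∀ q : R ⧸ M, (s q : R ⧸ M) = q := fun q => by
    have hq : q ∈ ({((1 : R) : R ⧸ M), (y : R ⧸ M)} : Finset (R ⧸ M)) := huniv ▸ Finset.mem_univ q
    rw [Finset.mem_insert, Finset.mem_singleton] at hq
    rcases hq with rfl | rfl
    · simp [s]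
    · simp only [s, if_neg hy']
  have hs1 : s ((1 : R) : R ⧸ M) = 1 := if_pos rfl
  have hsy : s (y : R ⧸ M) = y := if_neg hy'
  have hval : ∀ x, MonoidHom.transfer η x =
      ext1 η ((s (x : R ⧸ M))⁻¹ * x) * ext1 η ((s ((x * y : R) : R ⧸ M))⁻¹ * (x * y)) := fun x => by
    rw [transfer_eq_prod η s hs, huniv, Finset.prod_pair hy'.symm, hs1, hsy, mul_one]
    change ext1 η ((s ((x * 1 : R) : R ⧸ M))⁻¹ * x) * ext1 η ((s ((x * y : R) : R ⧸ M))⁻¹ * (x * y)) = _
    rw [mul_one]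
  have hin : ∀ x ∈ M, IsSquare (MonoidHom.transfer η x) := fun x hx => by
    have h1 : (x : R ⧸ M) = ((1 : R) : R ⧸ M) := QuotientGroup.eq.mpr (by simpa using hx)
    have h2 : ((x * y : R) : R ⧸ M) = (y : R ⧸ M) := by
      refine QuotientGroup.eq.mpr ?_
      have := hMn.conj_mem x⁻¹ (inv_mem hx) y⁻¹
      simpa [mul_assoc] using this
    rw [hval, h1, hs1, h2, hsy, inv_one, one_mul, ext1_mem η hx]
    have h3 : y⁻¹ * (x * y) ∈ M := by simpa [mul_assoc] using hMn.conj_mem x hx y⁻¹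
    have h4 : x⁻¹ * y⁻¹ * x * y ∈ M := by simpa [mul_assoc] using mul_mem (inv_mem hx) h3
    rw [ext1_mem η h3, show (⟨y⁻¹ * (x * y), h3⟩ : M) = ⟨x, hx⟩ * ⟨_, h4⟩ from
      Subtype.ext (by simp [mul_assoc]), map_mul, ← mul_assoc]
    exact (IsSquare.mul_self _).mul (hc x hx h4)
  have hyV : IsSquare (MonoidHom.transfer η y) := by
    have h1 : y * y ∈ M := (mul_mem_iff_of_index_two hM).mpr (by simp [hy])
    have h2 : ((y * y : R) : R ⧸ M) = ((1 : R) : R ⧸ M) := QuotientGroup.eq.mpr (by simpa using inv_mem h1)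
    rw [hval, hsy, h2, hs1, inv_mul_cancel, ext1_mem η (one_mem M),
      show (⟨1, one_mem M⟩ : M) = 1 from rfl, map_one, one_mul, inv_one, one_mul, ext1_mem η h1]
    exact hyy h1
  by_cases hg : g ∈ M
  · exact hin g hg
  · have h1 : y⁻¹ * g ∈ M := (mul_mem_iff_of_index_two hM).mpr (by simp [hy, hg])
    rw [show g = y * (y⁻¹ * g) by group, map_mul]
    exact hyV.mul (hin _ h1)

theorem isSquare_transfer_of_not_le (hR : IsPGroup 2 R) {E K : Subgroup R} [E.Normal]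
    (hEK : ¬ E ≤ K) (z : R)
    (hcomm : ∀ a ∈ E, ∀ b ∈ E, a * b * a⁻¹ * b⁻¹ = 1 ∨ a * b * a⁻¹ * b⁻¹ = z)
    (hsq : ∀ a ∈ E, a * a = 1 ∨ a * a = z)
    (hnc : ∀ M : Subgroup R, ∀ y ∈ E, y ∉ M → (∀ x ∈ E, x ∈ M ∨ y⁻¹ * x ∈ M) →
      ∃ a ∈ E, a ∈ M ∧ ∃ b ∈ E, b ∈ M ∧ a * b ≠ b * a)
    (hA : ∀ x : A, x * x = 1 → IsSquare x) (ψ : K →* A) (t : R) :
    IsSquare (MonoidHom.transfer ψ t) := by
  classical
  set R' := K ⊔ E with hR'
  rw [transfer_trans (le_sup_left : K ≤ R') ψ]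
  set ψ₁ := ψ.comp (subgroupOfEquivOfLe (le_sup_left : K ≤ R')).toMonoidHom
  suffices h : ∀ x, IsSquare (MonoidHom.transfer ψ₁ x) by
    obtain ⟨x, hx⟩ := transfer_mem_range (MonoidHom.transfer ψ₁) t
    rw [← hx]
    exact h x
  intro x
  obtain ⟨n, hn⟩ := IsPGroup.iff_card.mp (hR.to_subgroup R')
  obtain ⟨k, hk⟩ := IsPGroup.iff_card.mp ((hR.to_subgroup R').to_subgroup (K.subgroupOf R'))
  have hne : K.subgroupOf R' ≠ ⊤ := fun h => hEK (le_trans le_sup_right (subgroupOf_eq_top.mp h))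
  have hlt : k < n := by
    refine (Nat.pow_lt_pow_iff_right one_lt_two).mp ?_
    rw [← hk, ← hn]
    exact lt_of_le_of_ne (card_le_card_group _) fun h => hne (eq_top_of_card_eq _ h)
  obtain ⟨M, hMcard, hKM⟩ := Sylow.exists_subgroup_card_pow_prime_le (p := 2) (n := k) (m := n - 1)
    (hn ▸ pow_dvd_pow 2 (Nat.sub_le n 1)) (K.subgroupOf R') hk (by omega)
  have hM : M.index = 2 := by
    have h := M.card_mul_index
    rw [hMcard, hn] at h
    have h2 : 2 ^ n = 2 ^ (n - 1) * 2 := by rw [← pow_succ]; congr 1; omega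
    exact Nat.eq_of_mul_eq_mul_left (Nat.two_pow_pos (n - 1)) (h.trans h2)
  obtain ⟨y, hyE, hyM⟩ : ∃ y : R', (y : R) ∈ E ∧ y ∉ M := by
    by_contra hcon
    have h1 : E.subgroupOf R' ≤ M := fun y hy => by_contra fun hyM => hcon ⟨y, hy, hyM⟩
    have h2 : (⊤ : Subgroup R') ≤ M := by
      have h3 : (K ⊔ E).subgroupOf R' = ⊤ := subgroupOf_self R'
      rw [← h3, subgroupOf_sup (le_sup_left : K ≤ R') le_sup_right]
      exact sup_le hKM h1
    have := index_eq_one.mpr (top_le_iff.mp h2)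
    omega
  rw [transfer_trans hKM ψ₁]
  set η := MonoidHom.transfer (ψ₁.comp (subgroupOfEquivOfLe hKM).toMonoidHom)
  have hcov : ∀ x ∈ E, x ∈ M.map R'.subtype ∨ (y : R)⁻¹ * x ∈ M.map R'.subtype := fun x hx => by
    have hxR' : x ∈ R' := (le_sup_right : E ≤ R') hx
    by_cases hxM : (⟨x, hxR'⟩ : R') ∈ M
    · exact Or.inl ⟨_, hxM, rfl⟩
    · exact Or.inr ⟨y⁻¹ * ⟨x, hxR'⟩, (mul_mem_iff_of_index_two hM).mpr (by simp [hyM, hxM]), rfl⟩
  obtain ⟨a, haE, ⟨a', ha'M, ha'⟩, b, hbE, ⟨b', hb'M, hb'⟩, hab⟩ :=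
    hnc (M.map R'.subtype) y hyE (fun ⟨y', hy', h⟩ => hyM (Subtype.ext h ▸ hy')) hcov
  have hab' : a * b * a⁻¹ * b⁻¹ = z := by
    refine (hcomm a haE b hbE).resolve_left fun h => hab ?_
    calc a * b = a * b * a⁻¹ * b⁻¹ * (b * a) := by group
      _ = b * a := by rw [h, one_mul]
  have hηz : ∀ w : M, ((w : R') : R) = z → η w = 1 := fun w hw => by
    have : w = ⟨a', ha'M⟩ * ⟨b', hb'M⟩ * (⟨a', ha'M⟩ : M)⁻¹ * (⟨b', hb'M⟩ : M)⁻¹ := by
      apply Subtype.ext; apply Subtype.ext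
      simp only [R'.subtype_apply] at ha' hb'
      simp [hw, ha', hb', hab']
    rw [this, map_mul, map_mul, map_mul, map_inv, map_inv, mul_right_comm (η _) (η _) (η _)⁻¹,
      mul_inv_cancel, one_mul, mul_inv_cancel]
  have hηE : ∀ w : M, ((w : R') : R) ∈ E → IsSquare (η w) := fun w hw => hA _ (by
    rw [← map_mul]
    rcases hsq _ hw with h | h
    · rw [show w * w = 1 from Subtype.ext (Subtype.ext h), map_one]
    · exact hηz _ h)
  refine isSquare_transfer_index_two hM η hyM (fun h => hηE _ ?_) (fun w hw h => hηE _ ?_) x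
  · exact mul_mem hyE hyE
  · exact mul_mem ((‹E.Normal›).conj_mem' _ (inv_mem hyE) (w : R)) hyE

end Cfsg.Agent.Components.TransferOrbit
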