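import Cfsg.Agent.Components.ExtraspecialTransfer

/-!
# Transfer into an elementary abelian `2`-group from subgroups meeting an extraspecial normal
subgroup in index at least four
-/

set_option autoImplicit false
set_option linter.style.haveILetI false

namespace Cfsg.Agent.Components.TransferOrbit

open Subgroup

variable {R : Type*} [Group R] [Finite R] {A : Type*} [CommGroup A]

theorem transfer_index_two_apply {M : Subgroup R} (hM : M.index = 2) (η : M →* A) {y : R}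
    (hy : y ∉ M) :
    (∀ x (hx : x ∈ M) (hxy : y⁻¹ * x * y ∈ M),
      MonoidHom.transfer η x = η ⟨x, hx⟩ * η ⟨y⁻¹ * x * y, hxy⟩) ∧
    ∀ h : y * y ∈ M, MonoidHom.transfer η y = η ⟨y * y, h⟩ := by
  classical
  letI := Fintype.ofFinite (R ⧸ M)
  let s : R ⧸ M → R := fun q => if q = ((1 : R) : R ⧸ M) then 1 else y
  have hy' : (y : R ⧸ M) ≠ ((1 : R) : R ⧸ M) := fun h => hy (by
    simpa using M.inv_mem (by simpa using QuotientGroup.eq.mp h : y⁻¹ ∈ M))
  have huniv : (Finset.univ : Finset (R ⧸ M)) = {((1 : R) : R ⧸ M), (y : R ⧸ M)} := by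
    refine (Finset.eq_univ_of_card _ ?_).symm
    rw [Finset.card_pair hy'.symm, ← Nat.card_eq_fintype_card]
    exact hM.symm
  have hs1 : s ((1 : R) : R ⧸ M) = 1 := if_pos rfl
  have hsy : s (y : R ⧸ M) = y := if_neg hy'
  have hs : ∀ q : R ⧸ M, (s q : R ⧸ M) = q := fun q => by
    have hq : q ∈ ({((1 : R) : R ⧸ M), (y : R ⧸ M)} : Finset (R ⧸ M)) := huniv ▸ Finset.mem_univ q
    rw [Finset.mem_insert, Finset.mem_singleton] at hq
    rcases hq with rfl | rfl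
    · rw [hs1]
    · rw [hsy]
  have hval : ∀ x, MonoidHom.transfer η x =
      ext1 η ((s ((x * 1 : R) : R ⧸ M))⁻¹ * (x * 1)) * ext1 η ((s ((x * y : R) : R ⧸ M))⁻¹ * (x * y)) :=
    fun x => by
      rw [transfer_eq_prod η s hs, huniv, Finset.prod_pair hy'.symm, hs1, hsy]
      rfl
  refine ⟨fun x hx hxy => ?_, fun h => ?_⟩
  · have h1 : ((x * 1 : R) : R ⧸ M) = ((1 : R) : R ⧸ M) := QuotientGroup.eq.mpr (by simpa using hx)
    have h2 : ((x * y : R) : R ⧸ M) = (y : R ⧸ M) := QuotientGroup.eq.mpr (by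
      simpa [mul_assoc] using inv_mem hxy)
    rw [hval, h1, hs1, h2, hsy, mul_one, inv_one, one_mul, ← mul_assoc, ext1_mem η hx, ext1_mem η hxy]
  · have h1 : ((y * 1 : R) : R ⧸ M) = (y : R ⧸ M) := by rw [mul_one]
    have h2 : ((y * y : R) : R ⧸ M) = ((1 : R) : R ⧸ M) := QuotientGroup.eq.mpr (by simpa using inv_mem h)
    rw [hval, h1, hsy, h2, hs1, mul_one, inv_mul_cancel, inv_one, one_mul, ext1_mem η (one_mem M),
      show (⟨1, one_mem M⟩ : M) = 1 from rfl, map_one, one_mul, ext1_mem η h]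

/-- A subgroup of index two above a proper subgroup of a `2`-group, missing a given element. -/
theorem exists_index_two (hR : IsPGroup 2 R) {E K : Subgroup R} (hKE : K ⊔ E = ⊤) (hEK : ¬ E ≤ K) :
    ∃ M : Subgroup R, K ≤ M ∧ M.index = 2 ∧ ∃ y ∈ E, y ∉ M := by
  obtain ⟨n, hn⟩ := IsPGroup.iff_card.mp hR
  obtain ⟨k, hk⟩ := IsPGroup.iff_card.mp (hR.to_subgroup K)
  have hne : K ≠ ⊤ := fun h => hEK (h ▸ le_top)
  have hlt : k < n := by
    refine (Nat.pow_lt_pow_iff_right one_lt_two).mp ?_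
    rw [← hk, ← hn]
    exact lt_of_le_of_ne (card_le_card_group _) fun h => hne (eq_top_of_card_eq _ h)
  obtain ⟨M, hMcard, hKM⟩ := Sylow.exists_subgroup_card_pow_prime_le (p := 2) (n := k) (m := n - 1)
    (hn ▸ pow_dvd_pow 2 (Nat.sub_le n 1)) K hk (by omega)
  have hM : M.index = 2 := by
    have h := M.card_mul_index
    rw [hMcard, hn] at h
    have h2 : 2 ^ n = 2 ^ (n - 1) * 2 := by rw [← pow_succ]; congr 1; omega
    exact Nat.eq_of_mul_eq_mul_left (Nat.two_pow_pos (n - 1)) (h.trans h2)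
  refine ⟨M, hKM, hM, ?_⟩
  by_contra hcon
  simp only [not_exists, not_and, not_not] at hcon
  have := index_eq_one.mpr (top_le_iff.mp (hKE ▸ sup_le hKM hcon : (⊤ : Subgroup R) ≤ M))
  omega

theorem transfer_eq_one_on (hR : IsPGroup 2 R) {E K : Subgroup R} [E.Normal] (hKE : K ⊔ E = ⊤)
    (hEK : ¬ E ≤ K) (z : R)
    (hcomm : ∀ a ∈ E, ∀ b ∈ E, a * b * a⁻¹ * b⁻¹ = 1 ∨ a * b * a⁻¹ * b⁻¹ = z)
    (hsq : ∀ a ∈ E, a * a = 1 ∨ a * a = z)
    (hnc : ∀ M : Subgroup R, ∀ y ∈ E, (∀ x ∈ E, x ∈ M ∨ y⁻¹ * x ∈ M) →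
      ∃ a ∈ E, a ∈ M ∧ ∃ b ∈ E, b ∈ M ∧ a * b ≠ b * a)
    (hA : ∀ x : A, x * x = 1) (ψ : K →* A) : ∀ e ∈ E, MonoidHom.transfer ψ e = 1 := by
  obtain ⟨M, hKM, hM, y, hyE, hyM⟩ := exists_index_two hR hKE hEK
  haveI hMn : M.Normal := normal_of_index_eq_two hM
  rw [transfer_trans hKM ψ]
  set η := MonoidHom.transfer (ψ.comp (subgroupOfEquivOfLe hKM).toMonoidHom)
  have hcov : ∀ x ∈ E, x ∈ M ∨ y⁻¹ * x ∈ M := fun x hx => by
    by_cases hxM : x ∈ M
    · exact Or.inl hxM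
    · exact Or.inr ((mul_mem_iff_of_index_two hM).mpr (by simp [hyM, hxM]))
  obtain ⟨a, haE, haM, b, hbE, hbM, hab⟩ := hnc M y hyE hcov
  have hz : a * b * a⁻¹ * b⁻¹ = z := (hcomm a haE b hbE).resolve_left fun h => hab (by
    calc a * b = a * b * a⁻¹ * b⁻¹ * (b * a) := by group
      _ = b * a := by rw [h, one_mul])
  have hηz : ∀ w : M, ((w : R) = 1 ∨ (w : R) = z) → η w = 1 := fun w hw => by
    rcases hw with h | h
    · rw [show w = 1 from Subtype.ext h, map_one]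
    · rw [show w = ⟨a, haM⟩ * ⟨b, hbM⟩ * (⟨a, haM⟩ : M)⁻¹ * (⟨b, hbM⟩ : M)⁻¹ from
        Subtype.ext (by simp [h, hz]), map_mul, map_mul, map_mul, map_inv, map_inv,
        mul_right_comm (η _) (η _) (η _)⁻¹, mul_inv_cancel, one_mul, mul_inv_cancel]
  obtain ⟨hv1, hv2⟩ := transfer_index_two_apply hM η hyM
  have hin : ∀ x ∈ E, x ∈ M → MonoidHom.transfer η x = 1 := fun x hxE hxM => by
    have h1 : y⁻¹ * x * y ∈ M := hMn.conj_mem' x hxM y
    have h2 : x⁻¹ * y⁻¹ * x * y ∈ M := by simpa [mul_assoc] using mul_mem (inv_mem hxM) h1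
    rw [hv1 x hxM h1, show (⟨y⁻¹ * x * y, h1⟩ : M) = ⟨x, hxM⟩ * ⟨_, h2⟩ from
      Subtype.ext (by simp [mul_assoc]), map_mul, ← mul_assoc, hA, one_mul]
    exact hηz _ (by simpa using hcomm _ (inv_mem hxE) _ (inv_mem hyE))
  have hyv : MonoidHom.transfer η y = 1 := by
    rw [hv2 ((mul_mem_iff_of_index_two hM).mpr (by simp [hyM]))]
    exact hηz _ (hsq y hyE)
  intro e he
  rcases hcov e he with h | h
  · exact hin e he h
  · rw [show e = y * (y⁻¹ * e) by group, map_mul, hyv, hin _ (mul_mem (inv_mem hyE) he) h, one_mul]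

/-- If `E ∩ K` has index at least four in `E`, the transfer from `K` is trivial. -/
theorem transfer_eq_one (hR : IsPGroup 2 R) {E K : Subgroup R} [E.Normal] (z : R)
    (hcomm : ∀ a ∈ E, ∀ b ∈ E, a * b * a⁻¹ * b⁻¹ = 1 ∨ a * b * a⁻¹ * b⁻¹ = z)
    (hsq : ∀ a ∈ E, a * a = 1 ∨ a * a = z)
    (hnot : ∀ y ∈ E, ∃ x ∈ E, x ∉ K ∧ y⁻¹ * x ∉ K)
    (hnc : ∀ M : Subgroup R, ∀ y ∈ E, ∀ y₁ ∈ E,
      (∀ x ∈ E, x ∈ M ∨ y⁻¹ * x ∈ M ∨ y₁⁻¹ * x ∈ M ∨ (y * y₁)⁻¹ * x ∈ M) →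
      ∃ a ∈ E, a ∈ M ∧ ∃ b ∈ E, b ∈ M ∧ a * b ≠ b * a)
    (hA : ∀ x : A, x * x = 1) (ψ : K →* A) (t : R) : MonoidHom.transfer ψ t = 1 := by
  classical
  have hEK : ¬ E ≤ K := fun h => by
    obtain ⟨x, hx, hxK, -⟩ := hnot 1 (one_mem E)
    exact hxK (h hx)
  set R' := K ⊔ E with hR'
  rw [transfer_trans (le_sup_left : K ≤ R') ψ]
  set ψ₁ := ψ.comp (subgroupOfEquivOfLe (le_sup_left : K ≤ R')).toMonoidHom
  suffices h : ∀ x, MonoidHom.transfer ψ₁ x = 1 by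
    obtain ⟨x, hx⟩ := transfer_mem_range (MonoidHom.transfer ψ₁) t
    rw [← hx]; exact h x
  intro x
  haveI hEn : (E.subgroupOf R').Normal := inferInstance
  have htop : K.subgroupOf R' ⊔ E.subgroupOf R' = ⊤ := by
    rw [← subgroupOf_sup (le_sup_left : K ≤ R') le_sup_right]
    exact subgroupOf_self R'
  obtain ⟨M, hKM, hM, y, hyE, hyM⟩ := exists_index_two (hR.to_subgroup R') htop
    (fun h => hEK fun e he => h (show (⟨e, (le_sup_right : E ≤ R') he⟩ : R') ∈ E.subgroupOf R' from he))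
  haveI hMn : M.Normal := normal_of_index_eq_two hM
  have hcov : ∀ w ∈ E.subgroupOf R', w ∈ M ∨ y⁻¹ * w ∈ M := fun w hw => by
    by_cases hwM : w ∈ M
    · exact Or.inl hwM
    · exact Or.inr ((mul_mem_iff_of_index_two hM).mpr (by simp [hyM, hwM]))
  set K₁ := (K.subgroupOf R').subgroupOf M
  set E₁ := (E.subgroupOf R').subgroupOf M
  haveI : E₁.Normal := inferInstance
  have htop₁ : K₁ ⊔ E₁ = ⊤ := by
    refine eq_top_iff.mpr fun m _ => ?_
    obtain ⟨k, hk, e, he, hke⟩ := mem_sup_of_normal_right.mp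
      (htop.symm ▸ mem_top (m : R') : (m : R') ∈ K.subgroupOf R' ⊔ E.subgroupOf R')
    have hek : e ∈ M := by
      rw [show e = k⁻¹ * (m : R') by rw [← hke]; group]
      exact mul_mem (inv_mem (hKM hk)) m.2
    rw [show m = ⟨k, hKM hk⟩ * ⟨e, hek⟩ from Subtype.ext hke.symm]
    exact mul_mem_sup hk he
  have hEK₁ : ¬ E₁ ≤ K₁ := fun h => by
    obtain ⟨w, hwE, hwK, hwK'⟩ := hnot (y : R) hyE
    have hwR : w ∈ R' := (le_sup_right : E ≤ R') hwE
    rcases hcov ⟨w, hwR⟩ hwE with h1 | h1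
    · exact hwK (h (show (⟨⟨w, hwR⟩, h1⟩ : M) ∈ E₁ from hwE))
    · exact hwK' (h (show (⟨y⁻¹ * ⟨w, hwR⟩, h1⟩ : M) ∈ E₁ from mul_mem (inv_mem hyE) hwE))
  rw [transfer_trans hKM ψ₁]
  set η := MonoidHom.transfer (ψ₁.comp (subgroupOfEquivOfLe hKM).toMonoidHom)
  have hη : ∀ w ∈ E₁, η w = 1 := by
    by_cases hzR : z ∈ R'
    · by_cases hzM : (⟨z, hzR⟩ : R') ∈ M
      · exact transfer_eq_one_on ((hR.to_subgroup R').to_subgroup M) htop₁ hEK₁ ⟨⟨z, hzR⟩, hzM⟩
          (fun a ha b hb => (hcomm _ ha _ hb).imp (fun h => Subtype.ext (Subtype.ext h))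
            (fun h => Subtype.ext (Subtype.ext h)))
          (fun a ha => (hsq _ ha).imp (fun h => Subtype.ext (Subtype.ext h))
            (fun h => Subtype.ext (Subtype.ext h)))
          (fun M₁ y₁ hy₁ hcov₁ => by
            obtain ⟨a, haE, ⟨a₁, ⟨a', ha', rfl⟩, rfl⟩, b, hbE, ⟨b₁, ⟨b', hb', rfl⟩, rfl⟩, hab⟩ :=
              hnc ((M₁.map M.subtype).map R'.subtype) (y : R) hyE ((y₁ : R') : R) hy₁ (fun w hw => by
                have hwR : w ∈ R' := (le_sup_right : E ≤ R') hw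
                rcases hcov ⟨w, hwR⟩ hw with h1 | h1
                · rcases hcov₁ ⟨⟨w, hwR⟩, h1⟩ hw with h2 | h2
                  · exact Or.inl ⟨_, ⟨_, h2, rfl⟩, rfl⟩
                  · exact Or.inr (Or.inr (Or.inl ⟨_, ⟨_, h2, rfl⟩, rfl⟩))
                · rcases hcov₁ ⟨_, h1⟩ (mul_mem (inv_mem hyE) hw) with h2 | h2
                  · exact Or.inr (Or.inl ⟨_, ⟨_, h2, rfl⟩, rfl⟩)
                  · exact Or.inr (Or.inr (Or.inr ⟨_, ⟨_, h2, rfl⟩, by simp [mul_assoc]⟩)))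
            exact ⟨a', haE, ha', b', hbE, hb', fun h => hab
              (congrArg (fun u : M => ((u : R') : R)) h)⟩)
          hA _
      · exfalso
        obtain ⟨a, haE, ⟨a', ha', rfl⟩, b, hbE, ⟨b', hb', rfl⟩, hab⟩ := hnc (M.map R'.subtype) (y : R) hyE 1 (one_mem E)
          (fun w hw => by
            have hwR : w ∈ R' := (le_sup_right : E ≤ R') hw
            rcases hcov ⟨w, hwR⟩ hw with h1 | h1
            · exact Or.inl ⟨_, h1, rfl⟩
            · exact Or.inr (Or.inl ⟨_, h1, rfl⟩))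
        rcases hcomm _ haE _ hbE with h | h <;> simp only [Subgroup.subtype_apply] at h hab
        · exact hab (by
            calc (a' : R) * b' = (a' : R) * b' * (a' : R)⁻¹ * (b' : R)⁻¹ * (b' * a') := by group
              _ = (b' : R) * a' := by rw [h, one_mul])
        · exact hzM (by
            rw [show (⟨z, hzR⟩ : R') = a' * b' * a'⁻¹ * b'⁻¹ from Subtype.ext (by simp [← h])]
            exact mul_mem (mul_mem (mul_mem ha' hb') (inv_mem ha')) (inv_mem hb'))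
    · exfalso
      obtain ⟨a, haE, -, b, hbE, -, hab⟩ := hnc ⊤ (1 : R) (one_mem E) 1 (one_mem E)
        (fun w _ => Or.inl (mem_top _))
      rcases hcomm _ haE _ hbE with h | h
      · exact hab (by
          calc a * b = a * b * a⁻¹ * b⁻¹ * (b * a) := by group
            _ = b * a := by rw [h, one_mul])
      · exact hzR ((le_sup_right : E ≤ R') (h ▸ mul_mem (mul_mem (mul_mem haE hbE) (inv_mem haE)) (inv_mem hbE)))
  have hsqA : ∀ u : A, IsSquare u → u = 1 := fun u ⟨r, hr⟩ => by rw [hr, hA]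
  refine hsqA _ (isSquare_transfer_index_two hM η hyM (fun h => ?_) (fun w hw h => ?_) x)
  · rw [hη ⟨_, h⟩ (mul_mem hyE hyE)]; exact IsSquare.one
  · rw [hη ⟨_, h⟩ (mul_mem (hEn.conj_mem' _ (inv_mem hyE) w) hyE)]; exact IsSquare.one

end Cfsg.Agent.Components.TransferOrbit
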