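import Cfsg.Agent.Frobenius.Nilpotent
import Cfsg.Agent.Frobenius.TwoFrobenius

/-!
A Frobenius group with a complement of prime order fixing only a cyclic subgroup of a coprime
module: the derived group of the kernel acts trivially.
-/

set_option autoImplicit false

namespace Cfsg.Agent.Components

universe u v

variable {Q : Type u} [Group Q] [Finite Q] {V : Type v} [CommGroup V] [Finite V]

/-- The restriction of an action to an invariant subgroup. -/
noncomputable def actRestrict (φ : Q →* MulAut V) (W : Subgroup V)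
    (hW : ∀ g, ∀ w ∈ W, φ g w ∈ W) : Q →* MulAut W where
  toFun g :=
    { toFun := fun w => ⟨φ g w, hW g w w.2⟩
      invFun := fun w => ⟨φ g⁻¹ w, hW g⁻¹ w w.2⟩
      left_inv := fun w => Subtype.ext (by
        show φ g⁻¹ (φ g (w : V)) = w
        rw [← MulAut.mul_apply, ← map_mul, inv_mul_cancel, map_one]; rfl)
      right_inv := fun w => Subtype.ext (by
        show φ g (φ g⁻¹ (w : V)) = w
        rw [← MulAut.mul_apply, ← map_mul, mul_inv_cancel, map_one]; rfl)
      map_mul' := fun a b => Subtype.ext (map_mul (φ g) (a : V) b) }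
  map_one' := MulEquiv.ext fun w => Subtype.ext (by
    show φ 1 (w : V) = w
    rw [map_one]; rfl)
  map_mul' g h := MulEquiv.ext fun w => Subtype.ext (by
    show φ (g * h) (w : V) = φ g (φ h w)
    rw [map_mul]; rfl)

/-- The action induced on the quotient by an invariant subgroup. -/
noncomputable def actQuotient (φ : Q →* MulAut V) (W : Subgroup V)
    (hW : ∀ g, ∀ w ∈ W, φ g w ∈ W) : Q →* MulAut (V ⧸ W) where
  toFun g :=
    MulEquiv.ofBijective (QuotientGroup.map W W (φ g).toMonoidHom fun w hw => hW g w hw)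
      (Finite.surjective_iff_bijective.1 fun x => by
        induction x using QuotientGroup.induction_on with
        | H z => exact ⟨QuotientGroup.mk ((φ g).symm z),
            congrArg QuotientGroup.mk ((φ g).apply_symm_apply z)⟩)
  map_one' := MulEquiv.ext fun x => by
    induction x using QuotientGroup.induction_on with
    | H z => exact congrArg QuotientGroup.mk (show φ 1 z = z by rw [map_one]; rfl)
  map_mul' g h := MulEquiv.ext fun x => by
    induction x using QuotientGroup.induction_on with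
    | H z => exact congrArg QuotientGroup.mk (show φ (g * h) z = φ g (φ h z) by rw [map_mul]; rfl)

/-- The product over the translates by a normal subgroup. -/
noncomputable def normMap (φ : Q →* MulAut V) (N : Subgroup Q) : V →* V :=
  haveI := Fintype.ofFinite N
  ∏ n : N, (φ (n : Q)).toMonoidHom

omit [Finite V] in
theorem normMap_apply (φ : Q →* MulAut V) (N : Subgroup Q) [Fintype N] (w : V) :
    normMap φ N w = ∏ n : N, φ (n : Q) w := by
  obtain rfl : ‹Fintype N› = Fintype.ofFinite N := Subsingleton.elim _ _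
  rw [normMap, MonoidHom.finsetProd_apply]
  rfl

omit [Finite V] in
theorem map_normMap (φ : Q →* MulAut V) (N : Subgroup Q) [hN : N.Normal] (g : Q) (w : V) :
    φ g (normMap φ N w) = normMap φ N (φ g w) := by
  have := Fintype.ofFinite N
  rw [normMap_apply, normMap_apply, map_prod]
  refine Fintype.prod_equiv (MulAut.conjNormal g : MulAut N).toEquiv _ _ fun n => ?_
  show φ g (φ (n : Q) w) = φ ((MulAut.conjNormal g n : N) : Q) (φ g w)
  rw [MulAut.conjNormal_apply, ← MulAut.mul_apply, ← map_mul, ← MulAut.mul_apply, ← map_mul,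
    inv_mul_cancel_right]

omit [Finite V] in
theorem normMap_apply_mem (φ : Q →* MulAut V) (N : Subgroup Q) {a : Q} (ha : a ∈ N) (w : V) :
    φ a (normMap φ N w) = normMap φ N w ∧ normMap φ N (φ a w) = normMap φ N w := by
  have := Fintype.ofFinite N
  rw [normMap_apply, normMap_apply, map_prod]
  constructor
  · refine Fintype.prod_equiv (Equiv.mulLeft (⟨a, ha⟩ : N)) _ _ fun n => ?_
    rw [← MulAut.mul_apply, ← map_mul]; rfl
  · refine Fintype.prod_equiv (Equiv.mulRight (⟨a, ha⟩ : N)) _ _ fun n => ?_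
    rw [← MulAut.mul_apply, ← map_mul]; rfl

omit [Finite V] in
theorem normMap_fixed (φ : Q →* MulAut V) (N : Subgroup Q) {w : V}
    (h : ∀ a ∈ N, φ a w = w) : normMap φ N w = w ^ Nat.card N := by
  have := Fintype.ofFinite N
  rw [normMap_apply, Finset.prod_congr rfl fun (n : N) _ => h n n.2, Finset.prod_const,
    Finset.card_univ, Nat.card_eq_fintype_card]

omit [Finite V] in
theorem eq_one_of_coprime_pow_eq {n : ℕ} (h : n.Coprime (Nat.card V)) {w : V} (hw : w ^ n = 1) :
    w = 1 :=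
  (Nat.Coprime.pow_left_bijective h.symm).injective (by rw [hw, one_pow])

/-- A normal subgroup of the kernel centralizes a module without fixed points of `y`. -/
theorem act_trivial_of_no_fixed (φ : Q →* MulAut V) (N : Subgroup Q) [N.Normal]
    (hcop : (Nat.card N).Coprime (Nat.card V)) {y : Q} {q : ℕ} (hq : 0 < q) (hyq : y ^ q = 1)
    (hfree : ∀ i, 0 < i → i < q → ∀ k ∈ N, k * y ^ i = y ^ i * k → k = 1)
    (hfix : ∀ w, φ y w = w → w = 1) : ∀ a ∈ N, ∀ w, φ a w = w := by
  have hW : ∀ g, ∀ w ∈ (normMap φ N).ker, φ g w ∈ (normMap φ N).ker := fun g w hw => by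
    rw [MonoidHom.mem_ker] at hw ⊢
    rw [← map_normMap, hw, map_one]
  have hker : (normMap φ N).ker = ⊥ := by
    by_contra hne
    have := (Subgroup.nontrivial_iff_ne_bot _).2 hne
    obtain ⟨w, hw1, hw⟩ := Frobenius.exists_fixed_of_kernel N
      (actRestrict φ (normMap φ N).ker hW)
      (hcop.coprime_dvd_right (Subgroup.card_subgroup_dvd_card _))
      (fun w hw => Subtype.ext (eq_one_of_coprime_pow_eq hcop (by
        rw [← normMap_fixed φ N fun a ha => congrArg Subtype.val (hw a ha)]; exact w.2)))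
      hq hyq hfree
    exact hw1 (Subtype.ext (hfix w (congrArg Subtype.val hw)))
  intro a ha w
  exact (MonoidHom.ker_eq_bot_iff _).1 hker (normMap_apply_mem φ N ha w).2

/-- The derived group of the kernel acts trivially. -/
theorem commutator_act_trivial (φ : Q →* MulAut V) (K : Subgroup Q) [hK : K.Normal]
    (hnil : Group.IsNilpotent K) (hcop : (Nat.card K).Coprime (Nat.card V)) {y : Q} {q : ℕ}
    (hq : 0 < q) (hyq : y ^ q = 1) (hqV : q.Coprime (Nat.card V))
    (hfree : ∀ i, 0 < i → i < q → ∀ k ∈ K, k * y ^ i = y ^ i * k → k = 1)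
    (hfix : ∀ v w, φ y v = v → v ≠ 1 → φ y w = w → w ∈ Subgroup.zpowers v) :
    ∀ k₁ ∈ K, ∀ k₂ ∈ K, φ k₁ * φ k₂ = φ k₂ * φ k₁ := by
  classical
  let A : Subgroup Q :=
    { carrier := {a | a ∈ K ∧ ∀ k ∈ K, φ a * φ k = φ k * φ a}
      one_mem' := ⟨one_mem _, fun k _ => by rw [map_one, one_mul, mul_one]⟩
      mul_mem' := fun {a b} ha hb => ⟨mul_mem ha.1 hb.1, fun k hk => by
        rw [map_mul, mul_assoc, hb.2 k hk, ← mul_assoc, ha.2 k hk, mul_assoc]⟩
      inv_mem' := fun {a} ha => ⟨inv_mem ha.1, fun k hk => by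
        rw [map_inv]; exact (Commute.inv_left (ha.2 k hk)).eq⟩ }
  have hAK : A ≤ K := fun a ha => ha.1
  have : A.Normal := ⟨fun a ha g => ⟨hK.conj_mem a ha.1 g, fun k hk => by
    have h := ha.2 (g⁻¹ * k * g⁻¹⁻¹) (hK.conj_mem k hk g⁻¹)
    calc φ (g * a * g⁻¹) * φ k = φ g * (φ a * φ (g⁻¹ * k * g⁻¹⁻¹)) * φ g⁻¹ := by
          simp only [← map_mul]; congr 1; group
      _ = φ g * (φ (g⁻¹ * k * g⁻¹⁻¹) * φ a) * φ g⁻¹ := by rw [h]
      _ = φ k * φ (g * a * g⁻¹) := by simp only [← map_mul]; congr 1; group⟩⟩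
  have hcopA : (Nat.card A).Coprime (Nat.card V) :=
    hcop.coprime_dvd_left (Subgroup.card_dvd_of_le hAK)
  by_cases htriv : ∀ a ∈ A, φ a = 1
  · -- the image of the kernel has trivial centre
    suffices h : ∀ k ∈ K, φ k = 1 by
      intro k₁ h₁ k₂ h₂; rw [h k₁ h₁, h k₂ h₂]
    intro k hk
    have : Group.IsNilpotent (K.map φ) :=
      Group.nilpotent_of_surjective _ (MonoidHom.subgroupMap_surjective φ K)
    by_contra hne
    have : Nontrivial (K.map φ) := ⟨⟨φ k, k, hk, rfl⟩, 1, fun e => hne (congrArg Subtype.val e)⟩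
    apply Group.IsNilpotent.center_ne_bot (G := K.map φ)
    rw [eq_bot_iff]
    rintro ⟨_, a, ha, rfl⟩ hz
    refine Subgroup.mem_bot.2 (Subtype.ext (htriv a ⟨ha, fun x hx => ?_⟩))
    exact (congrArg Subtype.val (Subgroup.mem_center_iff.1 hz ⟨φ x, x, hx, rfl⟩)).symm
  push Not at htriv
  obtain ⟨a₀, ha₀, hne₀⟩ := htriv
  set T := normMap φ A with hT
  have hW : ∀ g, ∀ w ∈ T.ker, φ g w ∈ T.ker := fun g w hw => by
    rw [MonoidHom.mem_ker] at hw ⊢
    rw [hT, ← map_normMap, ← hT, hw, map_one]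
  have hker : T.ker ≠ ⊥ := fun h => hne₀ (MulEquiv.ext fun w =>
    (MonoidHom.ker_eq_bot_iff _).1 h (normMap_apply_mem φ A ha₀ w).2)
  have := (Subgroup.nontrivial_iff_ne_bot _).2 hker
  obtain ⟨v, hv1, hv⟩ := Frobenius.exists_fixed_of_kernel A (actRestrict φ T.ker hW)
    (hcopA.coprime_dvd_right (Subgroup.card_subgroup_dvd_card _))
    (fun w hw => Subtype.ext (eq_one_of_coprime_pow_eq hcopA (by
      rw [← normMap_fixed φ A fun a ha => congrArg Subtype.val (hw a ha)]; exact w.2)))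
    hq hyq (fun i h1 h2 k hk => hfree i h1 h2 k (hAK hk))
  have hv' : φ y (v : V) = v := congrArg Subtype.val hv
  have hv1' : (v : V) ≠ 1 := fun e => hv1 (Subtype.ext e)
  -- the kernel fixes the fixed points of `A`
  let C : Subgroup V :=
    { carrier := {w | ∀ a ∈ A, φ a w = w}
      one_mem' := fun a _ => map_one _
      mul_mem' := fun {x z} hx hz a ha => by rw [map_mul, hx a ha, hz a ha]
      inv_mem' := fun {x} hx a ha => by rw [map_inv, hx a ha] }
  have hC : ∀ g, ∀ w ∈ C, φ g w ∈ C := fun g w hw a ha => by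
    have h := hw (g⁻¹ * a * g⁻¹⁻¹) ((inferInstance : A.Normal).conj_mem a ha g⁻¹)
    rw [← MulAut.mul_apply, ← map_mul]
    conv_rhs => rw [← h, ← MulAut.mul_apply, ← map_mul]
    congr 2; group
  have hKC : ∀ k ∈ K, ∀ w ∈ C, φ k w = w := by
    intro k hk w hw
    refine congrArg Subtype.val (act_trivial_of_no_fixed (actRestrict φ C hC) K
      (hcop.coprime_dvd_right (Subgroup.card_subgroup_dvd_card _)) hq hyq hfree
      (fun c hc => ?_) k hk ⟨w, hw⟩)
    obtain ⟨n, hn⟩ := Subgroup.mem_zpowers_iff.1 (hfix v c hv' hv1' (congrArg Subtype.val hc))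
    have h1 : T (c : V) = 1 := by
      rw [← hn, map_zpow, MonoidHom.mem_ker.1 v.2, one_zpow]
    rw [hT, normMap_fixed φ A fun a ha => c.2 a ha] at h1
    exact Subtype.ext (eq_one_of_coprime_pow_eq hcopA h1)
  -- the orbit algebra of `v`
  let Φ : Set (V →* V) := {f | ∀ a ∈ A, ∀ w, f (φ a w) = φ a (f w)}
  let Ψ : Set (V →* V) := {h | h ∈ Φ ∧ ∀ f ∈ Φ, ∀ w, h (f w) = f (h w)}
  let U : Subgroup V :=
    { carrier := {w | ∃ h ∈ Ψ, h (v : V) = w}
      one_mem' := ⟨1, ⟨fun a _ w => by simp, fun f _ w => by simp⟩, rfl⟩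
      mul_mem' := by
        rintro _ _ ⟨f, hf, rfl⟩ ⟨g, hg, rfl⟩
        exact ⟨f * g, ⟨fun a ha w => by simp [hf.1 a ha, hg.1 a ha],
          fun e he w => by simp [hf.2 e he, hg.2 e he]⟩, rfl⟩
      inv_mem' := by
        rintro _ ⟨f, hf, rfl⟩
        exact ⟨f⁻¹, ⟨fun a ha w => by simp [hf.1 a ha], fun e he w => by simp [hf.2 e he]⟩, rfl⟩ }
  have hAΨ : ∀ a ∈ A, (φ a).toMonoidHom ∈ Ψ := fun a ha =>
    ⟨fun b hb w => by
      show φ a (φ b w) = φ b (φ a w)
      rw [← MulAut.mul_apply, ha.2 b (hAK hb), MulAut.mul_apply],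
    fun f hf w => (hf a ha w).symm⟩
  have hΨcomp : ∀ f ∈ Ψ, ∀ g ∈ Ψ, f.comp g ∈ Ψ := fun f hf g hg =>
    ⟨fun a ha w => by simp [hf.1 a ha, hg.1 a ha],
      fun e he w => by simp [hf.2 e he, hg.2 e he]⟩
  have hvU : (v : V) ∈ U := ⟨MonoidHom.id V, ⟨fun a _ w => rfl, fun f _ w => rfl⟩, rfl⟩
  have hUA : ∀ a ∈ A, ∀ w ∈ U, φ a w ∈ U := by
    rintro a ha _ ⟨f, hf, rfl⟩; exact ⟨_, hΨcomp _ (hAΨ a ha) f hf, rfl⟩
  have hΦy : ∀ f ∈ Φ, ((φ y).toMonoidHom.comp f).comp (φ y⁻¹).toMonoidHom ∈ Φ := by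
    intro f hf a ha w
    show φ y (f (φ y⁻¹ (φ a w))) = φ a (φ y (f (φ y⁻¹ w)))
    have h := hf _ ((inferInstance : A.Normal).conj_mem a ha y⁻¹) (φ y⁻¹ w)
    calc φ y (f (φ y⁻¹ (φ a w))) = φ y (f (φ (y⁻¹ * a * y⁻¹⁻¹) (φ y⁻¹ w))) := by
          rw [← MulAut.mul_apply, ← map_mul, ← MulAut.mul_apply, ← map_mul]
          congr 4; group
      _ = φ y (φ (y⁻¹ * a * y⁻¹⁻¹) (f (φ y⁻¹ w))) := by rw [h]
      _ = φ a (φ y (f (φ y⁻¹ w))) := by
          rw [← MulAut.mul_apply, ← map_mul, ← MulAut.mul_apply, ← map_mul]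
          congr 2; group
  have hΦy' : ∀ f ∈ Φ, ((φ y⁻¹).toMonoidHom.comp f).comp (φ y).toMonoidHom ∈ Φ := by
    intro f hf a ha w
    show φ y⁻¹ (f (φ y (φ a w))) = φ a (φ y⁻¹ (f (φ y w)))
    have h := hf _ ((inferInstance : A.Normal).conj_mem a ha y) (φ y w)
    calc φ y⁻¹ (f (φ y (φ a w))) = φ y⁻¹ (f (φ (y * a * y⁻¹) (φ y w))) := by
          rw [← MulAut.mul_apply, ← map_mul, ← MulAut.mul_apply, ← map_mul]
          congr 4; group
      _ = φ y⁻¹ (φ (y * a * y⁻¹) (f (φ y w))) := by rw [h]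
      _ = φ a (φ y⁻¹ (f (φ y w))) := by
          rw [← MulAut.mul_apply, ← map_mul, ← MulAut.mul_apply, ← map_mul]
          congr 2; group
  have hUy : ∀ w ∈ U, φ y w ∈ U := by
    rintro _ ⟨h, hh, rfl⟩
    refine ⟨((φ y).toMonoidHom.comp h).comp (φ y⁻¹).toMonoidHom, ⟨hΦy h hh.1, fun f hf w => ?_⟩, ?_⟩
    · show φ y (h (φ y⁻¹ (f w))) = f (φ y (h (φ y⁻¹ w)))
      have hh' := hh.2 _ (hΦy' f hf) (φ y⁻¹ w)
      have e : ∀ x, φ y (φ y⁻¹ x) = x := fun x => by
        rw [← MulAut.mul_apply, ← map_mul, mul_inv_cancel, map_one]; rfl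
      simp only [MonoidHom.comp_apply, MulEquiv.coe_toMonoidHom, e] at hh'
      rw [hh', e]
    · show φ y (h (φ y⁻¹ v)) = φ y (h v)
      congr 2
      conv_lhs => rw [← hv', ← MulAut.mul_apply, ← map_mul, inv_mul_cancel, map_one]
      rfl
  -- `A` is trivial modulo `U`
  have hAU : ∀ a ∈ A, ∀ w, φ a w * w⁻¹ ∈ U := by
    let Q' := A ⊔ Subgroup.zpowers y
    let N : Subgroup Q' := A.subgroupOf Q'
    have hUQ : ∀ g : Q', ∀ w ∈ U, φ (g : Q) w ∈ U := by
      have hyn : ∀ n : ℕ, ∀ w ∈ U, φ (y ^ n) w ∈ U := by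
        intro n
        induction n with
        | zero => intro w hw; rwa [pow_zero, map_one, MulAut.one_apply]
        | succ m ih => intro w hw; rw [pow_succ', map_mul, MulAut.mul_apply]; exact hUy _ (ih w hw)
      intro g w hw
      obtain ⟨a, ha, z, hz, he⟩ := Subgroup.mem_sup_of_normal_left.1 g.2
      obtain ⟨n, rfl⟩ := (mem_zpowers_iff_mem_range_orderOf (x := y)).1 hz |> Finset.mem_image.1
        |>.imp fun n hn => hn.2
      rw [← he, map_mul, MulAut.mul_apply]
      exact hUA a ha _ (hyn n w hw)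
    have hN : N.Normal := inferInstance
    have key := act_trivial_of_no_fixed
      (actQuotient (φ.comp Q'.subtype) U hUQ) N
      ((hcopA.coprime_dvd_left (Nat.card_congr
        (Subgroup.subgroupOfEquivOfLe (le_sup_left : A ≤ Q')).toEquiv).dvd).coprime_dvd_right
        (Subgroup.card_quotient_dvd_card _))
      (y := ⟨y, Subgroup.mem_sup_right (Subgroup.mem_zpowers y)⟩) hq
      (Subtype.ext hyq)
      (fun i h1 h2 k hk hc => Subtype.ext
        (hfree i h1 h2 k (hAK hk) (congrArg Subtype.val hc)))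
      (fun x hx => by
        induction x using QuotientGroup.induction_on with
        | H w =>
          have hw : (φ y w)⁻¹ * w ∈ U := QuotientGroup.eq.1 hx
          have hw' : φ y w * w⁻¹ ∈ U := by
            have := inv_mem hw
            rwa [mul_inv_rev, inv_inv, mul_comm] at this
          have hy : ∀ i, φ (y ^ i) w * w⁻¹ ∈ U := by
            intro i
            induction i with
            | zero => rw [pow_zero, map_one, MulAut.one_apply, mul_inv_cancel]; exact one_mem _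
            | succ m ih =>
              have h1 := mul_mem (hUy _ ih) hw'
              rw [map_mul, map_inv, ← MulAut.mul_apply, ← map_mul, ← pow_succ', mul_assoc,
                inv_mul_cancel_left] at h1
              exact h1
          set z := ∏ i ∈ Finset.range q, φ (y ^ i) w with hz
          have hzy : φ y z = z := by
            rw [hz, map_prod]
            have h1 := Finset.prod_range_succ' (fun i => φ (y ^ i) w) q
            rw [Finset.prod_range_succ, hyq, pow_zero] at h1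
            rw [mul_right_cancel h1]
            exact Finset.prod_congr rfl fun i _ => by rw [pow_succ', map_mul]; rfl
          have hzU : z ∈ U := by
            obtain ⟨n, hn⟩ := Subgroup.mem_zpowers_iff.1 (hfix v z hv' hv1' hzy)
            exact hn ▸ zpow_mem hvU n
          have hwq : w ^ q ∈ U := by
            have h1 : ∏ i ∈ Finset.range q, φ (y ^ i) w * w⁻¹ ∈ U :=
              prod_mem fun i _ => hy i
            rw [Finset.prod_mul_distrib, Finset.prod_const, Finset.card_range, ← hz,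
              inv_pow] at h1
            have := inv_mem (mul_mem (inv_mem hzU) h1)
            rwa [inv_mul_cancel_left, inv_inv] at this
          rw [QuotientGroup.eq_one_iff]
          have hcard : (Nat.card (V ⧸ U)) ∣ Nat.card V := Subgroup.card_quotient_dvd_card _
          exact (QuotientGroup.eq_one_iff _).1 (eq_one_of_coprime_pow_eq
            (hqV.coprime_dvd_right hcard)
            (by rw [← QuotientGroup.mk_pow]; exact (QuotientGroup.eq_one_iff _).2 hwq)))
    intro a ha w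
    have h : (QuotientGroup.mk (φ a w) : V ⧸ U) = QuotientGroup.mk w :=
      key ⟨a, Subgroup.mem_sup_left ha⟩ ha (QuotientGroup.mk w)
    have := inv_mem (QuotientGroup.eq.1 h)
    rwa [mul_inv_rev, inv_inv, mul_comm] at this
  have hFA := Fintype.ofFinite A
  have hpow : ∀ w, w ^ Nat.card A * (T w)⁻¹ ∈ U := fun w => by
    have h1 : ∏ n : A, φ (n : Q) w * w⁻¹ ∈ U := prod_mem fun n _ => hAU n n.2 w
    rw [Finset.prod_mul_distrib, Finset.prod_const, Finset.card_univ, ← Nat.card_eq_fintype_card,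
      inv_pow] at h1
    have := inv_mem h1
    rwa [mul_inv_rev, inv_inv, ← normMap_apply, ← hT] at this
  intro k₁ h₁ k₂ h₂
  refine MulEquiv.ext fun w => ?_
  rw [MulAut.mul_apply, MulAut.mul_apply]
  -- on `U` the kernel acts through `Ψ`
  have hkΦ : ∀ k ∈ K, (φ k).toMonoidHom ∈ Φ := fun k hk a ha x => by
    show φ k (φ a x) = φ a (φ k x)
    rw [← MulAut.mul_apply, ← ha.2 k hk, MulAut.mul_apply]
  have hkU : ∀ k ∈ K, ∃ h ∈ Ψ, ∀ x ∈ U, φ k x = h x := by
    intro k hk
    have hkv : φ k v ∈ U := by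
      have h1 := hpow (φ k v)
      rw [MonoidHom.mem_ker.1 (hW k v v.2), inv_one, mul_one] at h1
      rw [← QuotientGroup.eq_one_iff]
      exact eq_one_of_coprime_pow_eq
        (hcopA.coprime_dvd_right (Subgroup.card_quotient_dvd_card U))
        (by rw [← QuotientGroup.mk_pow]; exact (QuotientGroup.eq_one_iff _).2 h1)
    obtain ⟨h, hh, he⟩ := hkv
    refine ⟨h, hh, ?_⟩
    rintro _ ⟨g, hg, rfl⟩
    have e1 : φ k (g v) = g (φ k v) := (hg.2 _ (hkΦ k hk) v).symm
    rw [e1, ← he, hh.2 g hg.1]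
  obtain ⟨g₁, hg₁, e₁⟩ := hkU k₁ h₁
  obtain ⟨g₂, hg₂, e₂⟩ := hkU k₂ h₂
  have hU2 : ∀ x ∈ U, φ k₁ (φ k₂ x) = φ k₂ (φ k₁ x) := by
    rintro x ⟨g, hg, rfl⟩
    have m1 : g₁ (g v) ∈ U := ⟨_, hΨcomp _ hg₁ g hg, rfl⟩
    have m2 : g₂ (g v) ∈ U := ⟨_, hΨcomp _ hg₂ g hg, rfl⟩
    rw [e₂ _ ⟨g, hg, rfl⟩, e₁ _ ⟨g, hg, rfl⟩, e₁ _ m2, e₂ _ m1, hg₁.2 _ hg₂.1]
  have hC2 : φ k₁ (φ k₂ (T w)) = φ k₂ (φ k₁ (T w)) := by
    have hTC : T w ∈ C := fun a ha => (normMap_apply_mem φ A ha w).1
    rw [hKC k₂ h₂ _ hTC, hKC k₁ h₁ _ hTC, hKC k₂ h₂ _ hTC]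
  apply (Nat.Coprime.pow_left_bijective hcopA.symm).injective
  show (φ k₁ (φ k₂ w)) ^ Nat.card A = (φ k₂ (φ k₁ w)) ^ Nat.card A
  rw [← map_pow, ← map_pow, ← map_pow, ← map_pow]
  have hu := hpow w
  rw [show w ^ Nat.card A = w ^ Nat.card A * (T w)⁻¹ * T w by rw [inv_mul_cancel_right]]
  generalize w ^ Nat.card A * (T w)⁻¹ = u at hu ⊢
  simp only [map_mul]
  rw [hU2 _ hu, hC2]

end Cfsg.Agent.Components
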