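import Mathlib
import Cfsg.Agent.Coprime.Action
import Cfsg.Agent.Coprime.Generation

/-!
The Gorenstein-Walter lemma: in a solvable group generated by a balanced family of signalizers,
the fixed points are the expected ones.
-/

set_option autoImplicit false
set_option linter.unusedSectionVars false

namespace Cfsg.Agent.Components

open Subgroup Coprime
open scoped commutatorElement

universe u

variable {G : Type u} [Group G] [Finite G]

/-- Commutators of generators decide commutators of the generated subgroups. -/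
theorem commutator_closure_le {N : Subgroup G} {S T : Set G}
    (hS : S ⊆ normalizer (N : Set G)) (hT : T ⊆ normalizer (N : Set G))
    (h : ∀ s ∈ S, ∀ t ∈ T, ⁅s, t⁆ ∈ N) : ⁅closure S, closure T⁆ ≤ N := by
  have hS' : ∀ x ∈ closure S, x ∈ normalizer (N : Set G) := fun x hx => (closure_le _).2 hS hx
  have hT' : ∀ x ∈ closure T, x ∈ normalizer (N : Set G) := fun x hx => (closure_le _).2 hT hx
  have h1 : ∀ t ∈ T, ∀ s ∈ closure S, ⁅s, t⁆ ∈ N := by
    intro t ht s hs
    induction hs using closure_induction with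
    | mem x hx => exact h x hx t ht
    | one => rw [commutatorElement_one_left]; exact one_mem _
    | mul a b ha hb iha ihb =>
      rw [show ⁅a * b, t⁆ = a * ⁅b, t⁆ * a⁻¹ * ⁅a, t⁆ by simp [commutatorElement_def]; group]
      exact mul_mem (conj_mem (hS' a ha) ihb) iha
    | inv a ha iha =>
      rw [show ⁅a⁻¹, t⁆ = a⁻¹ * ⁅a, t⁆⁻¹ * a⁻¹⁻¹ by simp [commutatorElement_def]; group]
      exact conj_mem (inv_mem (hS' a ha)) (inv_mem iha)
  rw [commutator_le]
  intro s hs t ht
  induction ht using closure_induction with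
  | mem x hx => exact h1 x hx s hs
  | one => rw [commutatorElement_one_right]; exact one_mem _
  | mul a b ha hb iha ihb =>
    rw [show ⁅s, a * b⁆ = ⁅s, a⁆ * (a * ⁅s, b⁆ * a⁻¹) by simp [commutatorElement_def]; group]
    exact mul_mem iha (conj_mem (hT' a ha) ihb)
  | inv a ha iha =>
    rw [show ⁅s, a⁻¹⁆ = a⁻¹ * ⁅s, a⁆⁻¹ * a⁻¹⁻¹ by simp [commutatorElement_def]; group]
    exact conj_mem (inv_mem (hT' a ha)) (inv_mem iha)

/-- A balanced family of normal subgroups of the fixed point groups in `R`. -/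
structure GWFamily (A R : Subgroup G) (q : ℕ) (F : Subgroup G → Subgroup G) : Prop where
  comm : IsMulCommutative A
  norm : A ≤ normalizer (R : Set G)
  coprime : (Nat.card A).Coprime (Nat.card R)
  solvable : Group.IsSolvable R
  le : ∀ E ≤ A, Nat.card E = q → F E ≤ R ⊓ centralizer (E : Set G)
  norm_F : ∀ E ≤ A, Nat.card E = q →
    A ≤ normalizer (F E : Set G) ∧ R ⊓ centralizer (E : Set G) ≤ normalizer (F E : Set G)
  balanced : ∀ E ≤ A, Nat.card E = q → ∀ E' ≤ A, Nat.card E' = q →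
    F E ⊓ centralizer (E' : Set G) ≤ F E'
  gen : R ≤ ⨆ (E : Subgroup G) (_ : E ≤ A) (_ : Nat.card E = q), F E
  inter : ∀ B ≤ A, (∃ a ∈ A, B ⊔ zpowers a = A) → ∀ B' ≤ A, (∃ a ∈ A, B' ⊔ zpowers a = A) →
    ∃ E : Subgroup G, E ≤ B ⊓ B' ∧ Nat.card E = q

namespace GWFamily

variable {A R : Subgroup G} {q : ℕ} {F : Subgroup G → Subgroup G} (hF : GWFamily A R q F)

include hF

theorem piece_norm {V E : Subgroup G} (hVA : A ≤ normalizer (V : Set G)) (hEA : E ≤ A)
    (hE : Nat.card E = q) : A ≤ normalizer ((V ⊓ F E : Subgroup G) : Set G) :=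
  le_normalizer_iff.2 fun a ha x hx =>
    ⟨conj_mem (hVA ha) hx.1, conj_mem ((hF.norm_F E hEA hE).1 ha) hx.2⟩

theorem piece_le {E : Subgroup G} (hEA : E ≤ A) (hE : Nat.card E = q) : F E ≤ R :=
  (hF.le E hEA hE).trans inf_le_left

/-- A subgroup of `R` invariant under `A` lies in `M` as soon as its hyperplane fixed points do. -/
theorem le_of_hyperplanes {K M : Subgroup G} (hKR : K ≤ R) (hK : A ≤ normalizer (K : Set G))
    (h : ∀ B ≤ A, (∃ a ∈ A, B ⊔ zpowers a = A) → K ⊓ centralizer (B : Set G) ≤ M) : K ≤ M :=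
  have := hF.comm
  le_of_centralizer_cyclic_quotient_le hK (coprime_of_le hKR hF.coprime) h

/-- Two pieces fixed by hyperplanes lie in a common member of the family. -/
theorem common {E E' B B' : Subgroup G} (hEA : E ≤ A) (hE : Nat.card E = q) (hEA' : E' ≤ A)
    (hE' : Nat.card E' = q) (hBA : B ≤ A) (hB : ∃ a ∈ A, B ⊔ zpowers a = A) (hBA' : B' ≤ A)
    (hB' : ∃ a ∈ A, B' ⊔ zpowers a = A) :
    ∃ E'' ≤ A, Nat.card E'' = q ∧ (∀ x ∈ F E, x ∈ centralizer (B : Set G) → x ∈ F E'') ∧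
      (∀ x ∈ F E', x ∈ centralizer (B' : Set G) → x ∈ F E'') ∧
      (∀ x ∈ R, x ∈ centralizer (B : Set G) → x ∈ R ⊓ centralizer (E'' : Set G)) := by
  obtain ⟨E'', h1, h2⟩ := hF.inter B hBA hB B' hBA' hB'
  have hA'' : E'' ≤ A := h1.trans (inf_le_left.trans hBA)
  exact ⟨E'', hA'', h2,
    fun x hx hc => hF.balanced E hEA hE E'' hA'' h2
      ⟨hx, centralizer_le (h1.trans inf_le_left) hc⟩,
    fun x hx hc => hF.balanced E' hEA' hE' E'' hA'' h2
      ⟨hx, centralizer_le (h1.trans inf_le_right) hc⟩,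
    fun x hx hc => ⟨hx, centralizer_le (h1.trans inf_le_left) hc⟩⟩

/-- The elements of the family fixed by hyperplanes generate `R`. -/
theorem closure_gen : R ≤ closure {x : G | ∃ E B : Subgroup G, E ≤ A ∧ Nat.card E = q ∧ B ≤ A ∧
    (∃ a ∈ A, B ⊔ zpowers a = A) ∧ x ∈ F E ∧ x ∈ centralizer (B : Set G)} := by
  refine hF.gen.trans (iSup_le fun E => iSup_le fun hEA => iSup_le fun hE => ?_)
  exact hF.le_of_hyperplanes (hF.piece_le hEA hE) (hF.norm_F E hEA hE).1
    fun B hBA hB x hx => subset_closure ⟨E, B, hEA, hE, hBA, hB, hx.1, hx.2⟩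

/-- The subgroup generated by `N` and the pieces inside `V`. -/
theorem pieces_normal {N V : Subgroup G} (hVR : V ≤ R) (hVA : A ≤ normalizer (V : Set G))
    (hVn : R ≤ normalizer (V : Set G)) (hNn : R ≤ normalizer (N : Set G)) :
    R ≤ normalizer ((N ⊔ ⨆ (E : Subgroup G) (_ : E ≤ A) (_ : Nat.card E = q), V ⊓ F E :
      Subgroup G) : Set G) := by
  refine hF.closure_gen.trans ((closure_le _).2 ?_)
  rintro x ⟨E, B, hEA, hE, hBA, hB, hx, hxB⟩
  set M := N ⊔ ⨆ (E : Subgroup G) (_ : E ≤ A) (_ : Nat.card E = q), V ⊓ F E with hM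
  have key : ∀ y ∈ F E, y ∈ centralizer (B : Set G) → ∀ m ∈ M, y * m * y⁻¹ ∈ M := by
    intro y hy hyB
    suffices M ≤ M.comap (MulAut.conj y).toMonoidHom from fun m hm => this hm
    have hyR : y ∈ R := hF.piece_le hEA hE hy
    refine sup_le (fun n hn => mem_sup_left (conj_mem (hNn hyR) hn))
      (iSup_le fun E' => iSup_le fun hEA' => iSup_le fun hE' => ?_)
    refine hF.le_of_hyperplanes (inf_le_left.trans hVR) (hF.piece_norm hVA hEA' hE') ?_
    intro B' hBA' hB' m hm
    obtain ⟨E'', hA'', hc'', hl, hr, -⟩ := hF.common hEA hE hEA' hE' hBA hB hBA' hB'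
    have hm' := hr m hm.1.2 hm.2
    have hy' := hl y hy hyB
    exact mem_sup_right (mem_iSup_of_mem E'' (mem_iSup_of_mem hA'' (mem_iSup_of_mem hc''
      ⟨conj_mem (hVn hyR) hm.1.1, (F E'').mul_mem ((F E'').mul_mem hy' hm') ((F E'').inv_mem hy')⟩)))
  rw [SetLike.mem_coe, mem_normalizer_iff]
  refine fun m => ⟨key x hx hxB m, fun h => ?_⟩
  simpa [mul_assoc] using key x⁻¹ ((F E).inv_mem hx) (inv_mem hxB) _ h

theorem pieces_inv {N V : Subgroup G} (hVA : A ≤ normalizer (V : Set G))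
    (hNA : A ≤ normalizer (N : Set G)) :
    A ≤ normalizer ((N ⊔ ⨆ (E : Subgroup G) (_ : E ≤ A) (_ : Nat.card E = q), V ⊓ F E :
      Subgroup G) : Set G) := by
  intro a ha
  refine mem_normalizer_of_map_conj ?_
  rw [Subgroup.map_sup, map_conj_eq (hNA ha)]
  simp only [Subgroup.map_iSup]
  congr 1
  exact iSup_congr fun E => iSup_congr fun hEA => iSup_congr fun hE =>
    map_conj_eq (hF.piece_norm hVA hEA hE ha)

/-- Fixed points of a section which is abelian and generated by the family. -/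
theorem abelian_fixed {N W : Subgroup G} (hNW : N ≤ W) (hWR : W ≤ R)
    (hWA : A ≤ normalizer (W : Set G)) (hNA : A ≤ normalizer (N : Set G))
    (hWN : W ≤ normalizer (N : Set G)) (hab : ⁅W, W⁆ ≤ N)
    (hgen : W ≤ N ⊔ ⨆ (E : Subgroup G) (_ : E ≤ A) (_ : Nat.card E = q), W ⊓ F E)
    {E : Subgroup G} (hEA : E ≤ A) (hE : Nat.card E = q) :
    W ⊓ centralizer (E : Set G) ≤ N ⊔ W ⊓ F E := by
  classical
  have := Fintype.ofFinite E
  have hN' : (N.subgroupOf W).Normal := normal_subgroupOf_of_le_normalizer hWN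
  set mk := QuotientGroup.mk' (N.subgroupOf W) with hmk
  let _ : CommGroup (W ⧸ N.subgroupOf W) :=
    { (inferInstance : Group (W ⧸ N.subgroupOf W)) with
      mul_comm := fun x y => by
        obtain ⟨x, rfl⟩ := QuotientGroup.mk'_surjective _ x
        obtain ⟨y, rfl⟩ := QuotientGroup.mk'_surjective _ y
        rw [← commutatorElement_eq_one_iff_mul_comm, ← map_commutatorElement, QuotientGroup.mk'_apply,
          QuotientGroup.eq_one_iff, mem_subgroupOf]
        exact hab (commutator_mem_commutator x.2 y.2) }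
  let f : E → W →* W ⧸ N.subgroupOf W := fun e =>
    { toFun := fun w => mk ⟨(e : G) * w * (e : G)⁻¹, conj_mem (hWA (hEA e.2)) w.2⟩
      map_one' := by rw [← map_one mk]; congr 1; exact Subtype.ext (by simp)
      map_mul' := fun a b => by rw [← map_mul]; congr 1; exact Subtype.ext (by simp) }
  set π : W →* W ⧸ N.subgroupOf W := ∏ e : E, f e with hπ
  have hker : ∀ e : E, N.subgroupOf W ≤ (f e).ker := fun e w hw => by
    rw [MonoidHom.mem_ker]
    exact (QuotientGroup.eq_one_iff _).2 (conj_mem (hNA (hEA e.2)) hw)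
  have hπ' : ∀ w, π w = ∏ e : E, f e w := fun w => by rw [hπ, MonoidHom.finsetProd_apply]
  set I := ((N ⊔ W ⊓ F E).subgroupOf W).map mk with hI
  have hpiece : ∀ E' ≤ A, Nat.card E' = q → ∀ w : W, (w : G) ∈ F E' → π w ∈ I := by
    intro E' hEA' hE' w hw
    have hJ : π w ∈ ((W ⊓ F E').subgroupOf W).map mk := by
      rw [hπ']
      refine prod_mem fun e _ => mem_map_of_mem mk ?_
      exact conj_mem ((hF.piece_norm hWA hEA' hE') (hEA e.2)) ⟨w.2, hw⟩
    obtain ⟨y, hy, hyw⟩ := hJ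
    have hfix : ∀ e0 ∈ E, (y : G)⁻¹ * (e0 * y * e0⁻¹) ∈ N ⊓ (W ⊓ F E') := by
      intro e0 he0
      refine ⟨?_, (W ⊓ F E').mul_mem ((W ⊓ F E').inv_mem hy) (conj_mem ((hF.piece_norm hWA hEA' hE') (hEA he0)) hy)⟩
      have h1 : QuotientGroup.lift _ (f ⟨e0, he0⟩) (hker _) (mk y) = mk y := by
        rw [hyw, hπ', map_prod]
        refine Fintype.prod_equiv (Equiv.mulLeft (⟨e0, he0⟩ : E)) _ _ fun e => ?_
        refine congrArg mk (Subtype.ext ?_)
        simp [mul_assoc]
      exact (QuotientGroup.eq (s := N.subgroupOf W) (a := y)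
        (b := ⟨e0 * y * e0⁻¹, conj_mem (hWA (hEA he0)) y.2⟩)).1 h1.symm
    obtain ⟨c, hc, hyc⟩ := exists_centralizer_mem_coset
      (hEA.trans (hF.piece_norm hWA hEA' hE'))
      ((hF.coprime.coprime_dvd_left (card_dvd_of_le hEA)).coprime_dvd_right
        (card_dvd_of_le (inf_le_left.trans hWR)))
      (Or.inr (isSolvable_of_le (inf_le_left.trans hWR) hF.solvable))
      (inf_le_right : N ⊓ (W ⊓ F E') ≤ W ⊓ F E')
      (le_normalizer_iff.2 fun e he x hx => ⟨conj_mem (hNA (hEA he)) hx.1,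
        conj_mem (hF.piece_norm hWA hEA' hE' (hEA he)) hx.2⟩) hy hfix
    refine ⟨⟨c, hc.1.1⟩, mem_sup_right (show c ∈ W ⊓ F E from
      ⟨hc.1.1, hF.balanced E' hEA' hE' E hEA hE ⟨hc.1.2, hc.2⟩⟩), ?_⟩
    rw [← hyw]
    exact ((QuotientGroup.eq (s := N.subgroupOf W) (a := y) (b := ⟨c, hc.1.1⟩)).2 hyc.1).symm
  have hall : ∀ w : W, π w ∈ I := by
    have hle : W ≤ (I.comap π).map W.subtype := by
      refine hgen.trans (sup_le (fun n hn => ⟨⟨n, hNW hn⟩, ?_, rfl⟩)
        (iSup_le fun E' => iSup_le fun hA' => iSup_le fun h' m hm =>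
          ⟨⟨m, hm.1⟩, hpiece E' hA' h' _ hm.2, rfl⟩))
      show π _ ∈ I
      rw [hπ', Finset.prod_eq_one fun e _ => MonoidHom.mem_ker.1 (hker e hn)]
      exact one_mem _
    intro w
    obtain ⟨w', hw', he⟩ := hle w.2
    exact W.subtype_injective he ▸ hw'
  intro x hx
  obtain ⟨z, hz, hzw⟩ := hall ⟨x, hx.1⟩
  have hpow : π ⟨x, hx.1⟩ = mk (⟨x, hx.1⟩ ^ Nat.card E) := by
    rw [hπ', Finset.prod_congr rfl fun e _ => show f e ⟨x, hx.1⟩ = mk ⟨x, hx.1⟩ from
      congrArg mk (Subtype.ext (conj_eq_of_mem_centralizer hx.2 e.2)), Finset.prod_const,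
      Finset.card_univ, map_pow, Nat.card_eq_fintype_card]
  rw [hpow] at hzw
  have hxq : x ^ Nat.card E ∈ N ⊔ W ⊓ F E := by
    have h2 : ((z : G)⁻¹ * x ^ Nat.card E) ∈ N := (QuotientGroup.eq (s := N.subgroupOf W)
      (a := z) (b := (⟨x, hx.1⟩ : W) ^ Nat.card E)).1 hzw
    have h3 : (z : G) * ((z : G)⁻¹ * x ^ Nat.card E) ∈ N ⊔ W ⊓ F E :=
      mul_mem hz (mem_sup_left h2)
    rwa [mul_inv_cancel_left] at h3
  obtain ⟨m, hm⟩ := exists_pow_eq_self_of_coprime
    ((hF.coprime.coprime_dvd_left (card_dvd_of_le hEA)).coprime_dvd_right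
      (orderOf_dvd_natCard R (hWR hx.1)))
  exact hm ▸ pow_mem hxq m

/-- The Gorenstein-Walter lemma, modulo a normal subgroup. -/
theorem fixed_le_sup {N : Subgroup G} (hNR : N ≤ R) (hNA : A ≤ normalizer (N : Set G))
    (hNn : R ≤ normalizer (N : Set G)) {E : Subgroup G} (hEA : E ≤ A) (hE : Nat.card E = q) :
    R ⊓ centralizer (E : Set G) ≤ N ⊔ F E := by
  induction N using WellFoundedGT.induction generalizing E with
  | ind N ih =>
  by_cases hRN : R ≤ N
  · exact inf_le_left.trans (hRN.trans le_sup_left)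
  -- it suffices to find a larger abelian section generated by the family
  have step : ∀ W, N < W → W ≤ R → A ≤ normalizer (W : Set G) → R ≤ normalizer (W : Set G) →
      ⁅W, W⁆ ≤ N → (W ≤ N ⊔ ⨆ (E : Subgroup G) (_ : E ≤ A) (_ : Nat.card E = q), W ⊓ F E) →
      R ⊓ centralizer (E : Set G) ≤ N ⊔ F E := by
    intro W hlt hWR hWA hWn hab hgen x hx
    obtain ⟨l, hl, f, hf, rfl⟩ := (mem_sup_iff ((hF.piece_le hEA hE).trans hWn)).1
      (ih W hlt hWR hWA hWn hEA hE hx)
    have hlc : l ∈ centralizer (E : Set G) := by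
      simpa using Subgroup.mul_mem _ hx.2 (Subgroup.inv_mem _ ((hF.le E hEA hE hf).2))
    exact mul_mem (sup_le_sup_left inf_le_right N
      (hF.abelian_fixed hlt.le hWR hWA hNA (hWR.trans hNn) hab hgen hEA hE ⟨hl, hlc⟩))
      (mem_sup_right hf)
  -- abelian normal sections
  have sect : ∀ L, L ≤ R → ¬ R ≤ L → A ≤ normalizer (L : Set G) → R ≤ normalizer (L : Set G) →
      ∃ V, L < V ∧ V ≤ R ∧ A ≤ normalizer (V : Set G) ∧ R ≤ normalizer (V : Set G) ∧ ⁅V, V⁆ ≤ L := by
    intro L hLR hRL hLA hLn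
    let S := {D : Subgroup G | D ≤ R ∧ A ≤ normalizer (D : Set G) ∧
      R ≤ normalizer (D : Set G) ∧ ¬ D ≤ L}
    obtain ⟨D, ⟨hDR, hDA, hDn, hDL⟩, hmin⟩ :=
      (Set.toFinite S).exists_minimal ⟨R, le_rfl, hF.norm, le_normalizer, hRL⟩
    have hD' : ⁅D, D⁆ < D := by
      refine lt_of_le_of_ne (commutator_le_self D) fun he => hDL ?_
      have := isSolvable_of_le hDR hF.solvable
      by_contra h
      have : Nontrivial D := (nontrivial_iff_ne_bot _).2 fun e => h (e.le.trans bot_le)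
      refine (Group.IsSolvable.commutator_lt_top_of_nontrivial (G := D)).ne ?_
      apply map_injective D.subtype_injective
      rw [_root_.commutator_def, map_commutator, ← MonoidHom.range_eq_map, range_subtype, he]
    have hcomm : ∀ U, U ≤ normalizer (D : Set G) → U ≤ normalizer (⁅D, D⁆ : Subgroup G) :=
      fun U hU u hu => mem_normalizer_of_map_conj (by
        rw [map_commutator, map_conj_eq (hU hu)])
    refine ⟨L ⊔ D, left_lt_sup.2 hDL, sup_le hLR hDR, fun a ha => ?_, fun a ha => ?_, ?_⟩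
    · exact mem_normalizer_of_map_conj (by
        rw [Subgroup.map_sup, map_conj_eq (hLA ha), map_conj_eq (hDA ha)])
    · exact mem_normalizer_of_map_conj (by
        rw [Subgroup.map_sup, map_conj_eq (hLn ha), map_conj_eq (hDn ha)])
    · have hsub : ⁅D, D⁆ ≤ L := by
        by_contra hn
        exact hD'.not_ge (hmin ⟨hD'.le.trans hDR, hcomm A hDA, hcomm R hDn, hn⟩ hD'.le)
      have hu : ((L : Set G) ∪ D) ⊆ normalizer (L : Set G) :=
        fun x hx => hx.elim (fun h => le_normalizer h) fun h => hLn (hDR h)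
      have := commutator_closure_le hu hu fun s hs t ht => by
        have hs' := hu hs
        have ht' := hu ht
        rcases hs with hs | hs
        · exact mul_mem (L.mul_mem hs (conj_mem ht' (L.inv_mem hs))) (one_mem _) |> fun h => by
            simpa [commutatorElement_def, mul_assoc] using h
        rcases ht with ht | ht
        · simpa [commutatorElement_def] using mul_mem (conj_mem hs' ht) (L.inv_mem ht)
        exact hsub (commutator_mem_commutator hs ht)
      rwa [Subgroup.closure_union, closure_eq, closure_eq] at this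
  obtain ⟨L, hNL, hLR, hLA, hLn, hLab⟩ := sect N hNR hRN hNA hNn
  set M := N ⊔ ⨆ (E : Subgroup G) (_ : E ≤ A) (_ : Nat.card E = q), L ⊓ F E with hM
  have hML : M ≤ L := sup_le hNL.le (iSup_le fun _ => iSup_le fun _ => iSup_le fun _ => inf_le_left)
  by_cases hMN : M ≤ N
  swap
  · refine step M (lt_of_le_of_ne le_sup_left fun h => hMN h.ge) (hML.trans hLR)
      (hF.pieces_inv hLA hNA) (hF.pieces_normal hLR hLA hLn hNn)
      ((commutator_mono hML hML).trans hLab) (sup_le_sup_left ?_ N)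
    refine iSup_mono fun E' => iSup_mono fun hA' => iSup_mono fun h' => le_inf ?_ inf_le_right
    exact le_sup_of_le_right (le_iSup_of_le E' (le_iSup_of_le hA' (le_iSup_of_le h' le_rfl)))
  have hLF : ∀ E' ≤ A, Nat.card E' = q → L ⊓ F E' ≤ N := fun E' hA' h' =>
    le_trans (hM ▸ le_sup_of_le_right (le_iSup_of_le E' (le_iSup₂_of_le hA' h' le_rfl))) hMN
  -- `L` is central modulo `N`
  have hcent : ∀ x ∈ R, ∀ l ∈ L, ⁅x, l⁆ ∈ N := by
    have h := commutator_closure_le (N := N)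
      (S := {x : G | ∃ E B : Subgroup G, E ≤ A ∧ Nat.card E = q ∧ B ≤ A ∧
        (∃ a ∈ A, B ⊔ zpowers a = A) ∧ x ∈ F E ∧ x ∈ centralizer (B : Set G)})
      (T := {x : G | ∃ B : Subgroup G, B ≤ A ∧
        (∃ a ∈ A, B ⊔ zpowers a = A) ∧ x ∈ L ∧ x ∈ centralizer (B : Set G)}) ?_ ?_ ?_
    · intro x hx l hl
      refine h (commutator_mem_commutator (hF.closure_gen hx) ?_)
      exact hF.le_of_hyperplanes (M := Subgroup.closure {x : G | ∃ B : Subgroup G, B ≤ A ∧
        (∃ a ∈ A, B ⊔ zpowers a = A) ∧ x ∈ L ∧ x ∈ centralizer (B : Set G)}) hLR hLA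
        (fun B hBA hB y hy => Subgroup.subset_closure ⟨B, hBA, hB, hy.1, hy.2⟩) hl
    · rintro x ⟨E', -, hA', h', -, -, hx, -⟩; exact hNn (hF.piece_le hA' h' hx)
    · rintro x ⟨-, -, -, hx, -⟩; exact hNn (hLR hx)
    rintro x ⟨E', B, hA', h', hBA, hB, hx, hxB⟩ l ⟨B', hBA', hB', hl, hlB⟩
    obtain ⟨E₁, hE₁, h₁⟩ := hF.inter B hBA hB B' hBA' hB'
    have hA₁ : E₁ ≤ A := hE₁.trans (inf_le_left.trans hBA)
    have hx₁ : x ∈ F E₁ := hF.balanced E' hA' h' E₁ hA₁ h₁
      ⟨hx, centralizer_le (hE₁.trans inf_le_left) hxB⟩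
    have hl₁ : l ∈ R ⊓ centralizer (E₁ : Set G) :=
      ⟨hLR hl, centralizer_le (hE₁.trans inf_le_right) hlB⟩
    refine hLF E₁ hA₁ h₁ ⟨?_, ?_⟩
    · exact L.mul_mem (conj_mem (hLn (hF.piece_le hA' h' hx)) hl) (L.inv_mem hl)
    · have hn := (hF.norm_F E₁ hA₁ h₁).2 hl₁
      have := mul_mem hx₁ (conj_mem hn (inv_mem hx₁))
      simpa [commutatorElement_def, mul_assoc] using this
  by_cases hRL : R ≤ L
  · refine absurd (hF.gen.trans (iSup_le fun E' => iSup_le fun hA' => iSup_le fun h' => ?_)) hRN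
    exact (le_inf ((hF.piece_le hA' h').trans hRL) le_rfl).trans (hLF E' hA' h')
  obtain ⟨V, hLV, hVR, hVA, hVn, hVab⟩ := sect L hLR hRL hLA hLn
  set W := N ⊔ ⨆ (E : Subgroup G) (_ : E ≤ A) (_ : Nat.card E = q), V ⊓ F E with hW
  have hWV : W ≤ V := sup_le (hNL.le.trans hLV.le)
    (iSup_le fun _ => iSup_le fun _ => iSup_le fun _ => inf_le_left)
  have hWN : ¬ W ≤ N := by
    refine fun h => hLV.not_ge (hF.le_of_hyperplanes hVR hVA fun B hBA hB x hx => ?_)
    obtain ⟨E₁, hE₁, h₁⟩ := hF.inter B hBA hB B hBA hB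
    have hA₁ : E₁ ≤ A := hE₁.trans (inf_le_left.trans hBA)
    obtain ⟨l, hl, f, hf, rfl⟩ := (mem_sup_iff ((hF.piece_le hA₁ h₁).trans hLn)).1
      (ih L hNL hLR hLA hLn hA₁ h₁ ⟨hVR hx.1, centralizer_le (hE₁.trans inf_le_left) hx.2⟩)
    refine mul_mem hl (hNL.le (h (mem_sup_right (mem_iSup_of_mem E₁ (mem_iSup_of_mem hA₁
      (mem_iSup_of_mem h₁ ⟨?_, hf⟩))))))
    simpa using mul_mem (inv_mem (hLV.le hl)) hx.1
  refine step W (lt_of_le_of_ne le_sup_left fun h => hWN h.ge) (hWV.trans hVR)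
    (hF.pieces_inv hVA hNA) (hF.pieces_normal hVR hVA hVn hNn) ?_ (sup_le_sup_left ?_ N)
  · -- `W` is abelian modulo `N`
    set T := {x : G | ∃ E B : Subgroup G, E ≤ A ∧ Nat.card E = q ∧ B ≤ A ∧
      (∃ a ∈ A, B ⊔ zpowers a = A) ∧ x ∈ V ⊓ F E ∧ x ∈ centralizer (B : Set G)} with hT
    have hWc : W ≤ closure ((N : Set G) ∪ T) := by
      refine sup_le (fun n hn => subset_closure (Or.inl hn))
        (iSup_le fun E' => iSup_le fun hA' => iSup_le fun h' => ?_)
      exact hF.le_of_hyperplanes (inf_le_left.trans hVR) (hF.piece_norm hVA hA' h')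
        fun B hBA hB x hx => subset_closure (Or.inr ⟨E', B, hA', h', hBA, hB, hx.1, hx.2⟩)
    have hu : ((N : Set G) ∪ T) ⊆ normalizer (N : Set G) := by
      rintro x (hx | ⟨E', B, hA', h', -, -, hx, -⟩)
      · exact le_normalizer hx
      · exact hNn (hVR hx.1)
    refine (commutator_mono hWc hWc).trans (commutator_closure_le hu hu fun s hs t ht => ?_)
    have hs' := hu hs
    have ht' := hu ht
    rcases hs with hs | hs
    · simpa [commutatorElement_def, mul_assoc] using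
        N.mul_mem hs (conj_mem ht' (N.inv_mem hs))
    rcases ht with ht | ht
    · simpa [commutatorElement_def] using N.mul_mem (conj_mem hs' ht) (N.inv_mem ht)
    obtain ⟨E₁, B, hA₁, h₁, hBA, hB, hs, hsB⟩ := hs
    obtain ⟨E₂, B', hA₂, h₂, hBA', hB', ht, htB⟩ := ht
    obtain ⟨E'', hA'', h'', hl, hr, -⟩ := hF.common hA₁ h₁ hA₂ h₂ hBA hB hBA' hB'
    have a := hl s hs.2 hsB
    have b := hr t ht.2 htB
    exact hLF E'' hA'' h'' ⟨hVab (commutator_mem_commutator hs.1 ht.1),
      (F E'').mul_mem ((F E'').mul_mem ((F E'').mul_mem a b) ((F E'').inv_mem a)) ((F E'').inv_mem b)⟩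
  · refine iSup_mono fun E' => iSup_mono fun hA' => iSup_mono fun h' => le_inf ?_ inf_le_right
    exact le_sup_of_le_right (le_iSup_of_le E' (le_iSup_of_le hA' (le_iSup_of_le h' le_rfl)))

/-- The Gorenstein-Walter lemma: the fixed points of a member of the index set in the group
generated by the family form the corresponding member. -/
theorem fixed_le {E : Subgroup G} (hEA : E ≤ A) (hE : Nat.card E = q) :
    R ⊓ centralizer (E : Set G) ≤ F E := by
  have := hF.fixed_le_sup (N := ⊥) bot_le (le_normalizer_iff.2 fun a _ x hx => by simp_all)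
    (le_normalizer_iff.2 fun a _ x hx => by simp_all) hEA hE
  rwa [bot_sup_eq] at this

end GWFamily

end Cfsg.Agent.Components
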