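import Mathlib
import Cfsg.Agent.Coprime.Action
import Cfsg.Agent.Coprime.Generation
import Cfsg.Agent.Coprime.Abelian

/-!
Goldschmidt's lemma: if the abelian group `A` acts coprimely on the solvable group `Y = [Y, A]`
and `B ≤ A`, then `C_Y(B)` is generated by the subgroups `C_Y(B) ∩ [C_Y(B₀), A]` with `B / B₀`
cyclic.
-/

set_option autoImplicit false
set_option linter.unusedSectionVars false

namespace Cfsg.Agent.Components

open Subgroup Coprime
open scoped commutatorElement

universe u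

variable {G : Type u} [Group G]

/-- The subgroups `B₀` of `B` with cyclic quotient. -/
def cycIndex (B : Subgroup G) : Set (Subgroup G) := {B₀ | B₀ ≤ B ∧ ∃ b ∈ B, B₀ ⊔ zpowers b = B}

/-- The subgroup generated by the `C_Y(B) ∩ [C_Y(B₀), A]`. -/
def gmSig (A B Y : Subgroup G) : Subgroup G :=
  ⨆ B₀ ∈ cycIndex B, Y ⊓ centralizer (B : Set G) ⊓ ⁅Y ⊓ centralizer (B₀ : Set G), A⁆

/-- The subgroup generated by the `V ∩ [C_Y(B₀), A]`. -/
def gmPart (A B Y V : Subgroup G) : Subgroup G :=
  ⨆ B₀ ∈ cycIndex B, V ⊓ ⁅Y ⊓ centralizer (B₀ : Set G), A⁆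

/-- The standing hypotheses. -/
structure GMHyp (A B Y : Subgroup G) : Prop where
  comm : IsMulCommutative A
  le : B ≤ A
  normal : Y.Normal
  top : Y ⊔ A = ⊤
  coprime : (Nat.card A).Coprime (Nat.card Y)
  solvable : Group.IsSolvable Y
  self : ⁅Y, A⁆ = Y

/-- Commutativity of a subgroup from that of its elements. -/
theorem isMulCommutative_of_commute {H : Subgroup G} (h : ∀ x ∈ H, ∀ y ∈ H, x * y = y * x) :
    IsMulCommutative H :=
  le_centralizer_iff_isMulCommutative.1 fun y hy => mem_centralizer_iff.2 fun x hx => h x hx y hy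

namespace GMHyp

variable [Finite G] {A B Y : Subgroup G} (h : GMHyp A B Y)

include h

theorem normA : A ≤ normalizer (Y : Set G) := by
  have := h.normal
  rw [normalizer_eq_top]; exact le_top

theorem A_le_normalizer_centralizer {D : Subgroup G} (hD : D ≤ A) :
    A ≤ normalizer ((centralizer (D : Set G) : Subgroup G) : Set G) := by
  have hle : A ≤ centralizer (D : Set G) := fun a ha => mem_centralizer_iff.2 fun d hd =>
    congrArg Subtype.val (h.comm.is_comm.comm ⟨d, hD hd⟩ ⟨a, ha⟩)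
  exact hle.trans le_normalizer

theorem inf_norm {P Q : Subgroup G} (hP : A ≤ normalizer (P : Set G))
    (hQ : A ≤ normalizer (Q : Set G)) : A ≤ normalizer ((P ⊓ Q : Subgroup G) : Set G) :=
  le_normalizer_iff.2 fun _ ha _ hx => ⟨conj_mem (hP ha) hx.1, conj_mem (hQ ha) hx.2⟩

theorem z_norm {B₀ : Subgroup G} (hB₀ : B₀ ≤ B) :
    A ≤ normalizer ((⁅Y ⊓ centralizer (B₀ : Set G), A⁆ : Subgroup G) : Set G) :=
  normalizer_commutator_ge_right _ _

theorem z_le {B₀ : Subgroup G} (hB₀ : B₀ ≤ B) :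
    ⁅Y ⊓ centralizer (B₀ : Set G), A⁆ ≤ Y ⊓ centralizer (B₀ : Set G) :=
  commutator_le_left_of_normalizer (h.inf_norm h.normA
    (h.A_le_normalizer_centralizer (hB₀.trans h.le)))

theorem fixed_normalizes {B₀ : Subgroup G} (hB₀ : B₀ ≤ B) {c : G} (hc : c ∈ Y)
    (hcA : c ∈ centralizer (A : Set G)) :
    c ∈ normalizer ((⁅Y ⊓ centralizer (B₀ : Set G), A⁆ : Subgroup G) : Set G) :=
  normalizer_commutator_ge_left _ _ ⟨hc, centralizer_le (hB₀.trans h.le) hcA⟩

theorem coprime_le {D K : Subgroup G} (hD : D ≤ A) (hK : K ≤ Y) :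
    (Nat.card D).Coprime (Nat.card K) :=
  (h.coprime.coprime_dvd_left (card_dvd_of_le hD)).coprime_dvd_right (card_dvd_of_le hK)

theorem solv_le {D K : Subgroup G} (hK : K ≤ Y) :
    Group.IsSolvable D ∨ Group.IsSolvable K :=
  Or.inr (isSolvable_of_le hK h.solvable)

theorem gen {K M : Subgroup G} (hK : K ≤ Y) (hKA : A ≤ normalizer (K : Set G))
    (hM : ∀ B₀ ∈ cycIndex B, K ⊓ centralizer (B₀ : Set G) ≤ M) : K ≤ M := by
  have : IsMulCommutative B := isMulCommutative_of_commute fun x hx y hy =>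
    congrArg Subtype.val (h.comm.is_comm.comm ⟨x, h.le hx⟩ ⟨y, h.le hy⟩)
  exact le_of_centralizer_cyclic_quotient_le (h.le.trans hKA) (h.coprime_le h.le hK)
    fun B₀ h1 h2 => hM B₀ ⟨h1, h2⟩

theorem part_norm {V : Subgroup G} (hVA : A ≤ normalizer (V : Set G)) :
    A ≤ normalizer (gmPart A B Y V : Set G) := by
  intro a ha
  refine mem_normalizer_of_map_conj ?_
  simp only [gmPart, Subgroup.map_iSup]
  exact iSup_congr fun B₀ => iSup_congr fun hB₀ =>
    map_conj_eq (h.inf_norm hVA (h.z_norm hB₀.1) ha)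

theorem part_le (V : Subgroup G) : gmPart A B Y V ≤ V :=
  iSup₂_le fun _ _ => inf_le_left

theorem le_part {V B₀ : Subgroup G} (hB₀ : B₀ ∈ cycIndex B) :
    V ⊓ ⁅Y ⊓ centralizer (B₀ : Set G), A⁆ ≤ gmPart A B Y V :=
  le_iSup₂ (f := fun B₀ (_ : B₀ ∈ cycIndex B) => V ⊓ ⁅Y ⊓ centralizer (B₀ : Set G), A⁆) B₀ hB₀

theorem fixed_decomp {V B₀ : Subgroup G} (hVY : V ≤ Y) (hVA : A ≤ normalizer (V : Set G))
    (hB₀ : B₀ ∈ cycIndex B) {u : G} (hu : u ∈ V ⊓ centralizer (B₀ : Set G)) :
    ∃ k ∈ V ⊓ ⁅Y ⊓ centralizer (B₀ : Set G), A⁆, ∃ c ∈ V ⊓ centralizer (A : Set G), k * c = u := by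
  have hn := h.inf_norm hVA (h.A_le_normalizer_centralizer (hB₀.1.trans h.le))
  have hsup := commutator_sup_centralizer hn (h.coprime_le le_rfl (inf_le_left.trans hVY))
    (h.solv_le (inf_le_left.trans hVY))
  rw [← hsup] at hu
  obtain ⟨k, hk, c, hc, he⟩ := (mem_sup_iff
    (inf_le_left.trans (normalizer_commutator_ge_left _ _))).1 hu
  exact ⟨k, ⟨(commutator_le_left_of_normalizer hn hk).1,
    commutator_mono (inf_le_inf_right _ hVY) le_rfl hk⟩, c, ⟨hc.1.1, hc.2⟩, he⟩

theorem commutator_le_part {V : Subgroup G} (hVY : V ≤ Y) (hVA : A ≤ normalizer (V : Set G)) :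
    ⁅V, A⁆ ≤ gmPart A B Y V := by
  have hMA := h.part_norm hVA
  have hC : V ⊓ centralizer (A : Set G) ≤ normalizer (gmPart A B Y V : Set G) := by
    intro c hc
    refine mem_normalizer_of_map_conj ?_
    simp only [gmPart, Subgroup.map_iSup]
    refine iSup_congr fun B₀ => iSup_congr fun hB₀ => map_conj_eq ?_
    rw [mem_normalizer_iff]
    intro x
    have hn := h.fixed_normalizes hB₀.1 (hVY hc.1) hc.2
    exact and_congr (mem_normalizer_iff.1 (le_normalizer hc.1) x) (mem_normalizer_iff.1 hn x)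
  have hV : V ≤ gmPart A B Y V ⊔ (V ⊓ centralizer (A : Set G)) := by
    refine h.gen hVY hVA fun B₀ hB₀ u hu => ?_
    obtain ⟨k, hk, c, hc, rfl⟩ := h.fixed_decomp hVY hVA hB₀ hu
    exact Subgroup.mul_mem _ (mem_sup_left (h.le_part hB₀ hk)) (mem_sup_right hc)
  rw [commutator_le]
  intro v hv a ha
  obtain ⟨m, hm, c, hc, rfl⟩ := (mem_sup_iff hC).1 (hV hv)
  rw [show ⁅m * c, a⁆ = m * (a * m⁻¹ * a⁻¹) by
    have := conj_eq_of_mem_centralizer hc.2 ha
    rw [mul_inv_eq_iff_eq_mul] at this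
    rw [commutatorElement_def, mul_assoc m c a, ← this]
    group]
  exact Subgroup.mul_mem _ hm (conj_mem (hMA ha) (Subgroup.inv_mem _ hm))

theorem normal_of_normalized {V : Subgroup G} (hY : Y ≤ normalizer (V : Set G))
    (hA : A ≤ normalizer (V : Set G)) : V.Normal :=
  normalizer_eq_top_iff.1 (top_le_iff.1 (h.top ▸ sup_le hY hA))

theorem le_part_self : Y ≤ gmPart A B Y Y :=
  h.self.ge.trans (h.commutator_le_part le_rfl h.normA)

theorem part_normal {V : Subgroup G} [hV : V.Normal] (hVY : V ≤ Y) :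
    (gmPart A B Y V).Normal := by
  have hVA : A ≤ normalizer (V : Set G) := by rw [normalizer_eq_top]; exact le_top
  refine h.normal_of_normalized (h.le_part_self.trans (iSup₂_le fun B₀ hB₀ => ?_)) (h.part_norm hVA)
  set M := gmPart A B Y V with hM
  have hB₀A := hB₀.1.trans h.le
  have key : ∀ z ∈ ⁅Y ⊓ centralizer (B₀ : Set G), A⁆, ∀ m ∈ M, z * m * z⁻¹ ∈ M := by
    intro z hz
    have hzC := h.z_le hB₀.1 hz
    -- elements fixed by `A`
    have hfix : ∀ c ∈ M, c ∈ centralizer (A : Set G) → z * c * z⁻¹ ∈ M := by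
      intro c hc hcA
      have hn := h.fixed_normalizes hB₀.1 (hVY (h.part_le V hc)) hcA
      have h1 : z * c * z⁻¹ * c⁻¹ ∈ V ⊓ ⁅Y ⊓ centralizer (B₀ : Set G), A⁆ := by
        refine ⟨Subgroup.mul_mem _ (hV.conj_mem c (h.part_le V hc) z)
          (Subgroup.inv_mem _ (h.part_le V hc)), ?_⟩
        have := Subgroup.mul_mem _ hz (conj_mem hn (Subgroup.inv_mem _ hz))
        simpa [mul_assoc] using this
      simpa using Subgroup.mul_mem _ (h.le_part hB₀ h1) hc
    -- elements of `[V, A]`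
    have hKA : A ≤ normalizer ((⁅V, A⁆ : Subgroup G) : Set G) := normalizer_commutator_ge_right _ _
    have hK : ⁅V, A⁆ ≤ M.comap (MulAut.conj z).toMonoidHom := by
      have hKV : ⁅V, A⁆ ≤ V := commutator_le_left_of_normalizer hVA
      rw [← commutator_sup_centralizer (hB₀A.trans hKA) (h.coprime_le hB₀A (hKV.trans hVY))
        (h.solv_le (hKV.trans hVY))]
      refine sup_le ?_ ?_
      · rw [← map_le_iff_le_comap, map_commutator]
        refine le_trans (commutator_mono ?_ ?_) (h.commutator_le_part hVY hVA)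
        · rintro _ ⟨k, hk, rfl⟩; exact hV.conj_mem k (hKV hk) z
        · rintro _ ⟨b, hb, rfl⟩
          show z * b * z⁻¹ ∈ A
          rw [← mem_centralizer_iff.1 hzC.2 b hb, mul_inv_cancel_right]
          exact hB₀A hb
      · intro u hu
        show z * u * z⁻¹ ∈ M
        obtain ⟨k, hk, c, hc, rfl⟩ := h.fixed_decomp hVY hVA hB₀ (u := u) ⟨hKV hu.1, hu.2⟩
        have hcM : c ∈ M := by
          simpa using Subgroup.mul_mem _ (Subgroup.inv_mem _ (h.le_part hB₀ hk))
            (h.commutator_le_part hVY hVA hu.1)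
        have hk' : z * k * z⁻¹ ∈ M := h.le_part hB₀ ⟨hV.conj_mem k hk.1 z,
          Subgroup.mul_mem _ (Subgroup.mul_mem _ hz hk.2) (Subgroup.inv_mem _ hz)⟩
        simpa [mul_assoc] using Subgroup.mul_mem _ hk' (hfix c hcM hc.2)
    have hMV : M ≤ V := h.part_le V
    have hM' : M ≤ M.comap (MulAut.conj z).toMonoidHom := by
      refine (commutator_sup_centralizer (h.part_norm hVA)
        (h.coprime_le le_rfl (hMV.trans hVY)) (h.solv_le (hMV.trans hVY))).ge.trans ?_
      exact sup_le ((commutator_mono hMV le_rfl).trans hK) fun c hc => hfix c hc.1 hc.2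
    exact fun m hm => hM' hm
  refine inf_le_right.trans fun z hz => mem_normalizer_iff.2 fun m => ⟨key z hz m, fun hm => ?_⟩
  simpa [mul_assoc] using key z⁻¹ (Subgroup.inv_mem _ hz) _ hm

theorem central_of_commutator {V : Subgroup G} [V.Normal] (hV : ⁅V, A⁆ = ⊥) :
    ⁅Y, V⁆ = ⊥ := by
  have h1 : ⁅⁅A, V⁆, Y⁆ = ⊥ := by
    rw [commutator_comm A V, hV, commutator_bot_left]
  have h2 : ⁅⁅V, Y⁆, A⁆ = ⊥ :=
    le_bot_iff.1 ((commutator_mono (commutator_le_left V Y) le_rfl).trans hV.le)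
  have h3 := commutator_commutator_eq_bot_of_rotate h1 h2
  rwa [h.self] at h3

theorem abelian_fixed_le {V : Subgroup G} [hV : V.Normal] (hVY : V ≤ Y) [IsMulCommutative V]
    (hVM : V ≤ gmPart A B Y V) : V ⊓ centralizer (B : Set G) ≤ gmSig A B Y := by
  have hVB : B ≤ normalizer (V : Set G) := by rw [normalizer_eq_top]; exact le_top
  have hcop := h.coprime_le h.le hVY
  have hle : V ≤ ⁅V, B⁆ ⊔ (V ⊓ gmSig A B Y) := by
    refine hVM.trans (iSup₂_le fun B₀ hB₀ => ?_)
    have hP : B ≤ normalizer ((V ⊓ ⁅Y ⊓ centralizer (B₀ : Set G), A⁆ : Subgroup G) : Set G) :=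
      h.le.trans (h.inf_norm (by rw [normalizer_eq_top]; exact le_top) (h.z_norm hB₀.1))
    rw [← commutator_sup_centralizer hP (h.coprime_le h.le (inf_le_left.trans hVY))
      (h.solv_le (inf_le_left.trans hVY))]
    refine sup_le_sup (commutator_mono inf_le_left le_rfl) fun x hx => ⟨hx.1.1, ?_⟩
    exact mem_iSup_of_mem B₀ (mem_iSup_of_mem hB₀ ⟨⟨hVY hx.1.1, hx.2⟩, hx.1.2⟩)
  intro x hx
  obtain ⟨k, hk, w, hw, rfl⟩ := (mem_sup_iff (inf_le_left.trans (normalizer_commutator_ge_left V B))).1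
    (hle hx.1)
  have hwC : w ∈ centralizer (B : Set G) :=
    (iSup₂_le fun _ _ => inf_le_left.trans inf_le_right : gmSig A B Y ≤ _) hw.2
  have hkC : k ∈ centralizer (B : Set G) := by
    simpa using Subgroup.mul_mem _ hx.2 (Subgroup.inv_mem _ hwC)
  have hk1 : k ∈ (V ⊓ centralizer (B : Set G)) ⊓ ⁅V, B⁆ :=
    ⟨⟨commutator_le_left V B hk, hkC⟩, hk⟩
  rw [(abelian_decomposition hVB hcop).1, Subgroup.mem_bot] at hk1
  rw [hk1, one_mul]
  exact hw.2

/-- Some abelian normal subgroup of `Y` is generated by its parts, unless `Y` is trivial. -/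
theorem exists_part (hY : Y ≠ ⊥) :
    ∃ V : Subgroup G, V.Normal ∧ V ≤ Y ∧ IsMulCommutative V ∧ V ≠ ⊥ ∧ V ≤ gmPart A B Y V := by
  have := h.normal
  by_contra hno
  have hbot : ∀ V : Subgroup G, V.Normal → V ≤ Y → IsMulCommutative V →
      gmPart A B Y V = ⊥ := by
    intro V hVn hVY hVc
    by_contra hne
    refine hno ⟨gmPart A B Y V, h.part_normal hVY, (h.part_le V).trans hVY, ?_, hne,
      iSup₂_mono fun B₀ hB₀ => le_inf (h.le_part hB₀) inf_le_right⟩
    exact isMulCommutative_of_commute fun x hx y hy => congrArg Subtype.val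
      (hVc.is_comm.comm ⟨x, h.part_le V hx⟩ ⟨y, h.part_le V hy⟩)
  set C := Y ⊓ centralizer (Y : Set G) with hC
  have hCc : IsMulCommutative C := isMulCommutative_of_commute fun x hx y hy =>
    mem_centralizer_iff.1 hy.2 x hx.1
  have hCn : C.Normal := inferInstanceAs (Y ⊓ centralizer (Y : Set G)).Normal
  have hCA : A ≤ normalizer (C : Set G) := by rw [normalizer_eq_top]; exact le_top
  have hCbot := hbot C hCn inf_le_left hCc
  have hCA' : ⁅C, A⁆ = ⊥ := le_bot_iff.1 ((h.commutator_le_part inf_le_left hCA).trans hCbot.le)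
  by_cases hYC : Y ≤ C
  · refine hY (le_bot_iff.1 ?_)
    rw [← h.self]
    exact (commutator_mono hYC le_rfl).trans hCA'.le
  let S := {D : Subgroup G | D.Normal ∧ D ≤ Y ∧ ¬ D ≤ C}
  obtain ⟨D, ⟨hDn, hDY, hDC⟩, hmin⟩ :=
    (Set.toFinite S).exists_minimal ⟨Y, h.normal, le_rfl, hYC⟩
  have hD' : ⁅D, D⁆ < D := by
    refine lt_of_le_of_ne (commutator_le_self D) fun he => hDC ?_
    have := isSolvable_of_le hDY h.solvable
    by_contra hc
    have : Nontrivial D := (nontrivial_iff_ne_bot _).2 fun e => hc (e.le.trans bot_le)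
    refine (Group.IsSolvable.commutator_lt_top_of_nontrivial (G := D)).ne ?_
    apply map_injective D.subtype_injective
    rw [_root_.commutator_def, map_commutator, ← MonoidHom.range_eq_map, range_subtype, he]
  have hDD : ⁅D, D⁆ ≤ C := by
    by_contra hc
    exact hD'.not_ge (hmin ⟨commutator_normal D D, hD'.le.trans hDY, hc⟩ hD'.le)
  set M := gmPart A B Y D with hM
  have hMn : M.Normal := h.part_normal hDY
  have hMc : IsMulCommutative M := by
    rw [← le_centralizer_iff_isMulCommutative]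
    refine iSup₂_le fun B₁ hB₁ u hu => ?_
    suffices D ≤ centralizer ({u} : Set G) from mem_centralizer_iff.2 fun x hx =>
      mem_centralizer_singleton_iff.1 (this (h.part_le D hx))
    have huC := h.z_le hB₁.1 hu.2
    have hA₁ := hB₁.1.trans h.le
    have hDn' : B₁ ≤ normalizer (D : Set G) := by rw [normalizer_eq_top]; exact le_top
    rw [← commutator_sup_centralizer hDn' (h.coprime_le hA₁ hDY) (h.solv_le hDY)]
    refine sup_le ((commutator_le).2 fun l hl b hb => ?_) fun x hx => ?_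
    · -- conjugation by `b` fixes `⁅l⁻¹, u⁆`
      rw [mem_centralizer_singleton_iff]
      set m := l⁻¹ with hm
      have hmD : m ∈ D := Subgroup.inv_mem _ hl
      set m' := b * m * b⁻¹ with hm'
      have hc : ⁅m, u⁆ ∈ C := hDD (commutator_mem_commutator hmD hu.1)
      have hbc : b * ⁅m, u⁆ * b⁻¹ = ⁅m, u⁆ := by
        have := hCA' ▸ commutator_mem_commutator hc (hA₁ hb)
        rw [Subgroup.mem_bot, commutatorElement_eq_one_iff_mul_comm] at this
        rw [← this, mul_inv_cancel_right]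
      have hbu : b * u * b⁻¹ = u := by
        rw [mem_centralizer_iff.1 huC.2 b hb, mul_inv_cancel_right]
      have he : ⁅m', u⁆ = ⁅m, u⁆ := by
        conv_lhs => rw [← hbu]
        rw [hm']
        conv_rhs => rw [← hbc]
        simp [commutatorElement_def, mul_assoc]
      have h1 : m' * u * m'⁻¹ = m * u * m⁻¹ := by
        simpa [commutatorElement_def] using he
      rw [show ⁅l, b⁆ = m⁻¹ * m' by rw [hm', hm]; simp [commutatorElement_def, mul_assoc]]
      calc m⁻¹ * m' * u = m⁻¹ * (m' * u * m'⁻¹) * m' := by group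
        _ = u * (m⁻¹ * m') := by rw [h1]; group
    · rw [mem_centralizer_singleton_iff]
      have hz : ⁅x, u⁆ ∈ gmPart A B Y C := h.le_part hB₁
        ⟨hDD (commutator_mem_commutator hx.1 hu.1), by
          have hn := normalizer_commutator_ge_left (Y ⊓ centralizer (B₁ : Set G)) A
            ⟨hDY hx.1, hx.2⟩
          simpa [commutatorElement_def] using
            Subgroup.mul_mem _ (conj_mem hn hu.2) (Subgroup.inv_mem _ hu.2)⟩
      rw [hCbot, Subgroup.mem_bot, commutatorElement_eq_one_iff_mul_comm] at hz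
      exact hz
  have hMbot : M = ⊥ := by
    refine le_bot_iff.1 (le_trans ?_ (hbot M hMn ((h.part_le D).trans hDY) hMc).le)
    exact iSup₂_mono fun B₀ hB₀ => le_inf (h.le_part hB₀) inf_le_right
  have hDA : A ≤ normalizer (D : Set G) := by rw [normalizer_eq_top]; exact le_top
  have hDA' : ⁅D, A⁆ = ⊥ := le_bot_iff.1 ((h.commutator_le_part hDY hDA).trans hMbot.le)
  exact hDC (le_inf hDY (commutator_eq_bot_iff_le_centralizer.1
    (commutator_comm Y D ▸ h.central_of_commutator hDA')))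

end GMHyp

/-- Goldschmidt's lemma. -/
theorem GMHyp.fixed_le_gmSig : ∀ (n : ℕ) {G : Type u} [Group G] [Finite G] {A B Y : Subgroup G},
    Nat.card Y ≤ n → GMHyp A B Y → Y ⊓ centralizer (B : Set G) ≤ gmSig A B Y := by
  intro n
  induction n with
  | zero => intro G _ _ A B Y hn _; exact absurd hn (Nat.not_le.2 Nat.card_pos)
  | succ n ih =>
    intro G _ _ A B Y hn h
    by_cases hY : Y = ⊥
    · rw [hY, bot_inf_eq]; exact bot_le
    obtain ⟨V, hVn, hVY, hVc, hV1, hVM⟩ := h.exists_part hY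
    set π := QuotientGroup.mk' V with hπ
    have hπs : Function.Surjective π := QuotientGroup.mk'_surjective V
    have hcard : Nat.card (Y.map π) ≤ n := by
      have h1 := Subgroup.relIndex_mul_relIndex (⊥ : Subgroup G) V Y bot_le hVY
      rw [relIndex_bot_left, relIndex_bot_left] at h1
      have h2 : Nat.card (Y.map π) = V.relIndex Y := by
        rw [← Subgroup.relIndex_ker, hπ, QuotientGroup.ker_mk']
      have h3 : 1 < Nat.card V := V.one_lt_card_iff_ne_bot.2 hV1
      have h4 : 0 < Nat.card (Y.map π) := Nat.card_pos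
      nlinarith
    have h' : GMHyp (A.map π) (B.map π) (Y.map π) :=
      { comm := by
          refine isMulCommutative_of_commute ?_
          rintro _ ⟨x, hx, rfl⟩ _ ⟨y, hy, rfl⟩
          rw [← map_mul, ← map_mul]
          exact congrArg π (congrArg Subtype.val (h.comm.is_comm.comm ⟨x, hx⟩ ⟨y, hy⟩))
        le := map_mono h.le
        normal := h.normal.map π hπs
        top := by rw [← Subgroup.map_sup, h.top, map_top_of_surjective π hπs]
        coprime := (h.coprime.coprime_dvd_left (card_map_dvd _ π)).coprime_dvd_right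
          (card_map_dvd _ π)
        solvable := isSolvable_map π h.solvable
        self := by rw [← map_commutator, h.self] }
    intro x hx
    have hsig : gmSig (A.map π) (B.map π) (Y.map π) ≤ (gmSig A B Y).map π := by
      refine iSup₂_le fun D ⟨hDB, b, hb, hDb⟩ => ?_
      set B₀ := B ⊓ D.comap π with hB₀
      have hB₀D : B₀.map π = D := by
        refine le_antisymm (map_le_iff_le_comap.2 inf_le_right) fun d hd => ?_
        obtain ⟨b, hb, rfl⟩ := hDB hd
        exact ⟨b, ⟨hb, hd⟩, rfl⟩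
      have hB₀m : B₀ ∈ cycIndex B := by
        obtain ⟨b, hb, rfl⟩ := hb
        refine ⟨inf_le_left, b, hb, le_antisymm (sup_le inf_le_left (zpowers_le.2 hb)) fun z hz => ?_⟩
        have hn : zpowers (π b) ≤ normalizer (D : Set (G ⧸ V)) := by
          rw [le_normalizer_iff]
          intro u hu v hv
          have := h'.comm.is_comm.comm ⟨v, h'.le (hDB hv)⟩
            ⟨u, h'.le ((zpowers_le (H := B.map π)).2 (mem_map_of_mem π hb) hu)⟩
          have e : v * u = u * v := congrArg Subtype.val this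
          rwa [← e, mul_inv_cancel_right]
        obtain ⟨d, hd, e, he, hde⟩ := (mem_sup_iff hn).1 (hDb.ge ⟨z, hz, rfl⟩)
        obtain ⟨i, rfl⟩ := mem_zpowers_iff.1 he
        have hzb : z * (b ^ i)⁻¹ ∈ B₀ := by
          refine ⟨Subgroup.mul_mem _ hz (Subgroup.inv_mem _ (Subgroup.zpow_mem _ hb i)), ?_⟩
          show π _ ∈ D
          rwa [map_mul, ← hde, map_inv, map_zpow, mul_inv_cancel_right]
        simpa using Subgroup.mul_mem _ (mem_sup_left (T := zpowers b) hzb)
          (mem_sup_right (S := B₀) (Subgroup.zpow_mem _ (mem_zpowers b) i))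
      have hA₀ : B₀ ≤ A := inf_le_left.trans h.le
      have hfix : Y.map π ⊓ centralizer (D : Set (G ⧸ V)) ≤
          (Y ⊓ centralizer (B₀ : Set G)).map π := by
        rintro _ ⟨⟨k, hk, rfl⟩, hc⟩
        obtain ⟨c, hc', hkc⟩ := exists_centralizer_mem_coset (hA₀.trans h.normA)
          (h.coprime_le hA₀ le_rfl) (h.solv_le le_rfl) hVY
          (by rw [normalizer_eq_top]; exact le_top) hk (fun a ha => by
            refine (QuotientGroup.eq_one_iff _).1 ?_
            show π (k⁻¹ * (a * k * a⁻¹)) = 1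
            have := mem_centralizer_iff.1 hc (π a) (hB₀D ▸ ⟨a, ha, rfl⟩)
            simp only [map_mul, map_inv]
            rw [this, mul_inv_cancel_right, inv_mul_cancel])
        exact ⟨c, hc', (QuotientGroup.eq.2 hkc).symm⟩
      rintro _ ⟨⟨-, hy⟩, hz⟩
      obtain ⟨z, hzZ, rfl⟩ := (map_commutator _ _ π).ge (commutator_mono hfix le_rfl hz)
      have hZY := (h.z_le (B₀ := B₀) inf_le_left).trans inf_le_left
      obtain ⟨c, hc, hzc⟩ := exists_centralizer_mem_coset (h.le.trans (h.z_norm inf_le_left))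
        (h.coprime_le h.le hZY) (h.solv_le hZY) (N := V ⊓ ⁅Y ⊓ centralizer (B₀ : Set G), A⁆)
        inf_le_right (h.le.trans (h.inf_norm (by rw [normalizer_eq_top]; exact le_top)
          (h.z_norm inf_le_left))) hzZ (fun a ha => by
            refine ⟨(QuotientGroup.eq_one_iff _).1 ?_, Subgroup.mul_mem _ (Subgroup.inv_mem _ hzZ)
              (conj_mem (h.z_norm inf_le_left (h.le ha)) hzZ)⟩
            show π (z⁻¹ * (a * z * a⁻¹)) = 1
            have := mem_centralizer_iff.1 hy (π a) ⟨a, ha, rfl⟩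
            simp only [map_mul, map_inv]
            rw [this, mul_inv_cancel_right, inv_mul_cancel])
      exact ⟨c, mem_iSup_of_mem B₀ (mem_iSup_of_mem hB₀m ⟨⟨hZY hc.1, hc.2⟩, hc.1⟩),
        (QuotientGroup.eq.2 hzc.1).symm⟩
    have hxπ : π x ∈ Y.map π ⊓ centralizer ((B.map π : Subgroup (G ⧸ V)) : Set (G ⧸ V)) := by
      refine ⟨⟨x, hx.1, rfl⟩, mem_centralizer_iff.2 ?_⟩
      rintro _ ⟨b, hb, rfl⟩
      rw [← map_mul, ← map_mul, mem_centralizer_iff.1 hx.2 b hb]
    obtain ⟨w, hw, hwx⟩ := hsig (ih hcard h' hxπ)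
    have hwC : w ∈ centralizer (B : Set G) :=
      (iSup₂_le fun _ _ => inf_le_left.trans inf_le_right : gmSig A B Y ≤ _) hw
    have hv : w⁻¹ * x ∈ V ⊓ centralizer (B : Set G) :=
      ⟨QuotientGroup.eq.1 hwx, Subgroup.mul_mem _ (Subgroup.inv_mem _ hwC) hx.2⟩
    simpa using Subgroup.mul_mem _ hw (h.abelian_fixed_le hVY hVM hv)

/-- Goldschmidt's lemma, without assuming that `Y` is normal. -/
theorem goldschmidt_generation [Finite G] {A B Y : Subgroup G} (hAc : IsMulCommutative A)
    (hB : B ≤ A) (hAY : A ≤ normalizer (Y : Set G))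
    (hcop : (Nat.card A).Coprime (Nat.card Y)) (hsolv : Group.IsSolvable Y) (hYA : ⁅Y, A⁆ = Y) :
    Y ⊓ centralizer (B : Set G) = gmSig A B Y := by
  refine le_antisymm (fun x hx => ?_) (iSup₂_le fun _ _ => inf_le_left)
  set H := Y ⊔ A with hH
  have hY : Y ≤ H := le_sup_left
  have hA : A ≤ H := le_sup_right
  have hBH : B ≤ H := hB.trans hA
  have back : ∀ K : Subgroup G, K ≤ H → (K.subgroupOf H).map H.subtype = K := fun K hK => by
    rw [subgroupOf, map_comap_eq, range_subtype, inf_eq_right.2 hK]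
  have hcen : ∀ D : Subgroup H, (centralizer (D : Set H)).map H.subtype ≤
      centralizer ((D.map H.subtype : Subgroup G) : Set G) := by
    rintro D _ ⟨c, hc, rfl⟩
    rw [mem_centralizer_iff]
    rintro _ ⟨d, hd, rfl⟩
    rw [← map_mul, ← map_mul, mem_centralizer_iff.1 hc d hd]
  have hh : GMHyp (A.subgroupOf H) (B.subgroupOf H) (Y.subgroupOf H) :=
    { comm := isMulCommutative_of_commute fun u hu v hv => Subtype.ext
        (congrArg Subtype.val (hAc.is_comm.comm ⟨_, hu⟩ ⟨_, hv⟩) :)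
      le := fun u hu => hB hu
      normal := normal_subgroupOf_of_le_normalizer (sup_le le_normalizer hAY)
      top := by rw [← subgroupOf_sup hY hA, subgroupOf_self]
      coprime := by
        rwa [Nat.card_congr (subgroupOfEquivOfLe hA).toEquiv,
          Nat.card_congr (subgroupOfEquivOfLe hY).toEquiv]
      solvable := haveI := hsolv; Group.isSolvable_of_isSolvable_injective (f := (subgroupOfEquivOfLe hY).toMonoidHom)
        (subgroupOfEquivOfLe hY).injective
      self := by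
        apply map_injective H.subtype_injective
        rw [map_commutator, back Y hY, back A hA, hYA] }
  have key : (⟨x, hY hx.1⟩ : H) ∈
      Y.subgroupOf H ⊓ centralizer ((B.subgroupOf H : Subgroup H) : Set H) :=
    ⟨hx.1, mem_centralizer_iff.2 fun b hb => Subtype.ext (mem_centralizer_iff.1 hx.2 b hb :)⟩
  have hle : (gmSig (A.subgroupOf H) (B.subgroupOf H) (Y.subgroupOf H)).map H.subtype ≤
      gmSig A B Y := by
    simp only [gmSig, Subgroup.map_iSup]
    refine iSup₂_le fun D ⟨hDB, b, hb, hDb⟩ => ?_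
    refine le_trans ?_ (le_iSup₂ (D.map H.subtype) ⟨?_, b, hb, ?_⟩)
    · refine le_inf (le_inf ?_ ?_) ?_
      · exact (map_mono (inf_le_left.trans inf_le_left)).trans (back Y hY).le
      · refine (map_mono (inf_le_left.trans inf_le_right)).trans ((hcen _).trans ?_)
        rw [back B hBH]
      · refine (map_mono inf_le_right).trans ((map_commutator _ _ _).le.trans
          (commutator_mono ?_ (back A hA).le))
        exact (le_inf ((map_mono inf_le_left).trans (back Y hY).le)
          ((map_mono inf_le_right).trans (hcen D)))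
    · exact (map_mono hDB).trans (back B hBH).le
    · conv_rhs => rw [← back B hBH, ← hDb, Subgroup.map_sup, MonoidHom.map_zpowers]
      rfl
  exact hle ⟨_, GMHyp.fixed_le_gmSig _ le_rfl hh key, rfl⟩

/-- The form of S1329, given the solvability of `Y` (which is the odd order theorem there). -/
theorem goldschmidt_generation_two [Finite G] (A B Y : Subgroup G) (hA2 : IsPGroup 2 ↥A)
    (hAc : IsMulCommutative ↥A) (hB : B ≤ A) (hYodd : Odd (Nat.card ↥Y))
    (hsolv : Group.IsSolvable ↥Y) (hAY : A ≤ normalizer (Y : Set G)) (hYA : ⁅Y, A⁆ = Y) :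
    Y ⊓ centralizer (B : Set G) =
      ⨆ B₀ : {B₀ : Subgroup G // B₀ ≤ B ∧
          ∀ [(B₀.subgroupOf B).Normal], IsCyclic (↥B ⧸ B₀.subgroupOf B)},
        Y ⊓ centralizer (B : Set G) ⊓ ⁅Y ⊓ centralizer ((B₀ : Subgroup G) : Set G), A⁆ := by
  have hcop : (Nat.card A).Coprime (Nat.card Y) := by
    obtain ⟨n, hn⟩ := IsPGroup.iff_card.1 hA2
    rw [hn]
    exact Nat.Coprime.pow_left _ (Nat.coprime_two_left.2 hYodd)
  refine le_antisymm ?_ (iSup_le fun _ => inf_le_left)
  refine (goldschmidt_generation hAc hB hAY hcop hsolv hYA).le.trans ?_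
  refine iSup₂_le fun B₀ ⟨hle, b, hb, hBb⟩ => ?_
  refine le_iSup_of_le ⟨B₀, hle, fun {_} => ?_⟩ le_rfl
  refine ⟨⟨QuotientGroup.mk' _ ⟨b, hb⟩, fun u => ?_⟩⟩
  obtain ⟨⟨z, hz⟩, rfl⟩ := QuotientGroup.mk'_surjective _ u
  have hn : zpowers b ≤ normalizer (B₀ : Set G) := by
    rw [le_normalizer_iff]
    intro w hw v hv
    have e : v * w = w * v := congrArg Subtype.val
      (hAc.is_comm.comm ⟨v, hB (hle hv)⟩ ⟨w, hB ((zpowers_le.2 hb) hw)⟩)
    rwa [← e, mul_inv_cancel_right]
  obtain ⟨d, hd, e, he, hde⟩ := (mem_sup_iff hn).1 (hBb.ge hz)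
  obtain ⟨i, rfl⟩ := mem_zpowers_iff.1 he
  refine ⟨i, ?_⟩
  show QuotientGroup.mk' (B₀.subgroupOf B) ⟨b, hb⟩ ^ i = _
  rw [← map_zpow]
  refine QuotientGroup.eq.2 ?_
  show ((⟨b, hb⟩ : B) ^ i : B)⁻¹ * ⟨z, hz⟩ ∈ B₀.subgroupOf B
  rw [mem_subgroupOf, Subgroup.coe_mul, Subgroup.coe_inv, Subgroup.coe_zpow]
  have e : d * b ^ i = b ^ i * d := congrArg Subtype.val
    (hAc.is_comm.comm ⟨d, hB (hle hd)⟩ ⟨b ^ i, hB (Subgroup.zpow_mem _ hb i)⟩)
  show (b ^ i)⁻¹ * z ∈ B₀
  rw [← hde, e, inv_mul_cancel_left]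
  exact hd

end Cfsg.Agent.Components
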