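import Cfsg.Agent.Components.BenderUnique
import Cfsg.Agent.Cores.Residual

/-!
A large subnormal subgroup of `F*` controls the Fitting subgroups of its overgroups.
-/

namespace Cfsg.Agent.Components

set_option linter.style.haveILetI false
set_option linter.unusedSectionVars false

open Cfsg.Agent
open scoped commutatorElement IsMulCommutative

variable {G : Type*} [Group G] [Finite G] {S : Subgroup G}

theorem layer_le_of_large (hsn : (S.subgroupOf (Cfsg.generalizedFittingSubgroup G)).IsSubnormal)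
    (hS : S ≤ Cfsg.generalizedFittingSubgroup G)
    (hC : Cfsg.generalizedFittingSubgroup G ⊓ Subgroup.centralizer (S : Set G) ≤ S) :
    Cfsg.layer G ≤ S := by
  have hsn' : S.IsSubnormal :=
    Subgroup.IsSubnormal.trans hS hsn (Subgroup.Normal.isSubnormal inferInstance)
  refine layer_le_iff.mpr fun L hL => (component_le_or_commutator_eq_bot hL hsn').elim id fun h => ?_
  exact (le_inf ((component_le_layer hL).trans layer_le_genFitting)
    (Subgroup.commutator_eq_bot_iff_le_centralizer.mp h)).trans hC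

theorem pCore_le_centralizer_pCore {r s : ℕ} [Fact r.Prime] [Fact s.Prime] (h : s ≠ r) :
    Cfsg.pCore s G ≤ Subgroup.centralizer (Cfsg.pCore r G : Set G) := by
  intro y hy x hx
  refine (Cores.commute_pCore_pPrimeCore hx (Cores.le_pPrimeCore (N := Cfsg.pCore s G) ?_ hy)).eq
  obtain ⟨k, hk⟩ := IsPGroup.iff_card.mp (isPGroup_pCore s (G := G))
  rw [hk]
  exact ((Nat.coprime_primes Fact.out Fact.out).mpr h).pow_left k

/-- A `q`-subgroup normalized by a large subnormal subgroup of `F*(G)` centralizes `O_r(G)`,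
`r ≠ q`. -/
theorem centralizes_pCore_of_large
    (hsn : (S.subgroupOf (Cfsg.generalizedFittingSubgroup G)).IsSubnormal)
    (hS : S ≤ Cfsg.generalizedFittingSubgroup G)
    (hC : Cfsg.generalizedFittingSubgroup G ⊓ Subgroup.centralizer (S : Set G) ≤ S)
    {q r : ℕ} [Fact q.Prime] [Fact r.Prime] (hne : r ≠ q) {R : Subgroup G} (hR : IsPGroup q R)
    (hSR : S ≤ Subgroup.normalizer (R : Set G)) :
    ⁅Cfsg.pCore r G, R⁆ = ⊥ := by
  set U := Cfsg.pCore r G
  have hUp : IsPGroup r U := isPGroup_pCore r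
  haveI := hUp.isNilpotent
  have hcop : (Nat.card R).Coprime (Nat.card U) := by
    obtain ⟨a, ha⟩ := IsPGroup.iff_card.mp hR
    obtain ⟨b, hb⟩ := IsPGroup.iff_card.mp hUp
    rw [ha, hb]
    exact ((Nat.coprime_primes Fact.out Fact.out).mpr (Ne.symm hne)).pow _ _
  have hUq : (Nat.card U).Coprime q := by
    obtain ⟨b, hb⟩ := IsPGroup.iff_card.mp hUp
    rw [hb]
    exact ((Nat.coprime_primes Fact.out Fact.out).mpr hne).pow_left b
  set P0 := S ⊓ U
  have hP : ⁅P0, R⁆ = ⊥ := by
    rw [← le_bot_iff, ← Cores.disjoint_of_isPGroup_of_coprime hR hUq]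
    exact le_inf (Subgroup.le_normalizer_iff_commutator_le_right.mp (inf_le_left.trans hSR))
      ((Subgroup.commutator_mono inf_le_right le_rfl).trans (Subgroup.commutator_le_left _ _))
  have hCU : U ⊓ Subgroup.centralizer (P0 : Set G) ≤ P0 := by
    refine le_inf (le_trans (le_inf (inf_le_left.trans
      ((pCore_le_fitting r).trans fitting_le_genFitting)) ?_) hC) inf_le_left
    rw [Subgroup.le_centralizer_iff]
    intro s hs
    have hs' : s ∈ Cfsg.layer G ⊔ (S ⊓ Cfsg.fittingSubgroup G) := by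
      obtain ⟨e, he, f, hf, rfl⟩ := Subgroup.mem_sup_of_normal_left.mp
        (show s ∈ Cfsg.layer G ⊔ Cfsg.fittingSubgroup G from hS hs)
      refine Subgroup.mul_mem_sup he ⟨?_, hf⟩
      have := S.mul_mem (S.inv_mem (layer_le_of_large hsn hS hC he)) hs
      rwa [inv_mul_cancel_left] at this
    refine (sup_le ?_ ?_ : _ ≤ Subgroup.centralizer ((U ⊓ Subgroup.centralizer (P0 : Set G) :
      Subgroup G) : Set G)) hs'
    · refine le_trans ?_ (Subgroup.centralizer_le (inf_le_left.trans (pCore_le_fitting r)))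
      exact Subgroup.commutator_eq_bot_iff_le_centralizer.mp layer_commutator_fitting
    · refine Coprime.le_of_forall_sylow_le fun s hs P hPS hPs => ?_
      haveI := Fact.mk hs
      have hPO : P ≤ Cfsg.pCore s G := le_pCore_of_le_fitting hPs (hPS.trans inf_le_right)
      by_cases hsr : s = r
      · subst hsr
        refine le_trans (le_inf (hPS.trans inf_le_left) hPO : P ≤ P0) ?_
        exact Subgroup.le_centralizer_iff.mp inf_le_right
      · exact hPO.trans ((pCore_le_centralizer_pCore hsr).trans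
          (Subgroup.centralizer_le inf_le_left))
  refine centralizes_nilpotent_of_coprime hcop (inf_le_right : P0 ≤ U) (le_normalizer_of_normal _)
    hP ?_
  set V := U ⊓ Subgroup.normalizer (P0 : Set G)
  have hRV : R ≤ Subgroup.normalizer (V : Set G) := by
    refine (le_inf (le_normalizer_of_normal _) ?_).trans Subgroup.inf_normalizer_le_normalizer_inf
    exact (le_normalizer_of_commutator_eq_bot (by rwa [Subgroup.commutator_comm])).trans
      Subgroup.le_normalizer
  have h3 : ⁅⁅V, R⁆, P0⁆ = ⊥ := by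
    refine Subgroup.commutator_commutator_eq_bot_of_rotate ?_ ?_
    · rw [Subgroup.commutator_comm R P0, hP, Subgroup.commutator_bot_left]
    · refine le_bot_iff.mp ((Subgroup.commutator_mono ?_ le_rfl).trans hP.le)
      exact Subgroup.le_normalizer_iff_commutator_le_left.mp inf_le_right
  rw [Subgroup.commutator_comm, Subgroup.commutator_eq_bot_iff_le_centralizer]
  refine Coprime.le_centralizer_of_commutator_le_centralizer hRV
    (hcop.coprime_dvd_right (Subgroup.card_dvd_of_le inf_le_left)) ?_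
  refine le_trans (le_trans (le_inf ?_ ?_) hCU)
    (Subgroup.commutator_eq_bot_iff_le_centralizer.mp hP)
  · exact (Subgroup.commutator_mono inf_le_left le_rfl).trans (Subgroup.commutator_le_left _ _)
  · exact Subgroup.commutator_eq_bot_iff_le_centralizer.mp h3

theorem layer_sup_le_centralizer_of_large
    (hsn : (S.subgroupOf (Cfsg.generalizedFittingSubgroup G)).IsSubnormal)
    (hS : S ≤ Cfsg.generalizedFittingSubgroup G)
    (hC : Cfsg.generalizedFittingSubgroup G ⊓ Subgroup.centralizer (S : Set G) ≤ S)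
    {q : ℕ} [Fact q.Prime] {R : Subgroup G} (hR : IsPGroup q R)
    (hSR : S ≤ Subgroup.normalizer (R : Set G)) :
    Cfsg.layer G ⊔ ⨆ r : {r : (Nat.card G).primeFactors // (r : ℕ) ≠ q}, Cfsg.pCore (r : ℕ) G ≤
      Subgroup.centralizer (R : Set G) := by
  haveI := hR.isNilpotent
  refine sup_le (Subgroup.commutator_eq_bot_iff_le_centralizer.mp
    (layer_commutator_solvable inferInstance ((layer_le_of_large hsn hS hC).trans hSR)))
    (iSup_le fun r => ?_)
  haveI := Fact.mk (Nat.prime_of_mem_primeFactors r.1.2)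
  exact Subgroup.commutator_eq_bot_iff_le_centralizer.mp
    (centralizes_pCore_of_large hsn hS hC r.2 hR hSR)

/-- `O^p(F*(G)) ≤ E(G) O_{p'}(F(G))`. -/
theorem pResidual_genFitting_le (p : ℕ) [Fact p.Prime] :
    (Cfsg.pResidual p (Cfsg.generalizedFittingSubgroup G)).map
        (Cfsg.generalizedFittingSubgroup G).subtype ≤
      Cfsg.layer G ⊔ ⨆ r : {r : (Nat.card G).primeFactors // (r : ℕ) ≠ p}, Cfsg.pCore (r : ℕ) G := by
  set T := ⨆ r : {r : (Nat.card G).primeFactors // (r : ℕ) ≠ p}, Cfsg.pCore (r : ℕ) G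
  haveI : T.Normal := by
    refine ⟨fun x hx g => ?_⟩
    have h : T.map (MulAut.conj g).toMonoidHom ≤ T := by
      rw [Subgroup.map_iSup]
      exact iSup_mono fun r => (Cores.pCore_map_mulEquiv (MulAut.conj g)).le
    exact h ⟨x, hx, rfl⟩
  haveI : (Cfsg.layer G ⊔ T).Normal := Subgroup.sup_normal _ _
  have hle : Cfsg.generalizedFittingSubgroup G ≤ (Cfsg.layer G ⊔ T) ⊔ Cfsg.pCore p G := by
    refine sup_le (le_sup_of_le_left le_sup_left) ?_
    rw [fitting_eq_iSup_pCore]
    refine iSup_le fun r => ?_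
    by_cases h : (r : ℕ) = p
    · exact h ▸ le_sup_right
    · exact le_sup_of_le_left (le_sup_of_le_right (le_iSup
        (fun r : {r : (Nat.card G).primeFactors // (r : ℕ) ≠ p} => Cfsg.pCore (r : ℕ) G) ⟨r, h⟩))
  rw [Subgroup.map_le_iff_le_comap]
  refine Cores.pResidual_le fun g hg => ?_
  obtain ⟨w, hw, a, ha, hwa⟩ := Subgroup.mem_sup_of_normal_left.mp (hle g.2)
  set f := QuotientGroup.mk' (Cfsg.layer G ⊔ T)
  have hfa : f a = f (g : G) := by
    rw [← hwa, map_mul, (QuotientGroup.eq_one_iff w).mpr hw |> (fun e => (e : f w = 1)), one_mul]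
  obtain ⟨k, hk⟩ := isPGroup_pCore p (G := G) ⟨a, ha⟩
  have h1 : orderOf (f (g : G)) ∣ p ^ k :=
    hfa ▸ (orderOf_map_dvd f a).trans
      (orderOf_dvd_of_pow_eq_one (congrArg Subtype.val hk : a ^ p ^ k = 1))
  have h2 : orderOf (f (g : G)) = 1 := by
    refine Nat.eq_one_of_dvd_coprimes ?_ (orderOf_map_dvd f (g : G)) h1
    rw [Subgroup.orderOf_coe]
    exact hg.pow_right k
  exact (QuotientGroup.eq_one_iff (g : G)).mp (orderOf_eq_one_iff.mp h2 : f (g : G) = 1)

end Cfsg.Agent.Components
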