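import Mathlib
import Cfsg.Prelude.Def_LocalStructure
import Cfsg.Prelude.Def_LocalEven
import Cfsg.Agent.Components.PLocal
import Cfsg.Agent.PGroups.Basic

/-!
Local and parabolic characteristic `p` from centralizers of elements of order `p`.
-/

namespace Cfsg.Agent.Components

set_option linter.style.haveILetI false
set_option linter.unusedSectionVars false

open Cfsg.Agent

variable {G : Type*} [Group G] [Finite G] {p : ℕ} [hp : Fact p.Prime]

theorem centralizer_map_conj (t g : G) :
    (Subgroup.centralizer ({t} : Set G)).map (MulAut.conj g).toMonoidHom =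
      Subgroup.centralizer ({g * t * g⁻¹} : Set G) := by
  ext x
  simp only [Subgroup.mem_map, Subgroup.mem_centralizer_singleton_iff, MulEquiv.coe_toMonoidHom,
    MulAut.conj_apply]
  constructor
  · rintro ⟨y, hy, rfl⟩
    simp only [mul_assoc, inv_mul_cancel_left]
    rw [← mul_assoc y, hy, mul_assoc]
  · intro hx
    refine ⟨g⁻¹ * x * g, ?_, by group⟩
    have := congrArg (fun u => g⁻¹ * u * g) hx
    simpa [mul_assoc] using this

theorem genFitting_centralizer_conj (t g : G) :
    (Cfsg.generalizedFittingSubgroup (Subgroup.centralizer ({t} : Set G)) =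
        Cfsg.pCore p (Subgroup.centralizer ({t} : Set G))) ↔
      (Cfsg.generalizedFittingSubgroup (Subgroup.centralizer ({g * t * g⁻¹} : Set G)) =
        Cfsg.pCore p (Subgroup.centralizer ({g * t * g⁻¹} : Set G))) :=
  genFitting_eq_pCore_congr (((Subgroup.centralizer ({t} : Set G)).equivMapOfInjective
    (MulAut.conj g).toMonoidHom (MulAut.conj g).injective).trans
      (MulEquiv.subgroupCongr (centralizer_map_conj t g)))

theorem centralizer_normal_in_normalizer_zpowers (z : G) :
    ((Subgroup.centralizer ({z} : Set G)).subgroupOf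
      (Subgroup.normalizer (Subgroup.zpowers z : Set G))).Normal := by
  rw [← Subgroup.centralizer_closure, ← Subgroup.zpowers_eq_closure]
  refine (Subgroup.normal_subgroupOf_iff_le_normalizer (Subgroup.centralizer_le_normalizer _)).mpr
    fun n hn => ?_
  refine Subgroup.mem_normalizer_iff.mpr fun x => ?_
  simp only [Subgroup.mem_centralizer_iff, SetLike.mem_coe]
  constructor
  · intro hx w hw
    have hw' := (Subgroup.mem_normalizer_iff.mp hn (n⁻¹ * w * n)).mpr
      (by simpa [mul_assoc] using hw)
    have h3 := congrArg (fun u => n * u * n⁻¹) (hx _ hw')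
    simpa [mul_assoc] using h3
  · intro hx w hw
    have h3 := congrArg (fun u => n⁻¹ * u * n)
      (hx _ ((Subgroup.mem_normalizer_iff.mp hn w).mp hw))
    simpa [mul_assoc] using h3

theorem omegaOne_le (H : Subgroup G) : Cfsg.omegaOne p H ≤ H :=
  (Subgroup.closure_le H).mpr fun _ hx => hx.1

/-- Parabolic characteristic `p` is read on `Ω₁(Z(S))`. -/
theorem isOfParabolicCharacteristic_iff (S : Sylow p G) :
    Cfsg.IsOfParabolicCharacteristic p G ↔ ∀ z : G, z ≠ 1 →
      z ∈ Cfsg.omegaOne p ((S : Subgroup G) ⊓ Subgroup.centralizer ((S : Subgroup G) : Set G)) →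
      Cfsg.generalizedFittingSubgroup (Subgroup.centralizer ({z} : Set G)) =
        Cfsg.pCore p (Subgroup.centralizer ({z} : Set G)) := by
  constructor
  · intro h z hz1 hz
    have hzS := omegaOne_le _ hz
    set C := Subgroup.centralizer ({z} : Set G)
    set N := Subgroup.normalizer (Subgroup.zpowers z : Set G)
    have hSC : (S : Subgroup G) ≤ C := fun x hx =>
      Subgroup.mem_centralizer_singleton_iff.mpr (Subgroup.mem_centralizer_iff.mp hzS.2 x hx)
    have hCN : C ≤ N := by
      rw [show C = Subgroup.centralizer (Subgroup.zpowers z : Set G) by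
        rw [Subgroup.zpowers_eq_closure, Subgroup.centralizer_closure]]
      exact Subgroup.centralizer_le_normalizer _
    have hF := h (Subgroup.zpowers z) (S.isPGroup'.to_le (Subgroup.zpowers_le.mpr hzS.1))
      (fun hb => hz1 (Subgroup.zpowers_eq_bot.mp hb)) ⟨S, hSC.trans hCN⟩
    rw [← genFitting_eq_pCore_iff] at hF
    exact (genFitting_eq_pCore_congr (Subgroup.subgroupOfEquivOfLe hCN)).mp
      (genFitting_eq_pCore_of_isSubnormal
        (centralizer_normal_in_normalizer_zpowers z).isSubnormal hF)
  · intro h R hR hR1 ⟨T, hTN⟩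
    refine genFitting_eq_pCore_iff.mp ?_
    have hRT : R ≤ (T : Subgroup G) :=
      le_sup_left.trans
        (T.is_maximal' (hR.to_sup_of_normal_left' T.isPGroup' hTN) le_sup_right).le
    haveI : (R.subgroupOf (T : Subgroup G)).Normal :=
      (Subgroup.normal_subgroupOf_iff_le_normalizer hRT).mpr hTN
    have hne : R.subgroupOf (T : Subgroup G) ≠ ⊥ := fun hb => by
      rw [Subgroup.subgroupOf_eq_bot, disjoint_iff, inf_eq_left.mpr hRT] at hb
      exact hR1 hb
    have hI := PGroups.inf_center_ne_bot T.isPGroup' _ hne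
    obtain ⟨u, hu⟩ := exists_prime_orderOf_dvd_card' p
      (PGroups.dvd_card_of_ne_bot T.isPGroup' hI)
    rw [← Subgroup.orderOf_coe, ← Subgroup.orderOf_coe] at hu
    obtain ⟨⟨t, htT⟩, htR, htc⟩ := u
    have ht : orderOf t = p := hu
    obtain ⟨g, hg⟩ := MulAction.exists_smul_eq G T S
    have hS : (S : Subgroup G) = (T : Subgroup G).map (MulAut.conj g).toMonoidHom := by
      rw [← hg]; rfl
    have hmem : g * t * g⁻¹ ∈ (S : Subgroup G) := hS ▸ ⟨t, htT, rfl⟩
    have htC : ∀ x ∈ (T : Subgroup G), x * t = t * x := fun x hx =>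
      congrArg Subtype.val (Subgroup.mem_center_iff.mp htc ⟨x, hx⟩)
    have hz := h (g * t * g⁻¹) (fun h1 => hp.out.ne_one (by
      rw [← ht, conj_eq_one_iff.mp h1, orderOf_one])) (Subgroup.subset_closure
        ⟨⟨hmem, Subgroup.mem_centralizer_iff.mpr fun y hy => by
          rw [hS] at hy
          obtain ⟨x, hx, rfl⟩ := hy
          have h2 := congrArg (MulAut.conj g) (htC x hx)
          simp only [map_mul] at h2
          exact h2⟩, by rw [conj_pow, ← ht, pow_orderOf_eq_one]; group⟩)
    exact genFitting_normalizer_of_central hR htR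
      (fun x hx => Subgroup.mem_centralizer_singleton_iff.mpr (htC x (hRT hx)))
      ((genFitting_centralizer_conj t g).mpr hz)

/-- Local characteristic `p` from the centralizers of elements of order `p` of one Sylow. -/
theorem isOfLocalCharacteristic_of_sylow (hdiv : p ∣ Nat.card G) (S : Sylow p G)
    (h : ∀ z : G, z ∈ (S : Subgroup G) → orderOf z = p →
      Cfsg.generalizedFittingSubgroup (Subgroup.centralizer ({z} : Set G)) =
        Cfsg.pCore p (Subgroup.centralizer ({z} : Set G))) :
    Cfsg.IsOfLocalCharacteristic p G := by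
  refine ⟨hdiv, fun T hT hT1 => genFitting_eq_pCore_iff.mp ?_⟩
  refine genFitting_normalizer_of_centralizers (fun t hto => ?_) hT hT1
  obtain ⟨P, hP⟩ := (IsPGroup.of_card (n := 1) (by rw [Nat.card_zpowers, hto, pow_one]) :
    IsPGroup p (Subgroup.zpowers t)).exists_le_sylow
  obtain ⟨g, hg⟩ := MulAction.exists_smul_eq G P S
  refine (genFitting_centralizer_conj t g).mpr (h _ ?_ ?_)
  · rw [← hg]
    exact ⟨t, hP (Subgroup.mem_zpowers t), rfl⟩
  · rw [← hto]
    exact (MulAut.conj g).orderOf_eq t

end Cfsg.Agent.Components
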