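import Mathlib
import Cfsg.Agent.Components.Layer

/-!
Primitive subgroups: a proper subgroup `M` equal to the normalizer of each of its nontrivial
normal subgroups contains no nontrivial subnormal subgroup.
-/

namespace Cfsg.Agent.Components

set_option linter.style.haveILetI false
set_option linter.unusedSectionVars false

variable {G : Type*} [Group G] [Finite G]

/-- `M ⊓ Q = ⊥` for a primitive `M` and a normal nilpotent `Q`. -/
theorem primitive_inf_nilpotent {M : Subgroup G} (hM : M ≠ ⊤)
    (hprim : ∀ N : Subgroup G, N ≤ M → M ≤ Subgroup.normalizer (N : Set G) → N ≠ ⊥ →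
      Subgroup.normalizer (N : Set G) = M)
    (Q : Subgroup G) [Q.Normal] [Group.IsNilpotent Q] : M ⊓ Q = ⊥ := by
  by_contra h
  have h1 := hprim (M ⊓ Q) inf_le_left
    ((le_inf Subgroup.le_normalizer (le_normalizer_of_normal _)).trans
      Subgroup.inf_normalizer_le_normalizer_inf) h
  have hQM : Q ≤ M := by
    by_contra hQ
    have hne : (M ⊓ Q).subgroupOf Q < ⊤ := lt_top_iff_ne_top.mpr fun ht =>
      hQ ((Subgroup.subgroupOf_eq_top.mp ht).trans inf_le_left)
    have h2 := Group.normalizerCondition_of_isNilpotent _ hne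
    rw [← Subgroup.subgroupOf_normalizer_eq inf_le_right, h1] at h2
    exact h2.not_ge fun x hx => Subgroup.mem_subgroupOf.mpr ⟨hx, x.2⟩
  have h2 := hprim Q hQM (le_normalizer_of_normal _) fun hb => h (by rw [hb, inf_bot_eq])
  exact hM (h2.symm.trans (Subgroup.normalizer_eq_top _))

/-- A primitive subgroup contains no component. -/
theorem primitive_no_component {M : Subgroup G} (hM : M ≠ ⊤)
    (hprim : ∀ N : Subgroup G, N ≤ M → M ≤ Subgroup.normalizer (N : Set G) → N ≠ ⊥ →
      Subgroup.normalizer (N : Set G) = M)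
    {L : Subgroup G} (hL : Cfsg.IsComponent L) : ¬ L ≤ M := by
  intro hle
  set A := sSup {K : Subgroup G | Cfsg.IsComponent K ∧ K ≤ M} with hA
  have hAM : A ≤ M := sSup_le fun K hK => hK.2
  have hLA : L ≤ A := le_sSup ⟨hL, hle⟩
  have hn : M ≤ Subgroup.normalizer (A : Set G) := by
    intro m hm
    refine Subgroup.mem_normalizer_iff.mpr fun a => ?_
    have key : ∀ g ∈ M, ∀ a ∈ A, g * a * g⁻¹ ∈ A := by
      intro g hg a ha
      have : A ≤ A.comap (MulAut.conj g).toMonoidHom := by
        refine sSup_le fun K hK => Subgroup.map_le_iff_le_comap.mp ?_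
        refine le_sSup ⟨component_conj hK.1 g, ?_⟩
        rintro _ ⟨k, hk, rfl⟩
        exact M.mul_mem (M.mul_mem hg (hK.2 hk)) (M.inv_mem hg)
      exact this ha
    exact ⟨key m hm a, fun h => by simpa [mul_assoc] using key m⁻¹ (M.inv_mem hm) _ h⟩
  have hNA := hprim A hAM hn fun hb => qsSub_ne_bot hL.2 (le_bot_iff.mp (hb ▸ hLA))
  have hEn : Cfsg.layer G ≤ Subgroup.normalizer (A : Set G) := by
    intro e he
    refine Subgroup.mem_normalizer_iff.mpr fun a => ?_
    have key : ∀ g ∈ Cfsg.layer G, ∀ a ∈ A, g * a * g⁻¹ ∈ A := by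
      intro g hg a ha
      have : A ≤ A.comap (MulAut.conj g).toMonoidHom := by
        refine sSup_le fun K hK k hk => ?_
        exact le_sSup (α := Subgroup G)
          (show K ∈ {K : Subgroup G | Cfsg.IsComponent K ∧ K ≤ M} from hK)
          ((Subgroup.mem_normalizer_iff.mp (layer_le_normalizer_component hK.1 hg) k).mp hk)
      exact this ha
    exact ⟨key e he a, fun h => by simpa [mul_assoc] using key e⁻¹ (Subgroup.inv_mem _ he) _ h⟩
  have hE := hprim (Cfsg.layer G) (hEn.trans hNA.le) (le_normalizer_of_normal _)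
    fun hb => qsSub_ne_bot hL.2 (le_bot_iff.mp (hb ▸ component_le_layer hL))
  exact hM (hE.symm.trans (Subgroup.normalizer_eq_top _))

/-- A primitive subgroup contains no nontrivial subnormal subgroup. -/
theorem primitive_no_subnormal {M : Subgroup G} (hM : M ≠ ⊤)
    (hprim : ∀ N : Subgroup G, N ≤ M → M ≤ Subgroup.normalizer (N : Set G) → N ≠ ⊥ →
      Subgroup.normalizer (N : Set G) = M)
    {L : Subgroup G} (hL : L.IsSubnormal) (hle : L ≤ M) : L = ⊥ := by
  by_contra hne
  obtain ⟨A, hAL, hAs, hA1, hA⟩ := exists_nilpotent_or_qs hL (Z := ⊥)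
    (by rw [inf_bot_eq, Subgroup.commutator_bot_right]) (fun h => hne (le_bot_iff.mp h))
  rcases hA with hA | hA
  · apply hA1
    rw [← primitive_inf_nilpotent hM hprim (Cfsg.fittingSubgroup G)]
    exact le_inf (hAL.trans hle) (subnormal_nilpotent_le_fitting hAs hA)
  · exact primitive_no_component hM hprim ⟨hAs, hA⟩ (hAL.trans hle)

end Cfsg.Agent.Components
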