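import Cfsg.Agent.Cores.Fitting
import Cfsg.Agent.Cores.PCore
import Cfsg.Agent.Hall.Existence
import Cfsg.Agent.Thompson.PStable
import Cfsg.Agent.Thompson.ActionStable
import Cfsg.Agent.Coprime.Action
import Cfsg.Agent.Coprime.Basic
import Cfsg.Agent.Components.Fitting

/-!
An element of prime power order which centralizes an abelian subgroup `A`, normalized by the
Fitting subgroup and self-centralizing there, lies in the Fitting subgroup (solvable group,
prime at least 5).
-/

set_option autoImplicit false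

namespace Cfsg.Agent.Components

open Subgroup

variable {S : Type*} [Group S] [Finite S]

set_option maxHeartbeats 1000000 in
theorem mem_fitting_of_centralizes [Group.IsSolvable S] {p : ℕ} [hp : Fact p.Prime] (h5 : 5 ≤ p)
    (hst : Thompson.StableOnNormal p S)
    (A : Subgroup S) (hFA : Cfsg.fittingSubgroup S ≤ normalizer (A : Set S))
    (hCA : Cfsg.fittingSubgroup S ⊓ centralizer (A : Set S) ≤ A) {y : S}
    (hy : y ∈ centralizer (A : Set S)) {k : ℕ} (hk : y ^ p ^ k = 1) :
    y ∈ Cfsg.fittingSubgroup S := by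
  set F := Cfsg.fittingSubgroup S with hF
  set Y := zpowers y with hY
  have hYA : Y ≤ centralizer (A : Set S) := zpowers_le.2 hy
  have hAY : ⁅A, Y⁆ = ⊥ := commutator_eq_bot_iff_le_centralizer.2 (le_centralizer_iff.1 hYA)
  -- `Y` acts quadratically on every `q`-core
  have hRF : ∀ q : ℕ, q.Prime → Cfsg.pCore q S ≤ F := fun q hq =>
    haveI := Fact.mk hq; pCore_le_fitting q
  have hq2 : ∀ q : ℕ, q.Prime → ⁅⁅Cfsg.pCore q S, Y⁆, Y⁆ = ⊥ := by
    intro q hq
    refine eq_bot_iff.2 (le_trans (commutator_mono ?_ le_rfl) hAY.le)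
    rw [commutator_le]
    intro r hr z hz
    have hN : (Cfsg.pCore q S).Normal := inferInstance
    refine hCA ⟨hRF q hq ?_, ?_⟩
    · have := Subgroup.mul_mem _ hr (hN.conj_mem _ (Subgroup.inv_mem _ hr) z)
      simpa [commutatorElement_def, mul_assoc] using this
    · have hz' : z ∈ centralizer (A : Set S) := hYA hz
      refine Subgroup.mul_mem _ (mem_centralizer_iff.2 fun a ha => ?_) (Subgroup.inv_mem _ hz')
      have hn := hFA (hRF q hq hr)
      have h1 := mem_centralizer_iff.1 hz' _ (Coprime.conj_mem' hn ha)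
      calc a * (r * z * r⁻¹) = r * ((r⁻¹ * a * r) * z) * r⁻¹ := by group
        _ = r * (z * (r⁻¹ * a * r)) * r⁻¹ := by rw [h1]
        _ = r * z * r⁻¹ * a := by group
  -- for `q ≠ p` it centralizes
  have hYp : IsPGroup p Y := IsPGroup.of_card (n := (Nat.dvd_prime_pow hp.out).1
    (show Nat.card Y ∣ p ^ k by rw [hY, Nat.card_zpowers]; exact orderOf_dvd_of_pow_eq_one hk)
      |>.choose) ((Nat.dvd_prime_pow hp.out).1
    (show Nat.card Y ∣ p ^ k by rw [hY, Nat.card_zpowers]; exact orderOf_dvd_of_pow_eq_one hk)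
      |>.choose_spec.2)
  have hcq : ∀ q : ℕ, q.Prime → q ≠ p → y ∈ centralizer (Cfsg.pCore q S : Set S) := by
    intro q hq hqp
    have := Fact.mk hq
    have hRn : Y ≤ normalizer (Cfsg.pCore q S : Set S) := by rw [normalizer_eq_top]; exact le_top
    have hcop : (Nat.card Y).Coprime (Nat.card (Cfsg.pCore q S)) := by
      obtain ⟨i, hi⟩ := IsPGroup.iff_card.1 hYp
      obtain ⟨j, hj⟩ := IsPGroup.iff_card.1 (Cores.pCore_isPGroup (p := q) (G := S))
      rw [hi, hj]
      exact Nat.coprime_pow_primes _ _ hp.out hq hqp.symm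
    have h := Coprime.commutator_commutator_eq hRn hcop (Or.inr inferInstance)
    rw [hq2 q hq] at h
    exact (le_centralizer_iff.1 (commutator_eq_bot_iff_le_centralizer.1 h.symm)) (mem_zpowers y)
  -- the subgroup `D`
  set R := Cfsg.pCore p S with hR
  let D : Subgroup S := Thompson.stabPre p R ⊓
    ⨅ q : {q : ℕ // q.Prime ∧ q ≠ p}, centralizer (Cfsg.pCore q.1 S : Set S)
  have hyD : y ∈ D := ⟨Thompson.le_stabPre hst Cores.pCore_isPGroup (hq2 p hp.out) (mem_zpowers y),
    mem_iInf.2 fun q => hcq q.1 q.2.1 q.2.2⟩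
  have hDn : D.Normal :=
    have : (⨅ q : {q : ℕ // q.Prime ∧ q ≠ p}, centralizer (Cfsg.pCore q.1 S : Set S)).Normal :=
      normal_iInf_normal fun q => inferInstance
    inferInstanceAs (Thompson.stabPre p R ⊓ _ : Subgroup S).Normal
  set N := ⨆ q : {q : ℕ // q.Prime ∧ q ≠ p}, Cfsg.pCore q.1 S with hN
  have hFN : F ≤ R ⊔ N := by
    rw [hF, fitting_eq_iSup_pCore]
    refine iSup_le fun q => ?_
    rcases eq_or_ne (q : ℕ) p with h | h
    · exact le_sup_of_le_left (le_of_eq (by rw [hR, ← h]))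
    · exact le_sup_of_le_right (le_iSup_of_le ⟨q, (Nat.mem_primeFactors.1 q.2).1, h⟩ le_rfl)
  have hNn : N.Normal := Subgroup.iSup_normal (fun q : {q : ℕ // q.Prime ∧ q ≠ p} => Cfsg.pCore q.1 S)
  have key : ∀ d ∈ D, ∃ j, d ^ p ^ j ∈ N := by
    intro d hd
    obtain ⟨i, hi⟩ := Cores.pCore_isPGroup (p := p) (G := S ⧸ centralizer (R : Set S)) ⟨_, hd.1⟩
    have hdR : d ^ p ^ i ∈ centralizer (R : Set S) :=
      (QuotientGroup.eq_one_iff _).1 (congrArg Subtype.val hi)
    have hdF : d ^ p ^ i ∈ F := by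
      refine Cores.centralizer_fittingSubgroup_le ?_
      refine (le_centralizer_iff.1 ?_ : centralizer (R : Set S) ⊓ D ≤ centralizer (F : Set S))
        ⟨hdR, pow_mem hd _⟩
      refine hFN.trans (sup_le ?_ (iSup_le fun q => ?_))
      · exact le_centralizer_iff.1 inf_le_left
      · exact le_centralizer_iff.1 (inf_le_right.trans (inf_le_right.trans (iInf_le _ q)))
    obtain ⟨n, hn, r, hr, he⟩ := (Coprime.mem_sup_iff (by rw [normalizer_eq_top]; exact le_top :
      R ≤ normalizer (N : Set S))).1 (sup_comm R N ▸ hFN hdF)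
    obtain ⟨j, hj⟩ := Cores.pCore_isPGroup (p := p) (G := S) ⟨r, hr⟩
    refine ⟨i + j, ?_⟩
    rw [pow_add, pow_mul, ← he, ← QuotientGroup.eq_one_iff]
    rw [QuotientGroup.mk_pow, QuotientGroup.mk_mul, (QuotientGroup.eq_one_iff n).2 hn, one_mul, ← QuotientGroup.mk_pow,
      show r ^ p ^ j = 1 from congrArg Subtype.val hj, QuotientGroup.mk_one]
  have hnil : Group.IsNilpotent D := by
    have hDN : D ≤ centralizer (N : Set S) := by
      rw [le_centralizer_iff]
      exact iSup_le fun q => le_centralizer_iff.1 (inf_le_right.trans (iInf_le _ q))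
    have hq : IsPGroup p (D ⧸ center D) := by
      intro x
      obtain ⟨d, rfl⟩ := QuotientGroup.mk'_surjective _ x
      obtain ⟨j, hj⟩ := key d d.2
      refine ⟨j, ?_⟩
      rw [← map_pow, QuotientGroup.mk'_apply, QuotientGroup.eq_one_iff, mem_center_iff]
      exact fun g => Subtype.ext ((mem_centralizer_iff.1 (hDN g.2) _ hj).symm)
    have := hq.isNilpotent
    exact of_quotient_center_nilpotent this
  exact normal_nilpotent_le_fitting hDn hnil hyD

end Cfsg.Agent.Components
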