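import Cfsg.Agent.H44.FischerDx
import Cfsg.Agent.H61.ZStarCor
import Cfsg.Agent.Components.Fitting
import Cfsg.Agent.Cores.PCore
import Cfsg.Agent.S5345
import Cfsg.Prelude.Def_FischerSpaces

/-!
Classes of 3-transpositions and the normal 2- and 3-subgroups: twins are translates under the
2-core, members with equal neighbourhoods are translates under the 3-core.
-/

set_option autoImplicit false

namespace Cfsg.Agent.Components

universe u

open Cfsg.Agent.H44

variable {G : Type u} [Group G] {D : Set G}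

/-- The members of `D` other than `d` that commute with `d`. -/
def ttNb (D : Set G) (d : G) : Set G := {y : G | y ∈ D ∧ y ≠ d ∧ Commute d y}

theorem eq_one_of_two_three {x : G} (h2 : x ^ 2 = 1) (h3 : x ^ 3 = 1) : x = 1 := by
  rwa [pow_succ, h2, one_mul] at h3

theorem eq_one_of_coprime_pow {p : ℕ} {n : ℕ} (hn : Nat.Coprime p n) {N : Subgroup G}
    (hN : IsPGroup p N) {x : G} (hx : x ∈ N) (h : x ^ n = 1) : x = 1 := by
  obtain ⟨k, hk⟩ := hN ⟨x, hx⟩
  have hk' : x ^ p ^ k = 1 := by simpa using congrArg Subtype.val hk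
  exact orderOf_eq_one_iff.1 (Nat.eq_one_of_dvd_coprimes (Nat.Coprime.pow_left k hn)
    (orderOf_dvd_of_pow_eq_one hk') (orderOf_dvd_of_pow_eq_one h))

theorem mul_mem_coset_iff (hD : IsThreeTranspositionSet D) {d v : G} (hd : d ∈ D)
    (N : Subgroup G) : d⁻¹ * v ∈ N ↔ d * v ∈ N := by
  rw [tt_inv hD hd]

theorem sq_eq_one_of_commute (hD : IsThreeTranspositionSet D) {a b : G} (ha : a ∈ D) (hb : b ∈ D)
    (h : Commute a b) : (a * b) ^ 2 = 1 := by
  rw [h.mul_pow, pow_two, pow_two, tt_mul_self hD ha, tt_mul_self hD hb, one_mul]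

theorem commute_of_sq_eq_one (hD : IsThreeTranspositionSet D) {a b : G} (ha : a ∈ D) (hb : b ∈ D)
    (h : (a * b) ^ 2 = 1) : Commute a b := by
  by_contra hc
  have h1 := eq_one_of_two_three h (tt_cube hD ha hb hc)
  exact hc (by rw [eq_inv_of_mul_eq_one_left h1, tt_inv hD hb])

theorem exists_noncommute (hD : IsThreeTranspositionClass D)
    (hD2 : ∃ a ∈ D, ∃ b ∈ D, a ≠ b) {d : G} (hd : d ∈ D) : ∃ e ∈ D, ¬ Commute d e := by
  obtain ⟨a, ha, b, hb, hab⟩ := hD2
  obtain ⟨y, hy, hyd⟩ : ∃ y ∈ D, y ≠ d := by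
    by_cases h : a = d
    · exact ⟨b, hb, fun e => hab (h.trans e.symm)⟩
    · exact ⟨a, ha, h⟩
  rcases (tt_noncommute_connected hD hd hy).cases_head with e | ⟨q, ⟨-, hq, hc⟩, -⟩
  · exact absurd e.symm hyd
  · exact ⟨q, hq, hc⟩

theorem tt_group_of_class (hD : IsThreeTranspositionClass D) : IsThreeTranspositionGroup D :=
  ⟨hD.1, fun g _ hd => tt_invariant hD g hd, hD.2.2⟩

theorem commute_of_pCore_two (hD : IsThreeTranspositionSet D) {d v : G} (hd : d ∈ D) (hv : v ∈ D)
    (h : d * v ∈ Cfsg.pCore 2 G) : Commute d v := by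
  by_contra hc
  have h1 := eq_one_of_coprime_pow (by norm_num) Cores.pCore_isPGroup h (tt_cube hD hd hv hc)
  exact hc (by rw [eq_inv_of_mul_eq_one_left h1, tt_inv hD hv])

theorem noncommute_of_pCore_three (hD : IsThreeTranspositionSet D) {d v : G} (hd : d ∈ D)
    (hv : v ∈ D) (hne : v ≠ d) (h : d * v ∈ Cfsg.pCore 3 G) : ¬ Commute d v := by
  intro hc
  have h1 := eq_one_of_coprime_pow (by norm_num) Cores.pCore_isPGroup h
    (sq_eq_one_of_commute hD hd hv hc)
  exact hne (by rw [eq_inv_of_mul_eq_one_right h1, tt_inv hD hd])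

/-- If `e` commutes with `d` and not with `v`, and `dv` lies in the normal subgroup `N`, then
`ed` lies in `N`. -/
theorem mul_mem_of_commute_noncommute (hD : IsThreeTranspositionSet D) {N : Subgroup G}
    [N.Normal] {d v e : G} (hd : d ∈ D) (hv : v ∈ D) (he : e ∈ D) (h : d * v ∈ N)
    (hed : Commute e d) (hev : ¬ Commute e v) : e * d ∈ N := by
  let π := QuotientGroup.mk' N
  have hmk : π d * π v = 1 := by
    rw [← map_mul]; exact (QuotientGroup.eq_one_iff _).2 h
  have hdd : π d * π d = 1 := by rw [← map_mul, tt_mul_self hD hd, map_one]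
  have hvd : π v = π d := mul_left_cancel (hmk.trans hdd.symm)
  have h2 : π (e * d) ^ 2 = 1 := by rw [← map_pow, sq_eq_one_of_commute hD he hd hed, map_one]
  have h3 : π (e * d) ^ 3 = 1 := by
    rw [map_mul, ← hvd, ← map_mul, ← map_pow, tt_cube hD he hv hev, map_one]
  exact (QuotientGroup.eq_one_iff _).1 (eq_one_of_two_three h2 h3)

theorem twin_of_pCore_two (hD : IsThreeTranspositionSet D) {d v : G} (hd : d ∈ D) (hv : v ∈ D)
    (h : d * v ∈ Cfsg.pCore 2 G) : ∀ e ∈ D, Commute v e ↔ Commute d e := by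
  have key : ∀ {a b : G}, a ∈ D → b ∈ D → a * b ∈ Cfsg.pCore 2 G → ∀ e ∈ D, Commute a e →
      Commute b e := by
    intro a b ha hb hab e he hae
    by_contra hbe
    have h1 : e * a ∈ Cfsg.pCore 2 G :=
      mul_mem_of_commute_noncommute hD ha hb he hab hae.symm fun q => hbe q.symm
    have h2 : e * b ∈ Cfsg.pCore 2 G := by
      have := mul_mem h1 hab
      rwa [← mul_assoc, mul_assoc e a a, tt_mul_self hD ha, mul_one] at this
    exact hbe (commute_of_pCore_two hD he hb h2).symm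
  intro e he
  refine ⟨key hv hd ?_ e he, key hd hv h e he⟩
  have := inv_mem h
  rwa [mul_inv_rev, tt_inv hD hd, tt_inv hD hv] at this

theorem ttNb_eq_of_pCore_three (hD : IsThreeTranspositionSet D) {d v : G} (hd : d ∈ D)
    (hv : v ∈ D) (h : d * v ∈ Cfsg.pCore 3 G) : ttNb D d = ttNb D v := by
  have key : ∀ {a b : G}, a ∈ D → b ∈ D → a * b ∈ Cfsg.pCore 3 G → ∀ e, e ∈ ttNb D a →
      e ∈ ttNb D b := by
    intro a b ha hb hab e he
    obtain ⟨heD, hea, hae⟩ := he
    by_cases hba : b = a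
    · subst hba; exact ⟨heD, hea, hae⟩
    have heb : e ≠ b := by
      rintro rfl
      exact noncommute_of_pCore_three hD ha hb hba hab hae
    refine ⟨heD, heb, ?_⟩
    by_contra hbe
    have h1 : e * a ∈ Cfsg.pCore 3 G :=
      mul_mem_of_commute_noncommute hD ha hb heD hab hae.symm fun q => hbe q.symm
    exact noncommute_of_pCore_three hD heD ha (fun q => hea q.symm) h1 hae.symm
  have h' : v * d ∈ Cfsg.pCore 3 G := by
    have := inv_mem h
    rwa [mul_inv_rev, tt_inv hD hd, tt_inv hD hv] at this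
  exact Set.ext fun e => ⟨key hd hv h e, key hv hd h' e⟩

/-- Twins in one coset are conjugate under the 2-core. -/
theorem exists_conj_of_pCore_two (hD : IsThreeTranspositionClass D)
    (hD2 : ∃ a ∈ D, ∃ b ∈ D, a ≠ b) {d v : G} (hd : d ∈ D) (hv : v ∈ D)
    (h : d * v ∈ Cfsg.pCore 2 G) : ∃ g ∈ Cfsg.pCore 2 G, v = g * d * g⁻¹ := by
  obtain ⟨e, he, hde⟩ := exists_noncommute hD hD2 hd
  have hve : ¬ Commute v e := fun q => hde ((twin_of_pCore_two hD.1 hd hv h e he).1 q)
  have hdv := commute_of_pCore_two hD.1 hd hv h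
  refine ⟨e * (d * v) * e⁻¹, (inferInstance : (Cfsg.pCore 2 G).Normal).conj_mem _ h e, ?_⟩
  have id' := tt_inv hD.1 hd
  have iv := tt_inv hD.1 hv
  have ie := tt_inv hD.1 he
  have bd := tt_braid hD.1 he hd fun q => hde q.symm
  have bv := tt_braid hD.1 he hv fun q => hve q.symm
  have dd : ∀ x, d * (d * x) = x := fun x => by rw [← mul_assoc, tt_mul_self hD.1 hd, one_mul]
  have ee : ∀ x, e * (e * x) = x := fun x => by rw [← mul_assoc, tt_mul_self hD.1 he, one_mul]
  have hc : ∀ x, d * (v * x) = v * (d * x) := fun x => by rw [← mul_assoc, hdv.eq, mul_assoc]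
  have bd' : ∀ x, e * (d * (e * x)) = d * (e * (d * x)) := fun x => by
    rw [← mul_assoc, ← mul_assoc, bd]; simp only [mul_assoc]
  have bv' : ∀ x, e * (v * (e * x)) = v * (e * (v * x)) := fun x => by
    rw [← mul_assoc, ← mul_assoc, bv]; simp only [mul_assoc]
  symm
  calc e * (d * v) * e⁻¹ * d * (e * (d * v) * e⁻¹)⁻¹
      = e * (d * (v * (e * (d * (e * (v * (d * e))))))) := by
        simp only [mul_inv_rev, id', iv, ie, mul_assoc]
    _ = e * (d * (v * (d * (e * (d * (v * (d * e))))))) := by rw [bd']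
    _ = e * (v * (e * (v * e))) := by
        simp only [hc, dd]
    _ = v := by
        rw [bv', ← mul_assoc v v e, tt_mul_self hD.1 hv, one_mul, tt_mul_self hD.1 he, mul_one]

/-- Members with equal neighbourhoods in one coset are conjugate under the 3-core. -/
theorem exists_conj_of_pCore_three (hD : IsThreeTranspositionSet D) {d v : G} (hd : d ∈ D)
    (hv : v ∈ D) (h : d * v ∈ Cfsg.pCore 3 G) : ∃ g ∈ Cfsg.pCore 3 G, v = g * d * g⁻¹ := by
  by_cases hne : v = d
  · exact ⟨1, one_mem _, by rw [hne]; group⟩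
  have hnc := noncommute_of_pCore_three hD hd hv hne h
  have hb := tt_braid hD hd hv hnc
  refine ⟨d * v, h, ?_⟩
  rw [mul_inv_rev, tt_inv hD hd, tt_inv hD hv, hb,
    show v * d * v * (v * d) = v * d * (v * v) * d by group, tt_mul_self hD hv, mul_one,
    mul_assoc, tt_mul_self hD hd, mul_one]

/-- A conjugate by an element of a normal subgroup lies in the coset. -/
theorem coset_of_conj (hD : IsThreeTranspositionClass D) {N : Subgroup G} [N.Normal] {d g : G}
    (hd : d ∈ D) (hg : g ∈ N) : g * d * g⁻¹ ∈ D ∧ d⁻¹ * (g * d * g⁻¹) ∈ N :=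
  ⟨tt_invariant hD g hd, by
    rw [show d⁻¹ * (g * d * g⁻¹) = d⁻¹ * g * d⁻¹⁻¹ * g⁻¹ by group]
    exact mul_mem ((inferInstance : N.Normal).conj_mem _ hg _) (inv_mem hg)⟩

theorem twin_mul_mem_pCore_two [Finite G] (hD : IsThreeTranspositionClass D) {d v : G}
    (hd : d ∈ D) (hv : v ∈ D) (h : ∀ e ∈ D, Commute v e ↔ Commute d e) :
    d * v ∈ Cfsg.pCore 2 G := by
  have : Fact (Nat.Prime 2) := ⟨Nat.prime_two⟩
  set S := twinBlocks hD with hS
  have hr : S.r d v := ⟨hd, hv, fun w hw => (h w hw).symm⟩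
  have hK : S.kernel.Normal := ⟨fun n hn g => S.kernel_conj hD g hn⟩
  have := S.blockSub_normal hD d
  have hp : IsPGroup 2 (S.blockSub d) := by
    have hcomm : ∀ a ∈ {a | S.r d a}, ∀ b ∈ {a | S.r d a}, Commute a b := fun a ha b hb =>
      (((S.trans (S.symm ha) hb).2.2 a ha.2.1).1 (Commute.refl a)).symm
    have h1 := S5345.isPGroup_closure (E := {a | S.r d a}) (fun a ha => hD.1.1 a ha.2.1) hcomm
    refine (h1.comap_of_injective S.kernel.subtype S.kernel.subtype_injective).to_le ?_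
    rw [TTBlocks.blockSub, Subgroup.closure_le]
    rintro n ⟨a, b, ha, hb, hn⟩
    refine Subgroup.mem_comap.2 ?_
    rw [Subgroup.coe_subtype, hn]; exact mul_mem (Subgroup.subset_closure ha) (Subgroup.subset_closure hb)
  exact Cores.map_pCore_le_of_normal S.kernel ⟨S.pairElt hD (S.refl hd) hr,
    Cores.le_pCore hp (Subgroup.subset_closure ⟨d, v, S.refl hd, hr, rfl⟩), rfl⟩

/-- In a set of involutions closed under its own conjugations in which all products have cube
one, the products generate a 3-group. -/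
theorem isPGroup_closure_products [Finite G] (hZS : H61.ZStarTheorem.{u}) {X : Set G}
    (hord : ∀ x ∈ X, orderOf x = 2) (hclosed : ∀ x ∈ X, ∀ y ∈ X, x * y * x ∈ X)
    (hcube : ∀ x ∈ X, ∀ y ∈ X, (x * y) ^ 3 = 1) :
    IsPGroup 3 (Subgroup.closure {z | ∃ x ∈ X, ∃ y ∈ X, z = x * y}) := by
  rcases X.eq_empty_or_nonempty with rfl | ⟨d, hd⟩
  · refine (IsPGroup.of_bot (p := 3) (G := G)).to_le (le_of_eq ?_)
    rw [Subgroup.closure_eq_bot_iff]
    rintro z ⟨x, hx, -⟩
    exact absurd hx (Set.notMem_empty x)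
  have hinv : ∀ x ∈ X, x⁻¹ = x := fun x hx =>
    inv_eq_of_mul_eq_one_right (by rw [← pow_two, ← hord x hx, pow_orderOf_eq_one])
  have hid : ∀ a ∈ X, ∀ b ∈ X, a * b * a * b * a = b := by
    intro a ha b hb
    have h := hcube a ha b hb
    rw [pow_succ, pow_succ, pow_one, show a * b * (a * b) * (a * b) = a * b * a * b * a * b by group]
      at h
    rw [eq_inv_of_mul_eq_one_left h, hinv b hb]
  set H := Subgroup.closure X with hH
  let d' : H := ⟨d, Subgroup.subset_closure hd⟩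
  have hHX : ∀ g ∈ H, ∀ x ∈ X, g * x * g⁻¹ ∈ X ∧ g⁻¹ * x * g ∈ X := by
    intro g hg
    induction hg using Subgroup.closure_induction with
    | mem y hy => intro x hx; rw [hinv y hy]; exact ⟨hclosed y hy x hx, hclosed y hy x hx⟩
    | one => intro x hx; simpa using hx
    | mul g k _ _ ihg ihk =>
      intro x hx
      refine ⟨?_, ?_⟩
      · have := (ihg _ (ihk x hx).1).1
        rwa [show g * (k * x * k⁻¹) * g⁻¹ = g * k * x * (g * k)⁻¹ by group] at this
      · have := (ihk _ (ihg x hx).2).2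
        rwa [show k⁻¹ * (g⁻¹ * x * g) * k = (g * k)⁻¹ * x * (g * k) by group] at this
    | inv g _ ih => intro x hx; rw [inv_inv]; exact (ih x hx).symm
  have hsub : ∀ c ∈ conjugatesOf d', (c : G) ∈ X := by
    intro c hc
    obtain ⟨g, rfl⟩ := isConj_iff.1 hc
    exact (hHX g g.2 d hd).1
  have hprod : ∀ a ∈ conjugatesOf d', ∀ b ∈ conjugatesOf d', ∃ k, orderOf (a * b) = 3 ^ k := by
    intro a ha b hb
    obtain ⟨k, -, hk⟩ := (Nat.dvd_prime_pow Nat.prime_three).1
      (show orderOf (a * b) ∣ 3 ^ 1 from orderOf_dvd_of_pow_eq_one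
        (Subtype.ext (hcube _ (hsub a ha) _ (hsub b hb))))
    exact ⟨k, hk⟩
  have hd2 : orderOf d' = 2 := by rw [← Subgroup.orderOf_coe]; exact hord d hd
  have hmem := H61.zStar_cor_pPower hZS Nat.prime_three (by norm_num) d' hd2 hprod
  have hconj : ∀ x (hx : x ∈ X), (⟨x, Subgroup.subset_closure hx⟩ : H) ∈ conjugatesOf d' := by
    intro x hx
    refine isConj_iff.2 ⟨d' * ⟨x, Subgroup.subset_closure hx⟩, Subtype.ext ?_⟩
    show d * x * d * (d * x)⁻¹ = x
    rw [mul_inv_rev, hinv x hx, hinv d hd, ← mul_assoc, hid d hd x hx]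
  refine (Cores.pCore_isPGroup.map H.subtype).to_le (K := (Cfsg.pCore 3 H).map H.subtype) ?_
  rw [Subgroup.closure_le]
  rintro z ⟨x, hx, y, hy, rfl⟩
  exact ⟨_, hmem _ (hconj x hx) _ (hconj y hy), rfl⟩

/-- Members with the same neighbourhood form a block system. -/
def ttNbBlocks (hD : IsThreeTranspositionClass D) : TTBlocks D where
  r u v := u ∈ D ∧ v ∈ D ∧ ttNb D u = ttNb D v
  refl hu := ⟨hu, hu, rfl⟩
  symm h := ⟨h.2.1, h.1, h.2.2.symm⟩
  trans h h' := ⟨h.1, h'.2.1, h.2.2.trans h'.2.2⟩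
  conj g {u v} h := by
    refine ⟨tt_invariant hD g h.1, tt_invariant hD g h.2.1, ?_⟩
    have key : ∀ a, ttNb D (g * a * g⁻¹) = {y | g⁻¹ * y * g ∈ ttNb D a} := by
      intro a
      ext y
      have hcm : Commute (g * a * g⁻¹) y ↔ Commute a (g⁻¹ * y * g) := by
        rw [← commute_conj_iff g⁻¹, show g⁻¹ * (g * a * g⁻¹) * g⁻¹⁻¹ = a by group, inv_inv]
      refine ⟨fun ⟨hy, hne, hc⟩ => ⟨?_, ?_, hcm.1 hc⟩, fun ⟨hy, hne, hc⟩ => ⟨?_, ?_, hcm.2 hc⟩⟩
      · have := tt_invariant hD g⁻¹ hy; rwa [inv_inv] at this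
      · intro e; apply hne; rw [← e]; group
      · have := tt_invariant hD g hy
        rwa [show g * (g⁻¹ * y * g) * g⁻¹ = y by group] at this
      · intro e; apply hne; rw [e]; group
    rw [key, key, h.2.2]
  mem h := ⟨h.1, h.2.1⟩
  const {u v w} h hw hn := by
    have key : ∀ {a b : G}, a ∈ D → ttNb D a = ttNb D b → ¬ (a ∈ D ∧ w ∈ D ∧ ttNb D a = ttNb D w) →
        Commute w a → Commute w b := by
      intro a b ha hab hna hwa
      have hne : w ≠ a := by rintro rfl; exact hna ⟨ha, ha, rfl⟩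
      have hm : w ∈ ttNb D b := hab ▸ (⟨hw, hne, hwa.symm⟩ : w ∈ ttNb D a)
      exact hm.2.2.symm
    exact ⟨key h.1 h.2.2 hn,
      key h.2.1 h.2.2.symm fun q => hn ⟨h.1, hw, h.2.2.trans q.2.2⟩⟩

theorem sameNb_mul_mem_pCore_three [Finite G] (hZS : H61.ZStarTheorem.{u})
    (hD : IsThreeTranspositionClass D) {d v : G} (hd : d ∈ D) (hv : v ∈ D)
    (h : ttNb D d = ttNb D v) : d * v ∈ Cfsg.pCore 3 G := by
  have : Fact (Nat.Prime 3) := ⟨Nat.prime_three⟩
  set S := ttNbBlocks hD with hS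
  have hr : S.r d v := ⟨hd, hv, h⟩
  have hK : S.kernel.Normal := ⟨fun n hn g => S.kernel_conj hD g hn⟩
  have := S.blockSub_normal hD d
  have hp : IsPGroup 3 (S.blockSub d) := by
    set X := {a | S.r d a}
    have hX : ∀ a ∈ X, a ∈ D := fun a ha => (S.mem ha).2
    have hclosed : ∀ a ∈ X, ∀ b ∈ X, a * b * a ∈ X := by
      intro a ha b hb
      have h1 := S.conj a (S.trans (S.symm ha) hb)
      rw [show a * a * a⁻¹ = a by group, tt_inv hD.1 (hX a ha)] at h1
      exact S.trans ha h1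
    have hcube : ∀ a ∈ X, ∀ b ∈ X, (a * b) ^ 3 = 1 := by
      intro a ha b hb
      by_cases hab : a = b
      · subst hab; rw [tt_mul_self hD.1 (hX a ha), one_pow]
      refine tt_cube hD.1 (hX a ha) (hX b hb) fun hc => ?_
      have hm : b ∈ ttNb D b :=
        (S.trans (S.symm ha) hb).2.2 ▸
          (⟨hX b hb, fun e => hab e.symm, hc⟩ : b ∈ ttNb D a)
      exact hm.2.1 rfl
    have h1 := isPGroup_closure_products hZS (fun a ha => hD.1.1 a (hX a ha)) hclosed hcube
    refine (h1.comap_of_injective S.kernel.subtype S.kernel.subtype_injective).to_le ?_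
    rw [TTBlocks.blockSub, Subgroup.closure_le]
    rintro n ⟨a, b, ha, hb, hn⟩
    exact Subgroup.subset_closure ⟨a, ha, b, hb, hn⟩
  exact Cores.map_pCore_le_of_normal S.kernel ⟨S.pairElt hD (S.refl hd) hr,
    Cores.le_pCore hp (Subgroup.subset_closure ⟨d, v, S.refl hd, hr, rfl⟩), rfl⟩

end Cfsg.Agent.Components
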