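import Cfsg.Agent.Components.TTCore
import Cfsg.Agent.S5344

/-!
Fischer spaces and 3-transpositions: the maps `t(x)` are automorphisms, and the lines of a set of
3-transpositions form a Fischer space.
-/

set_option autoImplicit false

namespace Cfsg.Agent.Components

open Cfsg.LineSystem

/-- A plane given by its third-point operation. -/
structure IsPlaneModel {Y : Type*} (M : Set (Set Y)) (f : Y → Y → Y) : Prop where
  mem_iff : ∀ l : Set Y, l ∈ M ↔ ∃ u v, f u v ≠ v ∧ l = {u, v, f u v}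
  coll : ∀ u v, f u v ≠ v → ∀ x ∈ ({u, v, f u v} : Set Y), ∀ y ∈ ({u, v, f u v} : Set Y),
    x ≠ y → f x y ≠ y
  distinct : ∀ u v, f u v ≠ v → u ≠ v ∧ f u v ≠ u
  invol : ∀ u v, f u (f u v) = v
  distrib : ∀ x u v, f x (f u v) = f (f x u) (f x v)

theorem IsPlaneModel.image {Y : Type*} {M : Set (Set Y)} {f : Y → Y → Y} (h : IsPlaneModel M f)
    (x : Y) {l : Set Y} (hl : l ∈ M) : f x '' l ∈ M := by
  obtain ⟨u, v, huv, rfl⟩ := (h.mem_iff l).1 hl
  refine (h.mem_iff _).2 ⟨f x u, f x v, fun e => huv ?_, ?_⟩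
  · have := congrArg (f x) ((h.distrib x u v).trans e)
    rwa [h.invol, h.invol] at this
  · rw [Set.image_insert_eq, Set.image_insert_eq, Set.image_singleton, h.distrib]

/-- The third point on a line of the affine plane of order three. -/
def apThird (u v : Fin 2 → ZMod 3) : Fin 2 → ZMod 3 := -u - v

theorem ap_facts : ∀ u v : Fin 2 → ZMod 3, apThird u v ≠ v ↔ u ≠ v := by
  unfold apThird; decide +kernel

theorem affinePlaneThree_model : IsPlaneModel Cfsg.affinePlaneThree apThird where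
  mem_iff l := by
    have hc : ∀ c : ZMod 3, c = 0 ∨ c = 1 ∨ c = 2 := by decide
    have key : ∀ u w : Fin 2 → ZMod 3, {x | ∃ c : ZMod 3, x = u + c • w} =
        ({u, u + w, apThird u (u + w)} : Set (Fin 2 → ZMod 3)) := by
      intro u w
      have e : apThird u (u + w) = u + (2 : ZMod 3) • w := by
        revert u w; unfold apThird; decide +kernel
      ext x
      simp only [Set.mem_ofPred_eq, Set.mem_insert_iff, Set.mem_singleton_iff, e]
      constructor
      · rintro ⟨c, rfl⟩
        rcases hc c with rfl | rfl | rfl <;> simp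
      · rintro (rfl | rfl | rfl)
        exacts [⟨0, by simp⟩, ⟨1, by simp⟩, ⟨2, rfl⟩]
    constructor
    · rintro ⟨v, w, hw, rfl⟩
      exact ⟨v, v + w, (ap_facts _ _).2 (by simpa using hw), key v w⟩
    · rintro ⟨u, v, huv, rfl⟩
      refine ⟨u, v - u, sub_ne_zero.2 ((ap_facts u v).1 huv).symm, ?_⟩
      rw [key, add_sub_cancel]
  coll u v _ x _ y _ hxy := (ap_facts x y).2 hxy
  distinct u v h := ⟨(ap_facts u v).1 h, by revert u v h; unfold apThird; decide +kernel⟩
  invol u v := by unfold apThird; abel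
  distrib x u v := by
    have : ∀ x u v : ZMod 3, -x - (-u - v) = -(-x - u) - (-x - v) := by decide
    funext i; simp only [apThird, Pi.sub_apply, Pi.neg_apply]; exact this _ _ _

/-- The third point on a line of the dual affine plane of order two. -/
def dapThird (s t : Cfsg.DualAffinePoint) : Cfsg.DualAffinePoint :=
  if h : (symmDiff s.1 t.1).card = 2 then ⟨symmDiff s.1 t.1, h⟩ else t

set_option synthInstance.maxSize 4000 in
set_option maxRecDepth 100000 in
theorem dap_line_iff : (∀ i : Fin 4, ∃ u v : Cfsg.DualAffinePoint, dapThird u v ≠ v ∧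
      ∀ s : Cfsg.DualAffinePoint, i ∉ s.1 ↔ s = u ∨ s = v ∨ s = dapThird u v) ∧
    ∀ u v : Cfsg.DualAffinePoint, dapThird u v ≠ v → ∃ i : Fin 4,
      ∀ s : Cfsg.DualAffinePoint, i ∉ s.1 ↔ s = u ∨ s = v ∨ s = dapThird u v := by
  decide +kernel

set_option synthInstance.maxSize 4000 in
set_option maxRecDepth 100000 in
theorem dap_alg : (∀ u v : Cfsg.DualAffinePoint, dapThird u (dapThird u v) = v) ∧
    (∀ x u v : Cfsg.DualAffinePoint,
      dapThird x (dapThird u v) = dapThird (dapThird x u) (dapThird x v)) ∧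
    (∀ u v : Cfsg.DualAffinePoint, dapThird u v ≠ v → u ≠ v ∧ dapThird u v ≠ u) ∧
    (∀ u v : Cfsg.DualAffinePoint, dapThird u v ≠ v →
      dapThird v u ≠ u ∧ dapThird u (dapThird u v) ≠ dapThird u v ∧
      dapThird (dapThird u v) u ≠ u ∧ dapThird v (dapThird u v) ≠ dapThird u v ∧
      dapThird (dapThird u v) v ≠ v) := by
  decide +kernel

theorem dualAffinePlaneTwo_model : IsPlaneModel Cfsg.dualAffinePlaneTwo dapThird where
  mem_iff l := by
    constructor
    · rintro ⟨i, rfl⟩
      obtain ⟨u, v, h, hs⟩ := dap_line_iff.1 i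
      exact ⟨u, v, h, Set.ext fun s => by simpa using hs s⟩
    · rintro ⟨u, v, h, rfl⟩
      obtain ⟨i, hi⟩ := dap_line_iff.2 u v h
      exact ⟨i, Set.ext fun s => by simpa using (hi s).symm⟩
  coll u v h x hx y hy hxy := by
    obtain ⟨h1, h2, h3, h4, h5⟩ := dap_alg.2.2.2 u v h
    simp only [Set.mem_insert_iff, Set.mem_singleton_iff] at hx hy
    rcases hx with rfl | rfl | rfl <;> rcases hy with rfl | rfl | rfl <;>
      first | exact absurd rfl hxy | exact h | exact h1 | exact h2 | exact h3 | exact h4 | exact h5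
  distinct := dap_alg.2.2.1
  invol := dap_alg.1
  distrib := dap_alg.2.1

variable {X : Type*} {L : Set (Set X)}

theorem lineMap_eq (hP : IsPartialLinear L) {x y z : X} (hzx : z ≠ x) (hzy : z ≠ y) (hxy : x ≠ y)
    (hl : ({x, y, z} : Set X) ∈ L) : lineMap L x y = z := by
  have h : ∃ w : X, w ≠ x ∧ w ≠ y ∧ x ≠ y ∧ ({x, y, w} : Set X) ∈ L := ⟨z, hzx, hzy, hxy, hl⟩
  rw [lineMap, dif_pos h]
  obtain ⟨hwx, hwy, -, hw⟩ := h.choose_spec
  have e := hP _ hw _ hl x y hxy (by simp) (by simp) (by simp) (by simp)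
  have : h.choose ∈ ({x, y, z} : Set X) := e ▸ (by simp)
  simpa [hwx, hwy] using this

theorem lineMap_eq_self {x y : X}
    (h : ¬ ∃ z : X, z ≠ x ∧ z ≠ y ∧ x ≠ y ∧ ({x, y, z} : Set X) ∈ L) : lineMap L x y = y := by
  rw [lineMap, dif_neg h]

theorem exists_third (h3 : ∀ l ∈ L, l.ncard = 3) {l : Set X} (hl : l ∈ L) {x y : X} (hx : x ∈ l)
    (hy : y ∈ l) (hxy : x ≠ y) : ∃ z, z ≠ x ∧ z ≠ y ∧ ({x, y, z} : Set X) = l := by
  obtain ⟨p, q, r, hpq, hpr, hqr, rfl⟩ := Set.ncard_eq_three.1 (h3 l hl)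
  simp only [Set.mem_insert_iff, Set.mem_singleton_iff] at hx hy
  rcases hx with rfl | rfl | rfl <;> rcases hy with rfl | rfl | rfl <;>
    first
    | exact absurd rfl hxy
    | exact ⟨p, by tauto, by tauto, by ext; (simp; try tauto)⟩
    | exact ⟨q, by tauto, by tauto, by ext; (simp; try tauto)⟩
    | exact ⟨r, by tauto, by tauto, by ext; (simp; try tauto)⟩

theorem lineMap_of_mem (hP : IsPartialLinear L) (h3 : ∀ l ∈ L, l.ncard = 3) {l : Set X}
    (hl : l ∈ L) {x y : X} (hx : x ∈ l) (hy : y ∈ l) (hxy : x ≠ y) :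
    lineMap L x y ∈ l ∧ lineMap L x y ≠ x ∧ lineMap L x y ≠ y := by
  obtain ⟨z, hzx, hzy, e⟩ := exists_third h3 hl hx hy hxy
  rw [lineMap_eq hP hzx hzy hxy (e ▸ hl)]
  exact ⟨e ▸ by simp, hzx, hzy⟩

theorem lineMap_self (L : Set (Set X)) (x : X) : lineMap L x x = x :=
  lineMap_eq_self fun ⟨_, _, _, h, _⟩ => h rfl

theorem lineMap_involutive (hP : IsPartialLinear L) (x : X) :
    Function.Involutive (lineMap L x) := by
  intro y
  by_cases h : ∃ z : X, z ≠ x ∧ z ≠ y ∧ x ≠ y ∧ ({x, y, z} : Set X) ∈ L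
  · obtain ⟨z, hzx, hzy, hxy, hl⟩ := h
    rw [lineMap_eq hP hzx hzy hxy hl]
    exact lineMap_eq hP hxy.symm hzy.symm hzx.symm
      (by rwa [show ({x, z, y} : Set X) = {x, y, z} by ext; simp; tauto])
  · rw [lineMap_eq_self h, lineMap_eq_self h]

theorem mem_span {S : Set X} {T : Set X} (h : T ⊆ S) : T ⊆ LineSystem.span L S :=
  fun _ hx => Set.mem_sInter.2 fun _ hT => hT.1 (h hx)

theorem subset_span (S : Set X) : S ⊆ LineSystem.span L S := mem_span Set.Subset.rfl

theorem span_subspace (S : Set X) : IsSubspace L (LineSystem.span L S) := by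
  intro l hl x hx y hy hxy hxl hyl z hz
  exact Set.mem_sInter.2 fun T hT =>
    hT.2 l hl x (Set.mem_sInter.1 hx T hT) y (Set.mem_sInter.1 hy T hT) hxy hxl hyl hz

/-- `t(x)` maps lines to lines. -/
theorem lineMap_image (hL : Cfsg.IsFischerSpace L) (x : X) {l : Set X} (hl : l ∈ L) :
    lineMap L x '' l ∈ L := by
  obtain ⟨hP, h3, hpl⟩ := hL
  by_cases hxl : x ∈ l
  · have hmap : ∀ y ∈ l, lineMap L x y ∈ l := by
      intro y hy
      by_cases hxy : x = y
      · subst hxy; rw [lineMap_self]; exact hy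
      · exact (lineMap_of_mem hP h3 hl hxl hy hxy).1
    have e : lineMap L x '' l = l := Set.Subset.antisymm (Set.image_subset_iff.2 hmap)
      fun y hy => ⟨lineMap L x y, hmap y hy, lineMap_involutive hP x y⟩
    rwa [e]
  by_cases hc : ∀ y ∈ l, ¬ ∃ z : X, z ≠ x ∧ z ≠ y ∧ x ≠ y ∧ ({x, y, z} : Set X) ∈ L
  · have e : lineMap L x '' l = l := by
      ext y
      exact ⟨fun ⟨w, hw, e⟩ => by rw [lineMap_eq_self (hc w hw)] at e; exact e ▸ hw,
        fun hy => ⟨y, hy, lineMap_eq_self (hc y hy)⟩⟩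
    rwa [e]
  push Not at hc
  obtain ⟨y, hy, z, hzx, hzy, hxy, hm⟩ := hc
  set m : Set X := {x, y, z} with hmdef
  have hlm : l ≠ m := fun e => hxl (e ▸ by simp [hmdef])
  set S := LineSystem.span L (l ∪ m) with hS
  have hlS : l ⊆ S := mem_span Set.subset_union_left
  have hxS : x ∈ S := mem_span Set.subset_union_right (by simp [hmdef])
  have hsub := span_subspace (L := L) (l ∪ m)
  rw [← hS] at hsub
  obtain ⟨Y, M, f, hM, e, he⟩ : ∃ (Y : Type) (M : Set (Set Y)) (f : Y → Y → Y),
      IsPlaneModel M f ∧ ∃ e : S ≃ Y, IsIso (restrict L S) M e := by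
    rcases hpl l hl m hm hlm ⟨y, hy, by simp [hmdef]⟩ with ⟨e, he⟩ | ⟨e, he⟩
    · exact ⟨_, _, _, dualAffinePlaneTwo_model, e, he⟩
    · exact ⟨_, _, _, affinePlaneThree_model, e, he⟩
  have back : ∀ t : Set Y, t ∈ M → Subtype.val '' (e ⁻¹' t) ∈ L := by
    intro t ht
    have h := (he (e ⁻¹' t)).2 (by rwa [Equiv.image_preimage])
    obtain ⟨k, hk, hkS, hk'⟩ := h
    rw [hk', show {s : S | (s : X) ∈ k} = Subtype.val ⁻¹' k from rfl, Subtype.image_preimage_coe,
      Set.inter_eq_right.2 hkS]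
    exact hk
  have fwd : ∀ k ∈ L, k ⊆ S → e '' {s : S | (s : X) ∈ k} ∈ M := fun k hk hkS =>
    (he _).1 ⟨k, hk, hkS, rfl⟩
  have htS : ∀ w : S, lineMap L x w = e.symm (f (e ⟨x, hxS⟩) (e w)) := by
    intro w
    set p := e ⟨x, hxS⟩ with hp
    set q := e w with hq
    by_cases hf : f p q = q
    · rw [hf, hq, Equiv.symm_apply_apply]
      refine lineMap_eq_self ?_
      rintro ⟨r, hrx, hrw, hxw, hk⟩
      have hkS : ({x, (w : X), r} : Set X) ⊆ S :=
        hsub _ hk x hxS w w.2 hxw (by simp) (by simp)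
      obtain ⟨u, v, huv, he'⟩ := (hM.mem_iff _).1 (fwd _ hk hkS)
      refine hM.coll u v huv p (he' ▸ ⟨⟨x, hxS⟩, by simp, rfl⟩) q (he' ▸ ⟨w, by simp, rfl⟩)
        (fun e' => hxw (congrArg Subtype.val (e.injective e'))) hf
    · obtain ⟨hpq, hne⟩ := hM.distinct p q hf
      have hk := back _ ((hM.mem_iff _).2 ⟨p, q, hf, rfl⟩)
      simp only [← Equiv.image_symm_eq_preimage, Set.image_insert_eq, Set.image_singleton] at hk
      rw [show e.symm p = ⟨x, hxS⟩ by rw [hp, Equiv.symm_apply_apply],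
        show e.symm q = w by rw [hq, Equiv.symm_apply_apply]] at hk
      refine lineMap_eq hP (fun e' => hne ?_) (fun e' => hf ?_) (fun e' => hpq ?_) hk
      · have e'' : e.symm (f p q) = ⟨x, hxS⟩ := Subtype.ext e'
        rw [Equiv.symm_apply_eq] at e''; exact e''
      · have e'' : e.symm (f p q) = w := Subtype.ext e'
        rw [Equiv.symm_apply_eq] at e''; exact e''
      · exact congrArg e (Subtype.ext e')
  have key := back _ (hM.image (e ⟨x, hxS⟩) (fwd l hl hlS))
  convert key using 1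
  ext a
  constructor
  · rintro ⟨w, hw, rfl⟩
    refine ⟨e.symm (f (e ⟨x, hxS⟩) (e ⟨w, hlS hw⟩)), ?_, (htS ⟨w, hlS hw⟩).symm⟩
    rw [Set.mem_preimage, Equiv.apply_symm_apply]
    exact ⟨_, ⟨⟨w, hlS hw⟩, hw, rfl⟩, rfl⟩
  · rintro ⟨s, ⟨q, ⟨w, hw, rfl⟩, hq⟩, rfl⟩
    refine ⟨w, hw, ?_⟩
    rw [htS w, hq, Equiv.symm_apply_apply]

theorem fischerSpace_three_transpositions (hL : Cfsg.IsFischerSpace L)
    (hnd : IsNondegenerate L) :
    (∀ x : X, ∃ σ : Equiv.Perm X, ⇑σ = lineMap L x ∧ orderOf σ = 2 ∧ IsIso L L σ) ∧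
      Cfsg.IsThreeTranspositionSet {σ : Equiv.Perm X | ∃ x : X, ⇑σ = lineMap L x} := by
  obtain ⟨hP, h3, -⟩ := id hL
  let t : X → Equiv.Perm X := fun x => (lineMap_involutive hP x).toPerm _
  have ht : ∀ x y, t x y = lineMap L x y := fun _ _ => rfl
  have hsq : ∀ x, t x * t x = 1 := fun x => Equiv.ext fun y => lineMap_involutive hP x y
  have hord : ∀ x, orderOf (t x) = 2 := by
    intro x
    refine orderOf_eq_prime (by rw [pow_two, hsq]) fun h => ?_
    obtain ⟨l, hl, hxl⟩ := hnd x
    obtain ⟨y, hy, hyx⟩ := Set.exists_ne_of_one_lt_ncard (by rw [h3 l hl]; norm_num) x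
    have := (lineMap_of_mem hP h3 hl hxl hy hyx.symm).2.2
    rw [← ht, h] at this
    exact this rfl
  have hiso : ∀ x, IsIso L L (t x) := by
    intro x l
    refine ⟨fun hl => lineMap_image hL x hl, fun hl => ?_⟩
    have := lineMap_image hL x hl
    rwa [show ⇑(t x) = lineMap L x from rfl, ← Set.image_comp,
      (lineMap_involutive hP x).comp_self, Set.image_id] at this
  refine ⟨fun x => ⟨t x, rfl, hord x, hiso x⟩, ?_, ?_⟩
  · rintro σ ⟨x, hx⟩
    rw [show σ = t x from Equiv.ext fun y => congrFun hx y]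
    exact hord x
  rintro σ ⟨x, hx⟩ τ ⟨y, hy⟩
  rw [show σ = t x from Equiv.ext fun w => congrFun hx w,
    show τ = t y from Equiv.ext fun w => congrFun hy w]
  have hequiv : ∀ a b, t a * t b * t a = t (t a b) := by
    intro a b
    refine Equiv.ext fun w => ?_
    show t a (t b (t a w)) = t (t a b) w
    have aa : ∀ u, t a (t a u) = u := fun u => lineMap_involutive hP a u
    by_cases h : ∃ r : X, r ≠ t a b ∧ r ≠ w ∧ t a b ≠ w ∧ ({t a b, w, r} : Set X) ∈ L
    · obtain ⟨r, h1, h2, h3', hk⟩ := h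
      rw [ht (t a b) w, lineMap_eq hP h1 h2 h3' hk]
      have hk' := lineMap_image hL a hk
      rw [Set.image_insert_eq, Set.image_insert_eq, Set.image_singleton, ← ht, ← ht, ← ht,
        aa] at hk'
      rw [ht b, lineMap_eq hP (fun e => h1 (by rw [← e, aa]))
        (fun e => h2 ((t a).injective e)) (fun e => h3' (by rw [e, aa])) hk', aa]
    · rw [ht (t a b) w, lineMap_eq_self h, ht b, lineMap_eq_self, aa]
      rintro ⟨r, h1, h2, h3', hk⟩
      apply h
      have hk' := lineMap_image hL a hk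
      rw [Set.image_insert_eq, Set.image_insert_eq, Set.image_singleton, ← ht, ← ht, ← ht,
        aa] at hk'
      exact ⟨t a r, fun e => h1 ((t a).injective e), fun e => h2 (by rw [← e, aa]),
        fun e => h3' (by rw [← aa b, e]), hk'⟩
  by_cases hc : ∃ z : X, z ≠ x ∧ z ≠ y ∧ x ≠ y ∧ ({x, y, z} : Set X) ∈ L
  · right
    obtain ⟨z, hzx, hzy, hxy, hk⟩ := hc
    have e1 : t x y = z := lineMap_eq hP hzx hzy hxy hk
    have e2 : t y x = z := lineMap_eq hP hzy hzx hxy.symm
      (by rwa [show ({y, x, z} : Set X) = {x, y, z} by ext; simp; tauto])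
    calc (t x * t y) ^ 3 = (t x * t y * t x) * (t y * t x * t y) := by
          simp only [pow_succ, pow_zero, one_mul, mul_assoc]
      _ = 1 := by rw [hequiv, hequiv, e1, e2, hsq]
  · left
    have e1 : t x y = y := lineMap_eq_self hc
    calc (t x * t y) ^ 2 = (t x * t y * t x) * t y := by
          simp only [pow_succ, pow_zero, one_mul, mul_assoc]
      _ = 1 := by rw [hequiv, e1, hsq]

/-! ### The lines of a set of 3-transpositions -/

open Cfsg.Agent.H44

variable {G : Type*} [Group G] {D : Set G}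

/-- A line of `D` is determined by any two of its points. -/
theorem ttLine_eq (hS : Cfsg.IsThreeTranspositionSet D) {l : Set D}
    (hl : l ∈ Cfsg.threeTranspositionLines D) {u v : D} (hu : u ∈ l) (hv : v ∈ l) (huv : u ≠ v) :
    ¬ Commute (u : G) v ∧
      l = {z : D | (z : G) = u ∨ (z : G) = v ∨ (z : G) = (v : G) * u * (v : G)⁻¹} := by
  obtain ⟨x, y, hc, rfl⟩ := hl
  have bxy := tt_braid hS x.2 y.2 hc
  have xx := tt_mul_self hS x.2
  have yy := tt_mul_self hS y.2
  set w : G := (y : G) * x * y with hw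
  have ey : (y : G) * x * (y : G)⁻¹ = w := by rw [tt_inv hS y.2]
  have hxw : (x : G) * w * x = y := by
    show (x : G) * (y * x * y) * x = y
    rw [show (y : G) * x * y = x * y * x from bxy.symm, show (x : G) * (x * y * x) * x = (x * x) * y * (x * x) by group, xx, one_mul,
      mul_one]
  have hyw : (y : G) * w * y = x := by
    show (y : G) * (y * x * y) * y = x
    rw [show (y : G) * (y * x * y) * y = (y * y) * x * (y * y) by group, yy, one_mul, mul_one]
  have ncxw : ¬ Commute (x : G) w := by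
    intro h
    rw [h.eq, mul_assoc, xx, mul_one] at hxw
    rw [hw] at hxw
    apply hc
    show (x : G) * y = y * x
    calc (x : G) * y = (y * y) * (x * y) := by rw [yy, one_mul]
      _ = y * (y * x * y) := by group
      _ = y * y := by rw [hxw]
      _ = _ := by
        have hyx : (x : G) = y := by
          have := congrArg (fun z => (y : G) * z * y) hxw
          rw [show (y : G) * (y * x * y) * y = x by rw [show (y : G) * (y * x * y) * y = (y * y) * x * (y * y) by group, yy, one_mul, mul_one], show (y : G) * y * y = y by rw [yy, one_mul]] at this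
          exact this
        rw [hyx]
  have ncyw : ¬ Commute (y : G) w := by
    intro h
    rw [h.eq, mul_assoc, yy, mul_one] at hyw
    apply hc
    show (x : G) * y = y * x
    have : w = x := hyw
    rw [hw] at this
    calc (x : G) * y = (y * x * y) * y := by rw [this]
      _ = y * x * (y * y) := by group
      _ = y * x := by rw [yy, mul_one]
  simp only [Set.mem_ofPred_eq, ey] at hu hv
  have goal : ∀ p q r : G, ({p, q, r} : Set G) = {(x : G), (y : G), w} →
      {z : D | (z : G) = p ∨ (z : G) = q ∨ (z : G) = r} =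
        {z : D | (z : G) = x ∨ (z : G) = y ∨ (z : G) = (y : G) * x * (y : G)⁻¹} := by
    intro p q r e
    ext z
    have := Set.ext_iff.1 e (z : G)
    simp only [Set.mem_insert_iff, Set.mem_singleton_iff] at this
    simp only [Set.mem_ofPred_eq, ey]
    exact this
  have huv' : (u : G) ≠ v := fun e => huv (Subtype.ext e)
  have iv := tt_inv hS v.2
  rcases hu with e | e | e <;> rcases hv with e' | e' | e' <;>
    first | exact absurd (e.trans e'.symm) huv' | skip
  all_goals rw [iv, e, e']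
  · exact ⟨hc, (goal _ _ _ (by rw [← hw])).symm⟩
  · refine ⟨ncxw, (goal _ _ _ ?_).symm⟩
    rw [← tt_braid hS x.2 (e' ▸ v.2) ncxw, hxw]; ext; simp; tauto
  · refine ⟨fun h => hc h.symm, (goal _ _ _ ?_).symm⟩
    rw [bxy]; ext; simp; tauto
  · refine ⟨ncyw, (goal _ _ _ ?_).symm⟩
    rw [← tt_braid hS y.2 (e' ▸ v.2) ncyw, hyw]; ext; simp; tauto
  · refine ⟨fun h => ncxw h.symm, (goal _ _ _ ?_).symm⟩
    rw [hxw]; ext; simp; tauto
  · refine ⟨fun h => ncyw h.symm, (goal _ _ _ ?_).symm⟩
    rw [hyw]; ext; simp; tauto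

theorem ttLine_ncard {x y : D}
    (hc : ¬ Commute (x : G) y) (hw : (y : G) * x * (y : G)⁻¹ ∈ D) :
    ({z : D | (z : G) = x ∨ (z : G) = y ∨ (z : G) = (y : G) * x * (y : G)⁻¹}).ncard = 3 := by
  refine Set.ncard_eq_three.2 ⟨x, y, ⟨_, hw⟩, fun e => hc (e ▸ Commute.refl _), ?_, ?_, ?_⟩
  · intro e
    have e' : (x : G) = y * x * (y : G)⁻¹ := congrArg Subtype.val e
    exact hc (eq_mul_inv_iff_mul_eq.1 e')
  · intro e
    have e' : (y : G) = y * x * (y : G)⁻¹ := congrArg Subtype.val e
    rw [eq_mul_inv_iff_mul_eq, mul_right_inj] at e'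
    exact hc (e' ▸ Commute.refl _)
  · ext z; simp [Subtype.ext_iff]

/-- A parametrization of a plane of `D`. -/
theorem ttPlane_iso (hS : Cfsg.IsThreeTranspositionSet D) {Y : Type} {M : Set (Set Y)}
    {f : Y → Y → Y} (hM : IsPlaneModel M f) (q : Y → D) (hinj : Function.Injective q)
    (hcomm : ∀ u v, f u v = v ↔ Commute (q u : G) (q v))
    (hmul : ∀ u v, f u v ≠ v → (q (f u v) : G) = (q v : G) * q u * (q v : G)⁻¹)
    {T : Set D} (hgen : ∀ U : Set D, T ⊆ U → IsSubspace (Cfsg.threeTranspositionLines D) U →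
      Set.range q ⊆ U) (hT : T ⊆ Set.range q) :
    Isomorphic (restrict (Cfsg.threeTranspositionLines D)
      (LineSystem.span (Cfsg.threeTranspositionLines D) T)) M := by
  have hline : ∀ l ∈ Cfsg.threeTranspositionLines D, ∀ u v, u ≠ v → q u ∈ l → q v ∈ l →
      f u v ≠ v ∧ l = q '' {u, v, f u v} := by
    intro l hl u v huv hu hv
    obtain ⟨hc, e⟩ := ttLine_eq hS hl hu hv fun e => huv (hinj e)
    have hf : f u v ≠ v := fun h => hc ((hcomm u v).1 h)
    refine ⟨hf, ?_⟩
    rw [e, Set.image_insert_eq, Set.image_insert_eq, Set.image_singleton]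
    ext z
    simp [Subtype.ext_iff, hmul u v hf]
  have hmem : ∀ u v, f u v ≠ v → q '' {u, v, f u v} ∈ Cfsg.threeTranspositionLines D := by
    intro u v hf
    refine ⟨q u, q v, fun h => hf ((hcomm u v).2 h), ?_⟩
    rw [Set.image_insert_eq, Set.image_insert_eq, Set.image_singleton]
    ext z
    simp [Subtype.ext_iff, hmul u v hf]
  have hsub : IsSubspace (Cfsg.threeTranspositionLines D) (Set.range q) := by
    rintro l hl _ ⟨u, rfl⟩ _ ⟨v, rfl⟩ huv hu hv
    rw [(hline l hl u v (fun e => huv (by rw [e])) hu hv).2]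
    exact Set.image_subset_range _ _
  have hspan : LineSystem.span (Cfsg.threeTranspositionLines D) T = Set.range q :=
    Set.Subset.antisymm (fun z hz => Set.mem_sInter.1 hz _ ⟨hT, hsub⟩)
      (hgen _ (subset_span T) (span_subspace T))
  rw [hspan]
  refine ⟨(Equiv.ofInjective q hinj).symm, fun m => ?_⟩
  set e := (Equiv.ofInjective q hinj).symm with he
  have hkey : ∀ s : Set Y, e '' {z : Set.range q | (z : D) ∈ q '' s} = s := by
    intro s
    ext u
    constructor
    · rintro ⟨⟨_, w, rfl⟩, ⟨w', hw', e'⟩, rfl⟩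
      rw [hinj e'] at hw'
      rwa [he, Equiv.ofInjective_symm_apply]
    · intro hu
      exact ⟨⟨q u, u, rfl⟩, ⟨u, hu, rfl⟩, Equiv.ofInjective_symm_apply hinj u⟩
  constructor
  · rintro ⟨l, hl, hlS, rfl⟩
    obtain ⟨x, y, hc, rfl⟩ := id hl
    obtain ⟨u, hu⟩ := hlS (show x ∈ _ from Or.inl rfl)
    obtain ⟨v, hv⟩ := hlS (show y ∈ _ from Or.inr (Or.inl rfl))
    obtain ⟨hf, h⟩ := hline _ hl u v (fun e => hc (by rw [← hu, ← hv, e]))
      (by rw [hu]; exact Or.inl rfl) (by rw [hv]; exact Or.inr (Or.inl rfl))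
    refine (hM.mem_iff _).2 ⟨u, v, hf, ?_⟩
    conv_lhs => rw [h]
    rw [hkey]
  · intro hm
    obtain ⟨u, v, hf, h⟩ := (hM.mem_iff _).1 hm
    refine ⟨_, hmem u v hf, Set.image_subset_range _ _, ?_⟩
    rw [← hkey {u, v, f u v}] at h
    exact Set.image_injective.2 e.injective h

/-- The transposition of a two-element set. -/
def dapPerm (s : Cfsg.DualAffinePoint) : Equiv.Perm (Fin 4) :=
  Equiv.swap (s.1.min' (Finset.card_pos.1 (by rw [s.2]; norm_num)))
    (s.1.max' (Finset.card_pos.1 (by rw [s.2]; norm_num)))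

theorem dapPerm_facts :
    (∀ u v, dapThird u v = v ↔ dapPerm u * dapPerm v = dapPerm v * dapPerm u) ∧
    (∀ u v, dapThird u v ≠ v →
      dapPerm (dapThird u v) = dapPerm v * dapPerm u * (dapPerm v)⁻¹) ∧
    (∀ u v, dapPerm u = dapPerm v → u = v) := by
  decide +kernel

/-- Two meeting lines with a commuting pair across generate a dual affine plane. -/
theorem ttPlane_dual (hD : Cfsg.IsThreeTranspositionGroup D) {a p b : D}
    (hac : a ≠ b) (hab : Commute (a : G) b) (hap : ¬ Commute (a : G) p)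
    (hpb : ¬ Commute (p : G) b) {T : Set D} (ha : a ∈ T) (hp : p ∈ T) (hb : b ∈ T)
    (hT : ∀ z ∈ T, (z : G) ∈ Subgroup.closure ({(a : G), (p : G), (b : G)} : Set G) ∧
      ∀ φ : Equiv.Perm (Fin 4) →* G, φ (Equiv.swap 0 1) = a → φ (Equiv.swap 1 2) = p →
        φ (Equiv.swap 2 3) = b → ∃ s, φ (dapPerm s) = z) :
    Isomorphic (restrict (Cfsg.threeTranspositionLines D)
      (LineSystem.span (Cfsg.threeTranspositionLines D) T)) Cfsg.dualAffinePlaneTwo := by
  obtain ⟨φ, hφ, h01, h12, h23⟩ := Cfsg.Agent.S5344.result hD.1 a.2 p.2 b.2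
    (fun e => hac (Subtype.ext e)) hab hap hpb
  have hqD : ∀ s, φ (dapPerm s) ∈ D := by
    intro s
    obtain ⟨g, hg⟩ : ∃ g, g * Equiv.swap 0 1 * g⁻¹ = dapPerm s := by
      revert s; decide +kernel
    rw [← hg, map_mul, map_mul, map_inv, h01]
    exact hD.2.1 _ _ a.2
  let q : Cfsg.DualAffinePoint → D := fun s => ⟨φ (dapPerm s), hqD s⟩
  obtain ⟨hc1, hm1, hi1⟩ := dapPerm_facts
  refine ttPlane_iso hD.1 dualAffinePlaneTwo_model q
    (fun u v e => hi1 u v (hφ (congrArg Subtype.val e))) (fun u v => ?_) (fun u v h => ?_) ?_ ?_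
  · rw [hc1]
    constructor
    · intro h; show φ _ * φ _ = φ _ * φ _; rw [← map_mul, ← map_mul, h]
    · intro h; apply hφ; rw [map_mul, map_mul]; exact h
  · show φ _ = φ _ * φ _ * (φ _)⁻¹
    rw [hm1 u v h, map_mul, map_mul, map_inv]
  · intro U hTU hU
    have step : ∀ u v, dapThird u v ≠ v → q u ∈ U → q v ∈ U → q (dapThird u v) ∈ U := by
      intro u v h hu hv
      have hmem : ({z : D | (z : G) = q u ∨ (z : G) = q v ∨
          (z : G) = (q v : G) * q u * (q v : G)⁻¹}) ∈ Cfsg.threeTranspositionLines D :=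
        ⟨q u, q v, fun hc => h ((hc1 u v).2 (hφ (by rw [map_mul, map_mul]; exact hc))), rfl⟩
      refine hU _ hmem (q u) hu (q v) hv (fun e => (dualAffinePlaneTwo_model.distinct u v h).1
        (hi1 u v (hφ (congrArg Subtype.val e)))) (Or.inl rfl) (Or.inr (Or.inl rfl))
        (Or.inr (Or.inr ?_))
      show φ _ = φ _ * φ _ * (φ _)⁻¹
      rw [hm1 u v h, map_mul, map_mul, map_inv]
    let s01 : Cfsg.DualAffinePoint := ⟨{0, 1}, rfl⟩
    let s12 : Cfsg.DualAffinePoint := ⟨{1, 2}, rfl⟩
    let s23 : Cfsg.DualAffinePoint := ⟨{2, 3}, rfl⟩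
    have q01 : q s01 ∈ U := hTU (by convert ha; exact Subtype.ext (by rw [← h01]; rfl))
    have q12 : q s12 ∈ U := hTU (by convert hp; exact Subtype.ext (by rw [← h12]; rfl))
    have q23 : q s23 ∈ U := hTU (by convert hb; exact Subtype.ext (by rw [← h23]; rfl))
    have q02 := step s01 s12 (by decide +kernel) q01 q12
    have q13 := step s12 s23 (by decide +kernel) q12 q23
    have q03 := step s01 _ (by decide +kernel) q01 q13
    rintro _ ⟨s, rfl⟩
    rcases (by revert s; decide +kernel : s = s01 ∨ s = s12 ∨ s = s23 ∨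
      s = dapThird s01 s12 ∨ s = dapThird s12 s23 ∨ s = dapThird s01 (dapThird s12 s23)) with
      rfl | rfl | rfl | rfl | rfl | rfl
    exacts [q01, q12, q23, q02, q13, q03]
  · intro z hz
    obtain ⟨s, hs⟩ := (hT z hz).2 φ h01 h12 h23
    exact ⟨s, Subtype.ext hs⟩

/-- The nine points of the plane generated by a non-commuting triangle. -/
def apPoint (p a b : G) (v : Fin 2 → ZMod 3) : G :=
  match (v 0).val, (v 1).val with
  | 0, 0 => p
  | 1, 0 => a
  | 2, 0 => p * a * p
  | 0, 1 => b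
  | 0, 2 => p * b * p
  | 2, 2 => a * b * a
  | 1, 1 => p * (a * b * a) * p
  | 2, 1 => a * (p * b * p) * a
  | _, _ => b * (p * a * p) * b

/-- Two meeting lines without a commuting pair across generate an affine plane. -/
theorem ttPlane_affine (hD : Cfsg.IsThreeTranspositionGroup D) {a p b : D}
    (hpa : ¬ Commute (p : G) a) (hpb : ¬ Commute (p : G) b) (hab : ¬ Commute (a : G) b)
    (hab' : ¬ Commute ((p : G) * a * p) b) (hba' : ¬ Commute (a : G) ((p : G) * b * p))
    {T : Set D} (ha : a ∈ T) (hp : p ∈ T) (hb : b ∈ T)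
    (hT : ∀ z ∈ T, ∃ v, apPoint (p : G) a b v = z) :
    Isomorphic (restrict (Cfsg.threeTranspositionLines D)
      (LineSystem.span (Cfsg.threeTranspositionLines D) T)) Cfsg.affinePlaneThree := by
  have hS := hD.1
  have conjD : ∀ {x y : G}, x ∈ D → y ∈ D → x * y * x ∈ D := fun {x y} hx hy => by
    rw [← tt_conj_eq hS hx]; exact hD.2.1 x y hy
  have pp := tt_mul_self hS p.2
  have aa := tt_mul_self hS a.2
  have bb := tt_mul_self hS b.2
  have hpap : (p : G) * a * p ∈ D := conjD p.2 a.2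
  have hpbp : (p : G) * b * p ∈ D := conjD p.2 b.2
  have hqD : ∀ v, apPoint (p : G) a b v ∈ D := by
    intro v; unfold apPoint; split
    exacts [p.2, a.2, hpap, b.2, hpbp, conjD a.2 b.2, conjD p.2 (conjD a.2 b.2), conjD a.2 hpbp,
      conjD b.2 hpap]
  set Q := apPoint (p : G) a b with hQ
  -- small calculations
  have cancel : ∀ {x : G}, x * x = 1 → ∀ y, x * (x * y * x) * x = y := fun {x} hx y => by
    rw [show x * (x * y * x) * x = (x * x) * y * (x * x) by group, hx, one_mul, mul_one]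
  have self3 : ∀ {x : G}, x * x = 1 → x * x * x = x := fun {x} hx => by rw [hx, one_mul]
  have bpa := tt_braid hS p.2 a.2 hpa
  have bpb := tt_braid hS p.2 b.2 hpb
  have bab := tt_braid hS a.2 b.2 hab
  have bab' := tt_braid hS hpap b.2 hab'
  have bba' := tt_braid hS a.2 hpbp hba'
  have e12 : (p : G) * (a * (p * b * p) * a) * p = b * (p * a * p) * b := by
    rw [← bab']; group
  have e12' : (p : G) * (b * (p * a * p) * b) * p = a * (p * b * p) * a := by
    rw [← e12, cancel pp]
  have ea : (a : G) * (p * (a * b * a) * p) * a = b * (p * a * p) * b := by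
    rw [← bab', bpa]; group
  have ea' : (a : G) * (b * (p * a * p) * b) * a = p * (a * b * a) * p := by
    rw [← ea, cancel aa]
  have eb : (b : G) * (p * (a * b * a) * p) * b = a * (p * b * p) * a := by
    rw [bab, bba', bpb]; group
  have eb' : (b : G) * (a * (p * b * p) * a) * b = p * (a * b * a) * p := by
    rw [← eb, cancel bb]
  have hgen : ∀ i : Fin 3, ∀ v,
      (![(p : G), (a : G), (b : G)] i) * Q v * (![(p : G), (a : G), (b : G)] i) =
        Q (apThird (![![0, 0], ![1, 0], ![0, 1]] i) v) := by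
    intro i v
    have hv : v = ![0, 0] ∨ v = ![1, 0] ∨ v = ![2, 0] ∨ v = ![0, 1] ∨ v = ![0, 2] ∨
        v = ![2, 2] ∨ v = ![1, 1] ∨ v = ![2, 1] ∨ v = ![1, 2] := by
      revert v; decide +kernel
    fin_cases i <;> rcases hv with rfl | rfl | rfl | rfl | rfl | rfl | rfl | rfl | rfl
    -- conjugation by `p`
    · exact self3 pp
    · rfl
    · exact cancel pp _
    · rfl
    · exact cancel pp _
    · rfl
    · exact cancel pp _
    · exact e12
    · exact e12'
    -- conjugation by `a`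
    · exact bpa.symm
    · exact self3 aa
    · show (a : G) * (p * a * p) * a = p
      rw [bpa, cancel aa]
    · rfl
    · rfl
    · exact cancel aa _
    · exact ea
    · exact cancel aa _
    · exact ea'
    -- conjugation by `b`
    · exact bpb.symm
    · exact bab.symm
    · rfl
    · exact self3 bb
    · show (b : G) * (p * b * p) * b = p
      rw [bpb, cancel bb]
    · show (b : G) * (a * b * a) * b = a
      rw [bab, cancel bb]
    · exact eb
    · exact eb'
    · exact cancel bb _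
  have hall : ∀ u v, Q u * Q v * Q u = Q (apThird u v) := by
    let P : (Fin 2 → ZMod 3) → Prop := fun u => ∀ v, Q u * Q v * Q u = Q (apThird u v)
    have base : ∀ i : Fin 3, P (![![0, 0], ![1, 0], ![0, 1]] i) := by
      intro i v
      have h : Q (![![0, 0], ![1, 0], ![0, 1]] i) = ![(p : G), (a : G), (b : G)] i := by
        fin_cases i <;> rfl
      rw [h, hgen i v]
    have step : ∀ u w, P u → P w → P (apThird u w) := by
      intro u w hu hw v
      have h1 : apThird u (apThird u v) = v := affinePlaneThree_model.invol u v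
      calc Q (apThird u w) * Q v * Q (apThird u w)
          = Q u * (Q w * (Q u * Q v * Q u) * Q w) * Q u := by rw [← hu w]; group
        _ = Q (apThird u (apThird w (apThird u v))) := by rw [hu v, hw, hu]
        _ = _ := by rw [affinePlaneThree_model.distrib u w, h1]
    intro u
    have hu : u = ![0, 0] ∨ u = ![1, 0] ∨ u = ![0, 1] ∨ u = apThird ![0, 0] ![1, 0] ∨
        u = apThird ![0, 0] ![0, 1] ∨ u = apThird ![1, 0] ![0, 1] ∨
        u = apThird ![0, 0] (apThird ![1, 0] ![0, 1]) ∨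
        u = apThird ![1, 0] (apThird ![0, 0] ![0, 1]) ∨
        u = apThird ![0, 1] (apThird ![0, 0] ![1, 0]) := by
      revert u; decide +kernel
    rcases hu with rfl | rfl | rfl | rfl | rfl | rfl | rfl | rfl | rfl
    exacts [base 0, base 1, base 2, step _ _ (base 0) (base 1), step _ _ (base 0) (base 2),
      step _ _ (base 1) (base 2), step _ _ (base 0) (step _ _ (base 1) (base 2)),
      step _ _ (base 1) (step _ _ (base 0) (base 2)),
      step _ _ (base 2) (step _ _ (base 0) (base 1))]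
  have hinj : ∀ u v, Q u = Q v → u = v := by
    intro u v huv
    by_contra hne
    have htr : ∀ w, Q (w + (u - v)) = Q w := by
      intro w
      have h := (hall u (-v - (w + (u - v)))).symm.trans
        ((congrArg (fun z => z * Q (-v - (w + (u - v))) * z) huv).trans
          (hall v (-v - (w + (u - v)))))
      rw [show apThird u (-v - (w + (u - v))) = w by unfold apThird; abel,
        show apThird v (-v - (w + (u - v))) = w + (u - v) by unfold apThird; abel] at h
      exact h.symm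
    have hcases : ∀ t : Fin 2 → ZMod 3, t ≠ 0 → (t = ![1, 0] ∨ t = ![2, 0]) ∨
        (t = ![0, 1] ∨ t = ![0, 2]) ∨ (t = ![1, 1] ∨ t = ![2, 2]) ∨
        (t = ![1, 2] ∨ t = ![2, 1]) := by
      decide +kernel
    have hrev : ∀ t w, (∀ x, Q (x + t) = Q x) → Q (w + -t) = Q w := fun t w ht => by
      rw [← ht (w + -t), neg_add_cancel_right]
    have hpos : ∀ t, t = u - v ∨ t = -(u - v) → ∀ w, Q (w + t) = Q w := by
      rintro t (rfl | rfl) w
      exacts [htr w, hrev _ w htr]
    rcases hcases _ (sub_ne_zero.2 hne) with h | h | h | h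
    · have := hpos ![1, 0] (h.imp (·.symm) fun e => by rw [e]; decide) ![0, 0]
      have h' : (a : G) = p := this
      exact hpa (h' ▸ Commute.refl _)
    · have := hpos ![0, 1] (h.imp (·.symm) fun e => by rw [e]; decide) ![0, 0]
      have h' : (b : G) = p := this
      exact hpb (h' ▸ Commute.refl _)
    · have := hpos ![1, 1] (h.imp (·.symm) fun e => by rw [e]; decide) ![0, 2]
      have h' : (a : G) = p * b * p := this
      exact hba' (h' ▸ Commute.refl _)
    · have := hpos ![1, 2] (h.imp (·.symm) fun e => by rw [e]; decide) ![0, 1]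
      have h' : (a : G) = b := this
      exact hab (h' ▸ Commute.refl _)
  let q : (Fin 2 → ZMod 3) → D := fun v => ⟨Q v, hqD v⟩
  have hnc : ∀ u v, apThird u v ≠ v → ¬ Commute (Q u) (Q v) := by
    intro u v h hc
    apply h
    apply hinj
    rw [← hall u v, hc.eq, mul_assoc, tt_mul_self hS (hqD u), mul_one]
  have hm : ∀ u v, apThird u v ≠ v → Q (apThird u v) = Q v * Q u * (Q v)⁻¹ := by
    intro u v h
    rw [← hall u v, tt_braid hS (hqD u) (hqD v) (hnc u v h), tt_inv hS (hqD v)]
  refine ttPlane_iso hS affinePlaneThree_model q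
    (fun u v e => hinj u v (congrArg Subtype.val e))
    (fun u v => ⟨fun h => ?_, fun h => by_contra fun hne => hnc u v hne h⟩) hm ?_ ?_
  · have : u = v := by
      by_contra hne; exact (ap_facts u v).2 hne h
    exact this ▸ Commute.refl _
  · intro U hTU hU
    have step : ∀ u v, apThird u v ≠ v → q u ∈ U → q v ∈ U → q (apThird u v) ∈ U := by
      intro u v h hu hv
      refine hU _ ⟨q u, q v, hnc u v h, rfl⟩ (q u) hu (q v) hv
        (fun e => (ap_facts u v).1 h (hinj u v (congrArg Subtype.val e))) (Or.inl rfl)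
        (Or.inr (Or.inl rfl)) (Or.inr (Or.inr (hm u v h)))
    have q0 : q ![0, 0] ∈ U := by
      rw [show q ![0, 0] = p from Subtype.ext rfl]; exact hTU hp
    have q1 : q ![1, 0] ∈ U := by
      rw [show q ![1, 0] = a from Subtype.ext rfl]; exact hTU ha
    have q2 : q ![0, 1] ∈ U := by
      rw [show q ![0, 1] = b from Subtype.ext rfl]; exact hTU hb
    have q01 := step _ _ (by decide +kernel) q0 q1
    have q02 := step _ _ (by decide +kernel) q0 q2
    have q12 := step _ _ (by decide +kernel) q1 q2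
    have r0 := step ![0, 0] _ (by decide +kernel) q0 q12
    have r1 := step ![1, 0] _ (by decide +kernel) q1 q02
    have r2 := step ![0, 1] _ (by decide +kernel) q2 q01
    rintro _ ⟨s, rfl⟩
    rcases (by revert s; decide +kernel : s = ![0, 0] ∨ s = ![1, 0] ∨ s = ![0, 1] ∨
        s = apThird ![0, 0] ![1, 0] ∨ s = apThird ![0, 0] ![0, 1] ∨ s = apThird ![1, 0] ![0, 1] ∨
        s = apThird ![0, 0] (apThird ![1, 0] ![0, 1]) ∨
        s = apThird ![1, 0] (apThird ![0, 0] ![0, 1]) ∨
        s = apThird ![0, 1] (apThird ![0, 0] ![1, 0])) with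
      rfl | rfl | rfl | rfl | rfl | rfl | rfl | rfl | rfl
    exacts [q0, q1, q2, q01, q02, q12, r0, r1, r2]
  · intro z hz
    obtain ⟨v, hv⟩ := hT z hz
    exact ⟨v, Subtype.ext hv⟩

theorem threeTranspositionLines_fischer (hD : Cfsg.IsThreeTranspositionGroup D) :
    Cfsg.IsFischerSpace (Cfsg.threeTranspositionLines D) := by
  have hS := hD.1
  refine ⟨fun l hl m hm x y hxy hxl hyl hxm hym => ?_, ?_, fun l hl m hm hlm hne => ?_⟩
  · exact (ttLine_eq hS hl hxl hyl hxy).2.trans (ttLine_eq hS hm hxm hym hxy).2.symm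
  · rintro _ ⟨x, y, hc, rfl⟩
    exact ttLine_ncard hc (hD.2.1 _ _ x.2)
  obtain ⟨p, hpl, hpm⟩ := hne
  have h3 : ∀ k ∈ Cfsg.threeTranspositionLines D, k.ncard = 3 := by
    rintro _ ⟨x, y, hc, rfl⟩
    exact ttLine_ncard hc (hD.2.1 _ _ x.2)
  have other : ∀ k ∈ Cfsg.threeTranspositionLines D, p ∈ k →
      ∃ a a' : D, a ∈ k ∧ a ≠ p ∧ ¬ Commute (p : G) a ∧ (a' : G) = p * a * p ∧ a' ∈ k ∧ a' ≠ p ∧
        k = {p, a, a'} := by
    intro k hk hpk
    obtain ⟨a, hak, hap⟩ := Set.exists_ne_of_one_lt_ncard (by rw [h3 k hk]; norm_num) p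
    obtain ⟨hc, e⟩ := ttLine_eq hS hk hpk hak hap.symm
    obtain ⟨-, e'⟩ := ttLine_eq hS hk hak hpk hap
    have hw : (p : G) * a * p ∈ D := by
      rw [← tt_conj_eq hS p.2]; exact hD.2.1 _ _ a.2
    have hmem : (⟨_, hw⟩ : D) ∈ k := by
      rw [e']; exact Or.inr (Or.inr (by rw [tt_inv hS p.2]))
    refine ⟨a, ⟨_, hw⟩, hak, hap, hc, rfl, hmem, fun h => hap (Subtype.ext ?_), ?_⟩
    · have h' : (p : G) * a * p = p := congrArg Subtype.val h
      calc (a : G) = p * (p * a * p) * p := by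
            rw [show (p : G) * (p * a * p) * p = (p * p) * a * (p * p) by group,
              tt_mul_self hS p.2, one_mul, mul_one]
        _ = p := by rw [h', tt_mul_self hS p.2, one_mul]
    · rw [e']
      ext z
      simp only [Set.mem_ofPred_eq, Set.mem_insert_iff, Set.mem_singleton_iff, Subtype.ext_iff,
        tt_inv hS p.2]
      tauto
  obtain ⟨a, a', hal, hap, hpa, ha', hal', hap', hl'⟩ := other l hl hpl
  obtain ⟨b, b', hbm, hbp, hpb, hb', hbm', hbp', hm'⟩ := other m hm hpm
  have hbl : b ∉ l := fun h => hlm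
    ((ttLine_eq hS hl hpl h hbp.symm).2.trans (ttLine_eq hS hm hpm hbm hbp.symm).2.symm)
  have hb'l : b' ∉ l := fun h => hlm
    ((ttLine_eq hS hl hpl h hbp'.symm).2.trans (ttLine_eq hS hm hpm hbm' hbp'.symm).2.symm)
  set T := l ∪ m with hTdef
  have hmemT : ∀ z ∈ T, z = p ∨ z = a ∨ z = a' ∨ z = b ∨ z = b' := by
    intro z hz
    rw [hTdef, hl', hm'] at hz
    simp only [Set.mem_union, Set.mem_insert_iff, Set.mem_singleton_iff] at hz
    tauto
  have dual : ∀ {a a' b b' : D}, a ∈ T → p ∈ T → b ∈ T → a ≠ b → Commute (a : G) b →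
      ¬ Commute (p : G) a → ¬ Commute (p : G) b → (a' : G) = p * a * p →
      (b' : G) = p * b * p → (∀ z ∈ T, z = p ∨ z = a ∨ z = a' ∨ z = b ∨ z = b') →
      Isomorphic (restrict (Cfsg.threeTranspositionLines D)
        (LineSystem.span (Cfsg.threeTranspositionLines D) T)) Cfsg.dualAffinePlaneTwo := by
    intro a a' b b' haT hpT hbT hne hab hpa hpb ha' hb' hTm
    refine ttPlane_dual hD hne hab (fun h => hpa h.symm) hpb haT hpT hbT fun z hz => ⟨?_, ?_⟩
    · have hA : ∀ w ∈ ({(a : G), (p : G), (b : G)} : Set G),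
          w ∈ Subgroup.closure ({(a : G), (p : G), (b : G)} : Set G) :=
        fun w hw => Subgroup.subset_closure hw
      rcases hTm z hz with rfl | rfl | rfl | rfl | rfl
      · exact hA _ (by simp)
      · exact hA _ (by simp)
      · rw [ha']; exact mul_mem (mul_mem (hA _ (by simp)) (hA _ (by simp))) (hA _ (by simp))
      · exact hA _ (by simp)
      · rw [hb']; exact mul_mem (mul_mem (hA _ (by simp)) (hA _ (by simp))) (hA _ (by simp))
    · intro φ h01 h12 h23
      rcases hTm z hz with rfl | rfl | rfl | rfl | rfl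
      · exact ⟨⟨{1, 2}, rfl⟩, h12⟩
      · exact ⟨⟨{0, 1}, rfl⟩, h01⟩
      · refine ⟨⟨{0, 2}, rfl⟩, ?_⟩
        rw [ha', ← h12, ← h01, ← map_mul, ← map_mul]
        exact congrArg φ (by decide +kernel)
      · exact ⟨⟨{2, 3}, rfl⟩, h23⟩
      · refine ⟨⟨{1, 3}, rfl⟩, ?_⟩
        rw [hb', ← h12, ← h23, ← map_mul, ← map_mul]
        exact congrArg φ (by decide +kernel)
  have hne_ab : a ≠ b := fun h => hbl (h ▸ hal)
  by_cases hab : Commute (a : G) b
  · exact Or.inl (dual (Or.inl hal) (Or.inl hpl) (Or.inr hbm) hne_ab hab hpa hpb ha' hb' hmemT)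
  have pp := tt_mul_self hS p.2
  have hpa' : ¬ Commute (p : G) a' := (ttLine_eq hS hl hpl hal' hap'.symm).1
  have hpb' : ¬ Commute (p : G) b' := (ttLine_eq hS hm hpm hbm' hbp'.symm).1
  have back : ∀ {x x' : D}, (x' : G) = p * x * p → (x : G) = p * x' * p := fun {x x'} h => by
    rw [h, show (p : G) * (p * x * p) * p = (p * p) * x * (p * p) by group, pp, one_mul, mul_one]
  by_cases hab' : Commute (a' : G) b
  · refine Or.inl (dual (Or.inl hal') (Or.inl hpl) (Or.inr hbm) (fun h => hbl (h ▸ hal')) hab'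
      hpa' hpb (back ha') hb' fun z hz => ?_)
    have := hmemT z hz; tauto
  refine Or.inr (ttPlane_affine hD hpa hpb hab (ha' ▸ hab') ?_ (Or.inl hal) (Or.inl hpl)
    (Or.inr hbm) ?_)
  · intro h
    apply hab'
    have h' := (commute_conj_iff (p : G) _ _).2 h
    rw [tt_inv hS p.2, ← ha', ← hb', ← back hb'] at h'
    exact h'
  · intro z hz
    rcases hmemT z hz with rfl | rfl | rfl | rfl | rfl
    exacts [⟨![0, 0], rfl⟩, ⟨![1, 0], rfl⟩, ⟨![2, 0], ha'.symm⟩, ⟨![0, 1], rfl⟩,
      ⟨![0, 2], hb'.symm⟩]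

end Cfsg.Agent.Components
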