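import Cfsg.Agent.Components.TTStructure

/-!
Primitive classes of 3-transpositions.
-/

set_option autoImplicit false

namespace Cfsg.Agent.Components

universe u

open Cfsg.Agent.H44
open scoped commutatorElement

variable {G : Type u} [Group G] {D : Set G}

theorem eq_of_central_mul [Finite G] (hD : IsThreeTranspositionClass D)
    (hD2 : ∃ a ∈ D, ∃ b ∈ D, a ≠ b) (h2 : Cfsg.pCore 2 G ≤ Subgroup.center G) {u v : G}
    (hu : u ∈ D) (hv : v ∈ D) (h : u * v ∈ Subgroup.center G) : v = u := by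
  refine eq_of_twin hD hD2 h2 hu hv fun e _ => ?_
  have hev : v = u * (u * v) := by rw [← mul_assoc, tt_mul_self hD.1 hu, one_mul]
  have hz : Commute (u * v) e := (Subgroup.mem_center_iff.1 h e).symm
  constructor
  · intro hc
    have huv : u = v * (u * v)⁻¹ := by
      rw [mul_inv_rev, tt_inv hD.1 hu, tt_inv hD.1 hv, ← mul_assoc, tt_mul_self hD.1 hv, one_mul]
    exact huv.symm ▸ hc.mul_left hz.inv_left
  · intro hc
    exact hev.symm ▸ hc.mul_left hz

theorem sup_zpowers_eq_top_of_index [Finite G] (hD : IsThreeTranspositionClass D)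
    {L : Subgroup G} [L.Normal] (hidx : L.index ≤ 2) {d : G} (hd : d ∈ D) :
    L ⊔ Subgroup.zpowers d = ⊤ := by
  by_cases hdL : d ∈ L
  · rw [← top_le_iff, ← hD.2.2, Subgroup.closure_le]
    intro e he
    obtain ⟨g, rfl⟩ := tt_class_conj hD hd he
    exact Subgroup.mem_sup_left ((inferInstance : L.Normal).conj_mem d hdL g)
  · have hlt : L < L ⊔ Subgroup.zpowers d := lt_of_le_of_ne le_sup_left fun e =>
      hdL (e.symm ▸ Subgroup.mem_sup_right (Subgroup.mem_zpowers d))
    have h1 := Subgroup.index_strictAnti hlt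
    have h2 := Nat.pos_of_ne_zero (Subgroup.index_ne_zero_of_finite (H := L ⊔ Subgroup.zpowers d))
    exact Subgroup.index_eq_one.1 (by omega)

theorem index_le_two_of_sup_zpowers [Finite G] {L : Subgroup G} [L.Normal] {d : G}
    (hd : orderOf d = 2) (h : L ⊔ Subgroup.zpowers d = ⊤) : L.index ≤ 2 := by
  have hm : (Subgroup.zpowers d).map (QuotientGroup.mk' L) = ⊤ := by
    rw [← Subgroup.map_top_of_surjective _ (QuotientGroup.mk'_surjective L), ← h, Subgroup.map_sup,
      QuotientGroup.map_mk'_self, bot_sup_eq]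
  rw [Subgroup.index_eq_card, ← Subgroup.card_top, ← hm, MonoidHom.map_zpowers, Nat.card_zpowers]
  exact Nat.le_of_dvd (by norm_num) (hd ▸ orderOf_map_dvd (QuotientGroup.mk' L) d)

theorem commutator_sup_zpowers (hD : IsThreeTranspositionClass D) {d : G} (hd : d ∈ D) :
    commutator G ⊔ Subgroup.zpowers d = ⊤ := by
  rw [← top_le_iff, ← hD.2.2, Subgroup.closure_le]
  intro e he
  obtain ⟨g, rfl⟩ := tt_class_conj hD hd he
  rw [show g * d * g⁻¹ = ⁅g, d⁆ * d by rw [commutatorElement_def]; group]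
  exact Subgroup.mul_mem_sup (Subgroup.commutator_mem_commutator (Subgroup.mem_top g)
    (Subgroup.mem_top d)) (Subgroup.mem_zpowers d)

/-- A block, as a block system in the sense of `TTBlocks`. -/
def blockSystem (hD : IsThreeTranspositionClass D) {B : Set G} (hBD : B ⊆ D) (hne : B.Nonempty)
    (hB : ∀ g : G, (fun x => g * x * g⁻¹) '' B = B ∨ Disjoint ((fun x => g * x * g⁻¹) '' B) B) :
    TTBlocks D where
  r u v := u ∈ D ∧ v ∈ D ∧ ∃ g : G, g⁻¹ * u * g ∈ B ∧ g⁻¹ * v * g ∈ B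
  refl {u} hu := by
    obtain ⟨b, hb⟩ := hne
    obtain ⟨g, rfl⟩ := tt_class_conj hD (hBD hb) hu
    exact ⟨hu, hu, g, by rwa [show g⁻¹ * (g * b * g⁻¹) * g = b by group],
      by rwa [show g⁻¹ * (g * b * g⁻¹) * g = b by group]⟩
  symm h := ⟨h.2.1, h.1, h.2.2.choose, h.2.2.choose_spec.symm⟩
  trans {u v w} h h' := by
    obtain ⟨hu, -, g, hgu, hgv⟩ := h
    obtain ⟨-, hw, k, hkv, hkw⟩ := h'
    refine ⟨hu, hw, k, ?_, hkw⟩
    have hmem : k⁻¹ * u * k ∈ (fun x => k⁻¹ * g * x * (k⁻¹ * g)⁻¹) '' B :=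
      ⟨_, hgu, by group⟩
    rcases hB (k⁻¹ * g) with e | e
    · exact e ▸ hmem
    · exact absurd hkv (Set.disjoint_left.1 e ⟨_, hgv, by group⟩)
  conj g {u v} h := by
    obtain ⟨hu, hv, k, hku, hkv⟩ := h
    exact ⟨tt_invariant hD g hu, tt_invariant hD g hv, g * k,
      by rwa [show (g * k)⁻¹ * (g * u * g⁻¹) * (g * k) = k⁻¹ * u * k by group],
      by rwa [show (g * k)⁻¹ * (g * v * g⁻¹) * (g * k) = k⁻¹ * v * k by group]⟩
  mem h := ⟨h.1, h.2.1⟩
  const {u v w} h hw hn := by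
    let r : G → G → Prop := fun u v => u ∈ D ∧ v ∈ D ∧ ∃ g : G, g⁻¹ * u * g ∈ B ∧ g⁻¹ * v * g ∈ B
    have rsymm : ∀ {a b}, r a b → r b a := fun ⟨ha, hb, g, h1, h2⟩ => ⟨hb, ha, g, h2, h1⟩
    have rtrans : ∀ {a b c}, r a b → r b c → r a c := by
      intro a b c h h'
      obtain ⟨hu, -, g, hgu, hgv⟩ := h
      obtain ⟨-, hw, k, hkv, hkw⟩ := h'
      refine ⟨hu, hw, k, ?_, hkw⟩
      rcases hB (k⁻¹ * g) with e | e
      · exact e ▸ ⟨_, hgu, by group⟩
      · exact absurd hkv (Set.disjoint_left.1 e ⟨_, hgv, by group⟩)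
    have rconj : ∀ (g : G) {a b}, r a b → r (g * a * g⁻¹) (g * b * g⁻¹) :=
      fun g {a b} ⟨ha, hb, k, h1, h2⟩ =>
        ⟨tt_invariant hD g ha, tt_invariant hD g hb, g * k,
          by rwa [show (g * k)⁻¹ * (g * a * g⁻¹) * (g * k) = k⁻¹ * a * k by group],
          by rwa [show (g * k)⁻¹ * (g * b * g⁻¹) * (g * k) = k⁻¹ * b * k by group]⟩
    have key : ∀ {a b : G}, r a b → ¬ r a w → Commute w a → Commute w b := by
      intro a b hab hna hwa
      by_contra hwb
      have hb := hab.2.1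
      have h1 : r a (w * b * w⁻¹) := by
        have := rconj w hab
        rwa [hwa.eq, mul_inv_cancel_right] at this
      rw [tt_conj_eq hD.1 hw, tt_braid hD.1 hw hb hwb, ← tt_conj_eq hD.1 hb] at h1
      have h2 : r (b * a * b⁻¹) w := by
        have := rconj b h1
        rwa [tt_conj_eq hD.1 hb (b * w * b⁻¹), tt_inv hD.1 hb,
          show b * (b * w * b) * b = (b * b) * w * (b * b) by group, tt_mul_self hD.1 hb, one_mul,
          mul_one, ← tt_conj_eq hD.1 hb] at this
      have h3 : r (b * a * b⁻¹) b := by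
        have := rconj b hab
        rwa [mul_inv_cancel_right b b] at this
      exact hna (rtrans hab (rtrans (rsymm h3) h2))
    exact ⟨key h hn, key (rsymm h) fun q => hn (rtrans h q)⟩

theorem primitive_of_index [Finite G] (hD : IsThreeTranspositionClass D)
    (hD2 : ∃ a ∈ D, ∃ b ∈ D, a ≠ b) (h2 : Cfsg.pCore 2 G ≤ Subgroup.center G)
    (h3 : Cfsg.pCore 3 G ≤ Subgroup.center G) {L : Subgroup G} [L.Normal]
    (hL : Cfsg.IsQuasisimple L)
    (hF : Cfsg.generalizedFittingSubgroup G = L ⊔ Subgroup.center G) (hidx : L.index ≤ 2) :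
    Cfsg.IsPrimitiveUnderConj D := by
  refine ⟨fun a ha b hb => tt_class_conj hD ha hb, hD2, fun B hBD hB => ?_⟩
  rw [or_iff_not_imp_left]
  intro hns
  rw [Set.not_subsingleton_iff] at hns
  obtain ⟨u, hu, v, hv, huv⟩ := hns
  set S := blockSystem hD hBD ⟨u, hu⟩ hB with hS
  have hr : S.r u v := ⟨hBD hu, hBD hv, 1, by simpa using hu, by simpa using hv⟩
  have : S.kernel.Normal := ⟨fun n hn g => S.kernel_conj hD g hn⟩
  have hK : ¬ S.kernel ≤ Subgroup.center G := fun h =>
    huv (eq_of_central_mul hD hD2 h2 (hBD hu) (hBD hv) (h (S.mul_mem_kernel hD hr))).symm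
  have hLK := le_of_normal_noncentral hD h2 h3 hL hF S.kernel hK
  have hall : ∀ g : G, S.r u (g * u * g⁻¹) := by
    intro g
    have hg : g ∈ L ⊔ Subgroup.zpowers u := by
      rw [sup_zpowers_eq_top_of_index hD hidx (hBD hu)]; exact Subgroup.mem_top g
    obtain ⟨l, hl, z, hz, rfl⟩ := Subgroup.mem_sup_of_normal_left.1 hg
    obtain ⟨n, rfl⟩ := Subgroup.mem_zpowers_iff.1 hz
    have := hLK hl u (hBD hu)
    rwa [show l * u * l⁻¹ = l * u ^ n * u * (l * u ^ n)⁻¹ by group] at this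
  refine Set.Subset.antisymm hBD fun x hx => ?_
  obtain ⟨g, rfl⟩ := tt_class_conj hD (hBD hu) hx
  obtain ⟨-, -, k, hku, hkx⟩ := hall g
  rcases hB k with e | e
  · exact e ▸ ⟨_, hkx, by group⟩
  · exact absurd hu (Set.disjoint_left.1 e ⟨_, hku, by group⟩)

theorem index_le_two_of_connected [Finite G] (hD : IsThreeTranspositionClass D)
    {L : Subgroup G} [L.Normal] (hL : Cfsg.IsQuasisimple L)
    (hc : (Cfsg.commutingGraph D).Connected) : L.index ≤ 2 := by
  obtain ⟨d, hd, -⟩ := hD.2.1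
  refine index_le_two_of_sup_zpowers (hD.1.1 d hd) ?_
  have key : ∀ y : D, Relation.ReflTransGen (Cfsg.commutingGraph D).Adj ⟨d, hd⟩ y →
      d⁻¹ * (y : G) ∈ L := by
    intro y hy
    induction hy with
    | refl => simp
    | @tail p q _ hpq ih =>
      simp only [Cfsg.commutingGraph, SimpleGraph.fromRel_adj] at hpq
      have hpq' : Commute (p : G) (q : G) := hpq.2.elim id Commute.symm
      have h1 : (p : G)⁻¹ * q ∈ L := width_one_image hD hL p.2 q.2 (by
        rw [hpq'.eq, mul_inv_cancel_right, mul_inv_cancel]; exact one_mem _)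
      have := mul_mem ih h1
      rwa [mul_assoc, mul_inv_cancel_left] at this
  rw [← top_le_iff, ← hD.2.2, Subgroup.closure_le]
  intro e he
  have h := key ⟨e, he⟩ ((SimpleGraph.reachable_iff_reflTransGen _ _).1 (hc.preconnected _ _))
  rw [show e = d * (d⁻¹ * e) by group]
  exact mul_mem (Subgroup.mem_sup_right (Subgroup.mem_zpowers d)) (Subgroup.mem_sup_left h)

theorem class_of_primitive (hD : Cfsg.IsThreeTranspositionGroup D)
    (hprim : Cfsg.IsPrimitiveUnderConj D) : IsThreeTranspositionClass D := by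
  obtain ⟨a, ha, -⟩ := hprim.2.1
  refine ⟨hD.1, ⟨a, ha, Set.ext fun x => ⟨fun hx => isConj_iff.2 (hprim.1 a ha x hx),
    fun hx => ?_⟩⟩, hD.2.2⟩
  obtain ⟨g, rfl⟩ := isConj_iff.1 hx
  exact hD.2.1 g a ha

/-- The orbit of a member under a normal subgroup is trivial or everything. -/
theorem orbit_eq_of_primitive (hD : IsThreeTranspositionClass D)
    (hprim : Cfsg.IsPrimitiveUnderConj D) (N : Subgroup G) [N.Normal] {d : G} (hd : d ∈ D) :
    N ≤ Subgroup.center G ∨ ∀ e ∈ D, ∃ n ∈ N, e = n * d * n⁻¹ := by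
  set B : Set G := {e | ∃ n ∈ N, e = n * d * n⁻¹} with hBdef
  have hBD : B ⊆ D := by rintro _ ⟨n, -, rfl⟩; exact tt_invariant hD n hd
  have hblock : ∀ g : G, (fun x => g * x * g⁻¹) '' B = B ∨
      Disjoint ((fun x => g * x * g⁻¹) '' B) B := by
    intro g
    by_cases hint : Disjoint ((fun x => g * x * g⁻¹) '' B) B
    · exact Or.inr hint
    left
    obtain ⟨y, ⟨_, ⟨n, hn, rfl⟩, hy⟩, m, hm, hm'⟩ := Set.not_disjoint_iff.1 hint
    have hgd : g * d * g⁻¹ = (g * n⁻¹ * g⁻¹ * m) * d * (g * n⁻¹ * g⁻¹ * m)⁻¹ := by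
      calc g * d * g⁻¹ = g * n⁻¹ * g⁻¹ * (g * (n * d * n⁻¹) * g⁻¹) * (g * n⁻¹ * g⁻¹)⁻¹ := by group
        _ = g * n⁻¹ * g⁻¹ * (m * d * m⁻¹) * (g * n⁻¹ * g⁻¹)⁻¹ := by rw [← hm', ← hy]
        _ = _ := by group
    set c := g * n⁻¹ * g⁻¹ * m with hc
    have hcN : c ∈ N := mul_mem ((inferInstance : N.Normal).conj_mem _ (inv_mem hn) g) hm
    ext x
    constructor
    · rintro ⟨_, ⟨k, hk, rfl⟩, rfl⟩
      refine ⟨g * k * g⁻¹ * c, mul_mem ((inferInstance : N.Normal).conj_mem _ hk g) hcN, ?_⟩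
      calc g * (k * d * k⁻¹) * g⁻¹ = g * k * g⁻¹ * (g * d * g⁻¹) * (g * k * g⁻¹)⁻¹ := by group
        _ = _ := by rw [hgd]; group
    · rintro ⟨k, hk, rfl⟩
      refine ⟨g⁻¹ * (k * c⁻¹) * g * d * (g⁻¹ * (k * c⁻¹) * g)⁻¹,
        ⟨_, ?_, rfl⟩, ?_⟩
      · have := (inferInstance : N.Normal).conj_mem _ (mul_mem hk (inv_mem hcN)) g⁻¹
        rwa [inv_inv] at this
      · show g * (g⁻¹ * (k * c⁻¹) * g * d * (g⁻¹ * (k * c⁻¹) * g)⁻¹) * g⁻¹ = k * d * k⁻¹
        calc g * (g⁻¹ * (k * c⁻¹) * g * d * (g⁻¹ * (k * c⁻¹) * g)⁻¹) * g⁻¹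
            = k * c⁻¹ * (g * d * g⁻¹) * c * k⁻¹ := by group
          _ = k * d * k⁻¹ := by rw [hgd]; group
  rcases hprim.2.2 B hBD hblock with h | h
  · left
    refine le_center_of_commute hD hd fun x hx => ?_
    have := h ⟨x, hx, rfl⟩ ⟨1, one_mem _, rfl⟩
    rw [one_mul, inv_one, mul_one, mul_inv_eq_iff_eq_mul] at this
    exact this.symm
  · exact Or.inr fun e he => (h.symm ▸ he : e ∈ B)

theorem pCore_two_le_center [Finite G] (hD : IsThreeTranspositionClass D)
    (hprim : Cfsg.IsPrimitiveUnderConj D) : Cfsg.pCore 2 G ≤ Subgroup.center G := by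
  obtain ⟨d, hd, -⟩ := hD.2.1
  rcases orbit_eq_of_primitive hD hprim (Cfsg.pCore 2 G) hd with h | h
  · exact h
  exfalso
  have hall : ∀ e ∈ D, ∀ f ∈ D, Commute e f := by
    intro e he f hf
    have hde : ∀ x ∈ D, d * x ∈ Cfsg.pCore 2 G := by
      intro x hx
      obtain ⟨n, hn, rfl⟩ := h x hx
      exact (mul_mem_coset_iff hD.1 hd _).1 (coset_of_conj hD hd hn).2
    exact (twin_of_pCore_two hD.1 hd he (hde e he) f hf).2 (commute_of_pCore_two hD.1 hd hf (hde f hf))
  obtain ⟨a, ha, b, hb, hab⟩ := hprim.2.1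
  obtain ⟨c, hc, hc'⟩ := exists_noncommute hD ⟨a, ha, b, hb, hab⟩ hd
  exact hc' (hall d hd c hc)

theorem pCore_three_le_center [Finite G] (hD : IsThreeTranspositionClass D)
    (hprim : Cfsg.IsPrimitiveUnderConj D) (hw : ∃ a ∈ D, ∃ b ∈ D, a ≠ b ∧ Commute a b) :
    Cfsg.pCore 3 G ≤ Subgroup.center G := by
  obtain ⟨a, ha, b, hb, hab, hc⟩ := hw
  rcases orbit_eq_of_primitive hD hprim (Cfsg.pCore 3 G) ha with h | h
  · exact h
  exfalso
  obtain ⟨n, hn, rfl⟩ := h b hb
  exact noncommute_of_pCore_three hD.1 ha hb (fun e => hab e.symm)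
    ((mul_mem_coset_iff hD.1 ha _).1 (coset_of_conj hD ha hn).2) hc

theorem index_le_two_of_primitive [Finite G] (hD : IsThreeTranspositionClass D)
    (hprim : Cfsg.IsPrimitiveUnderConj D) {L : Subgroup G} [L.Normal]
    (hL : Cfsg.IsQuasisimple L) : L.index ≤ 2 := by
  obtain ⟨d, hd, -⟩ := hD.2.1
  refine index_le_two_of_sup_zpowers (hD.1.1 d hd) ?_
  rcases orbit_eq_of_primitive hD hprim L hd with h | h
  · exact absurd (fun x hx => (Subgroup.mem_center_iff.1 (h hx) d : d * x = x * d))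
      (qsSub_not_commute hD hL hd)
  rw [← top_le_iff, ← hD.2.2, Subgroup.closure_le]
  intro e he
  obtain ⟨n, hn, rfl⟩ := h e he
  exact mul_mem (mul_mem (Subgroup.mem_sup_left hn) (Subgroup.mem_sup_right (Subgroup.mem_zpowers d)))
    (Subgroup.mem_sup_left (inv_mem hn))

/-- Adjacency of commuting members. -/
def ttAdj (D : Set G) (p q : G) : Prop := p ∈ D ∧ q ∈ D ∧ Commute p q

theorem commute_chain_of_primitive (hD : IsThreeTranspositionClass D)
    (hprim : Cfsg.IsPrimitiveUnderConj D) (hw : ∃ a ∈ D, ∃ b ∈ D, a ≠ b ∧ Commute a b) {d e : G}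
    (hd : d ∈ D) (he : e ∈ D) : Relation.ReflTransGen (ttAdj D) d e := by
  set B : Set G := {x | x ∈ D ∧ Relation.ReflTransGen (ttAdj D) d x} with hBdef
  have hsymm : Std.Symm (ttAdj D) := ⟨fun p q h => ⟨h.2.1, h.1, h.2.2.symm⟩⟩
  have rs : ∀ {p q : G}, Relation.ReflTransGen (ttAdj D) p q →
      Relation.ReflTransGen (ttAdj D) q p := fun h =>
    Relation.ReflTransGen.stdSymm.symm _ _ h
  have hconj : ∀ (g : G) {p q : G}, Relation.ReflTransGen (ttAdj D) p q →
      Relation.ReflTransGen (ttAdj D) (g * p * g⁻¹) (g * q * g⁻¹) := fun g {p q} h =>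
    Relation.ReflTransGen.lift (fun x => g * x * g⁻¹)
      (fun _ _ h => ⟨tt_invariant hD g h.1, tt_invariant hD g h.2.1,
        (commute_conj_iff g _ _).2 h.2.2⟩) _ _ h
  have hblock : ∀ g : G, (fun x => g * x * g⁻¹) '' B = B ∨
      Disjoint ((fun x => g * x * g⁻¹) '' B) B := by
    intro g
    by_cases hint : Disjoint ((fun x => g * x * g⁻¹) '' B) B
    · exact Or.inr hint
    left
    obtain ⟨y, ⟨z, hz, hy⟩, hyB⟩ := Set.not_disjoint_iff.1 hint
    have hgd : Relation.ReflTransGen (ttAdj D) d (g * d * g⁻¹) :=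
      hyB.2.trans (hy ▸ rs (hconj g hz.2))
    ext x
    constructor
    · rintro ⟨w, hw, rfl⟩
      exact ⟨tt_invariant hD g hw.1, hgd.trans (hconj g hw.2)⟩
    · rintro ⟨hxD, hx⟩
      refine ⟨g⁻¹ * x * g⁻¹⁻¹, ⟨tt_invariant hD g⁻¹ hxD, ?_⟩, by group⟩
      have := hconj g⁻¹ ((rs hgd).trans hx)
      rwa [show g⁻¹ * (g * d * g⁻¹) * g⁻¹⁻¹ = d by group] at this
  rcases hprim.2.2 B (fun x hx => hx.1) hblock with h | h
  · exfalso
    obtain ⟨a, ha, b, hb, hab, hc⟩ := hw
    obtain ⟨g, rfl⟩ := tt_class_conj hD ha hd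
    have hb' := tt_invariant hD g hb
    have := h ⟨hb', Relation.ReflTransGen.single
      ⟨tt_invariant hD g ha, hb', (commute_conj_iff g a b).2 hc⟩⟩
      ⟨tt_invariant hD g ha, Relation.ReflTransGen.refl⟩
    exact hab (mul_left_cancel (mul_right_cancel this)).symm
  · exact (h.symm ▸ he : e ∈ B).2

theorem connected_of_primitive (hD : IsThreeTranspositionClass D)
    (hprim : Cfsg.IsPrimitiveUnderConj D) (hw : ∃ a ∈ D, ∃ b ∈ D, a ≠ b ∧ Commute a b) :
    (Cfsg.commutingGraph D).Connected := by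
  obtain ⟨d, hd, -⟩ := hD.2.1
  have key : ∀ e, Relation.ReflTransGen (ttAdj D) d e → ∀ he : e ∈ D,
      (Cfsg.commutingGraph D).Reachable ⟨d, hd⟩ ⟨e, he⟩ := by
    intro e h
    induction h with
    | refl => exact fun _ => SimpleGraph.Reachable.refl _
    | @tail p q _ hpq ih =>
      intro hq
      by_cases hne : p = q
      · subst hne; exact ih hq
      refine (ih hpq.1).trans (SimpleGraph.Adj.reachable ?_)
      simp only [Cfsg.commutingGraph, SimpleGraph.fromRel_adj]
      exact ⟨fun e => hne (congrArg Subtype.val e), Or.inl hpq.2.2⟩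
  have : Nonempty D := ⟨⟨d, hd⟩⟩
  refine ⟨fun x y => ?_⟩
  exact (key _ (commute_chain_of_primitive hD hprim hw hd x.2) x.2).symm.trans
    (key _ (commute_chain_of_primitive hD hprim hw hd y.2) y.2)

/-- Fischer's lemma when the solvable normal subgroups are central. -/
theorem dx_connected_central [Finite G] (hD : IsThreeTranspositionClass D)
    (hD2 : ∃ a ∈ D, ∃ b ∈ D, a ≠ b) (h2 : Cfsg.pCore 2 G ≤ Subgroup.center G)
    (h3 : Cfsg.pCore 3 G ≤ Subgroup.center G) {L : Subgroup G} [L.Normal]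
    (hL : Cfsg.IsQuasisimple L)
    (hF : Cfsg.generalizedFittingSubgroup G = L ⊔ Subgroup.center G)
    {x y y' : G} (hx : x ∈ D) (hy : InDx D x y) (hy' : InDx D x y') :
    Relation.ReflTransGen (dxAdj D x) y y' := by
  let π := QuotientGroup.mk' (Subgroup.center G)
  have hπ : Function.Surjective π := QuotientGroup.mk'_surjective _
  have hinj : ∀ a ∈ D, ∀ b ∈ D, π a = π b → a = b := by
    intro a ha b hb h
    have h1 : a⁻¹ * b ∈ Subgroup.center G := QuotientGroup.eq.1 h
    exact (eq_of_central_mul hD hD2 h2 ha hb ((mul_mem_coset_iff hD.1 ha _).1 h1)).symm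
  have hord : ∀ a ∈ D, orderOf (π a) = 2 := by
    intro a ha
    refine orderOf_eq_prime (by rw [← map_pow, pow_two, tt_mul_self hD.1 ha, map_one]) fun h => ?_
    obtain ⟨p, hp, q, hq, hpq⟩ := hD2
    have key : ∀ c ∈ D, c = a := by
      intro c hc
      obtain ⟨g, rfl⟩ := tt_class_conj hD ha hc
      exact hinj _ hc _ ha (by rw [map_mul, map_mul, h, mul_one, map_inv, mul_inv_cancel])
    exact hpq ((key p hp).trans (key q hq).symm)
  have hcomm : ∀ a ∈ D, ∀ b ∈ D, Commute (π a) (π b) → Commute a b := by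
    intro a ha b hb h
    by_contra hc
    have e3 : π (a * b) ^ 3 = 1 := by rw [← map_pow, tt_cube hD.1 ha hb hc, map_one]
    have e2 : π (a * b) ^ 2 = 1 := by
      rw [map_mul, h.mul_pow, ← map_pow, ← map_pow, pow_two, pow_two, tt_mul_self hD.1 ha,
        tt_mul_self hD.1 hb, map_one, one_mul]
    have hz : a * b ∈ Subgroup.center G :=
      (QuotientGroup.eq_one_iff _).1 (eq_one_of_two_three e2 e3)
    exact hc (eq_of_central_mul hD hD2 h2 ha hb hz ▸ Commute.refl a)
  have hD' : IsThreeTranspositionClass (π '' D) := by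
    refine ⟨⟨?_, ?_⟩, ?_, ?_⟩
    · rintro _ ⟨a, ha, rfl⟩; exact hord a ha
    · rintro _ ⟨a, ha, rfl⟩ _ ⟨b, hb, rfl⟩
      rcases hD.1.2 a ha b hb with e | e
      · exact Or.inl (by rw [← map_mul, ← map_pow, e, map_one])
      · exact Or.inr (by rw [← map_mul, ← map_pow, e, map_one])
    · refine ⟨π x, ⟨x, hx, rfl⟩, Set.ext fun q => ⟨?_, fun hq => ?_⟩⟩
      · rintro ⟨a, ha, rfl⟩
        obtain ⟨g, rfl⟩ := tt_class_conj hD hx ha
        exact isConj_iff.2 ⟨π g, by rw [map_mul, map_mul, map_inv]⟩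
      · obtain ⟨g, rfl⟩ := isConj_iff.1 hq
        obtain ⟨g, rfl⟩ := hπ g
        exact ⟨g * x * g⁻¹, tt_invariant hD g hx, by rw [map_mul, map_mul, map_inv]⟩
    · rw [← MonoidHom.map_closure, hD.2.2, Subgroup.map_top_of_surjective π hπ]
  have hsol : ∀ N : Subgroup (G ⧸ Subgroup.center G), N.Normal → Group.IsSolvable N → N = ⊥ := by
    intro N hN hs
    set R := N.comap π with hR
    have hRs : Group.IsSolvable R := by
      have : Group.IsSolvable (Subgroup.center G) := by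
        open scoped IsMulCommutative in infer_instance
      refine Group.isSolvable_of_ker_le_range
        (Subgroup.inclusion (show Subgroup.center G ≤ R from fun z hz => by
          rw [hR, Subgroup.mem_comap, QuotientGroup.mk'_apply, (QuotientGroup.eq_one_iff z).2 hz]
          exact one_mem _))
        (π.subgroupComap N) ?_
      intro r hr
      exact ⟨⟨r, (QuotientGroup.eq_one_iff _).1 (congrArg Subtype.val hr)⟩, rfl⟩
    have hle : R ≤ Subgroup.center G := by
      by_contra h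
      exact qsSub_not_le_of_isSolvable hL hRs (le_of_normal_noncentral hD h2 h3 hL hF R h)
    rw [← Subgroup.map_comap_eq_self_of_surjective hπ N, ← le_bot_iff]
    rintro _ ⟨r, hr, rfl⟩
    exact (QuotientGroup.eq_one_iff _).2 (hle hr)
  have hin : ∀ {q : G}, InDx D x q → InDx (π '' D) (π x) (π q) := fun {q} hq =>
    ⟨⟨q, hq.1, rfl⟩, fun e => hq.2.1 (hinj _ hq.1 _ hx e), hq.2.2.map π⟩
  have h := dx_connected hD' hsol ⟨x, hx, rfl⟩ (hin hy) (hin hy')
  have lift : ∀ q, Relation.ReflTransGen (dxAdj (π '' D) (π x)) (π y) q →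
      ∃ p, InDx D x p ∧ π p = q ∧ Relation.ReflTransGen (dxAdj D x) y p := by
    intro q hq
    induction hq with
    | refl => exact ⟨y, hy, rfl, Relation.ReflTransGen.refl⟩
    | @tail b c _ hbc ih =>
      obtain ⟨p, hp, rfl, hpath⟩ := ih
      obtain ⟨-, ⟨⟨r, hr, rfl⟩, hne, hcr⟩, hnc⟩ := hbc
      have hr' : InDx D x r := ⟨hr, fun e => hne (by rw [e]), hcomm x hx r hr hcr⟩
      exact ⟨r, hr', rfl, hpath.tail ⟨hp, hr', fun e => hnc (e.map π)⟩⟩
  obtain ⟨p, hp, he, hpath⟩ := lift _ h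
  exact hinj p hp.1 y' hy'.1 he ▸ hpath

/-- In a primitive group the commuting set of a member generates a maximal `D`-subgroup. -/
theorem maximal_dSubgroup [Finite G] (hZS : H61.ZStarTheorem.{u})
    (hD : IsThreeTranspositionClass D) (hprim : Cfsg.IsPrimitiveUnderConj D)
    (hw : ∃ a ∈ D, ∃ b ∈ D, a ≠ b ∧ Commute a b) {d : G} (hd : d ∈ D) :
    Subgroup.closure {y : G | y ∈ D ∧ Commute d y} ≠ ⊤ ∧
      ∀ H : Subgroup G, Cfsg.IsDSubgroup D H →
        Subgroup.closure {y : G | y ∈ D ∧ Commute d y} ≤ H →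
        H = Subgroup.closure {y : G | y ∈ D ∧ Commute d y} ∨ H = ⊤ := by
  set Hd := Subgroup.closure {y : G | y ∈ D ∧ Commute d y} with hHd
  have hD2 := hprim.2.1
  have h2 := pCore_two_le_center hD hprim
  have h3 := pCore_three_le_center hD hprim hw
  obtain ⟨L, hn, hL, hF⟩ := exists_qs_normal hZS hD hD2 h2 h3
  refine ⟨fun htop => ?_, fun H hH hle => ?_⟩
  · obtain ⟨c, hc, hc'⟩ := exists_noncommute hD hD2 hd
    apply hc'
    have : Hd ≤ Subgroup.centralizer ({d} : Set G) := by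
      rw [hHd, Subgroup.closure_le]
      exact fun y hy => Subgroup.mem_centralizer_singleton_iff.2 hy.2.eq.symm
    exact (Subgroup.mem_centralizer_singleton_iff.1 (this (htop ▸ Subgroup.mem_top c))).symm
  by_cases htop : H = ⊤
  · exact Or.inr htop
  left
  refine le_antisymm (hH.ge.trans ?_) hle
  rw [Subgroup.closure_le]
  rintro e ⟨heD, heH⟩
  refine Subgroup.subset_closure ⟨heD, ?_⟩
  by_contra hde
  have hdH : d ∈ H := hle (Subgroup.subset_closure ⟨hd, Commute.refl d⟩)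
  set X : Set G := {x | x ∈ D ∧ ∃ h ∈ H, x = h * d * h⁻¹} with hX
  have hdX : d ∈ X := ⟨hd, 1, one_mem _, by group⟩
  have hperp : ∀ x ∈ X, ∀ q ∈ D, Commute x q → q ∈ H := by
    rintro _ ⟨-, h, hh, rfl⟩ q hq hc
    have : h⁻¹ * q * h⁻¹⁻¹ ∈ H := hle (Subgroup.subset_closure ⟨tt_invariant hD h⁻¹ hq, by
      rw [← commute_conj_iff h, show h * (h⁻¹ * q * h⁻¹⁻¹) * h⁻¹ = q by group]; exact hc⟩)
    have := mul_mem (mul_mem hh this) (inv_mem hh)
    rwa [show h * (h⁻¹ * q * h⁻¹⁻¹) * h⁻¹ = q by group] at this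
  have hXH : ∀ x ∈ X, x ∈ H := fun x hx => hperp x hx x hx.1 (Commute.refl x)
  have hstep : ∀ x ∈ X, ∀ q ∈ D, q ∈ H → ¬ Commute x q → q ∈ X := by
    rintro _ ⟨hxD, h, hh, rfl⟩ q hq hqH hc
    set x := h * d * h⁻¹ with hx
    refine ⟨hq, x * q * h, mul_mem (mul_mem (mul_mem (mul_mem hh hdH) (inv_mem hh)) hqH) hh, ?_⟩
    calc q = x * (x * q * x) * x := by
          rw [show x * (x * q * x) * x = (x * x) * q * (x * x) by group, tt_mul_self hD.1 hxD,
            one_mul, mul_one]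
      _ = x * (q * x * q) * x := by rw [tt_braid hD.1 hxD hq hc]
      _ = x * q * x * q * x := by group
      _ = x * q * x * q⁻¹ * x⁻¹ := by rw [tt_inv hD.1 hq, tt_inv hD.1 hxD]
      _ = _ := by rw [hx]; group
  have heX : e ∈ X := hstep d hdX e heD heH hde
  by_cases hA : ∀ y ∈ ttNb D d, y ∈ X
  · -- the component of `d` stays inside `X`
    have hA' : ∀ x ∈ X, ∀ y, y ∈ D → Commute x y → y ∈ X := by
      rintro _ ⟨hxD, h, hh, rfl⟩ y hy hc
      by_cases hyx : y = h * d * h⁻¹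
      · exact hyx ▸ ⟨hxD, h, hh, rfl⟩
      obtain ⟨-, k, hk, hk'⟩ := hA (h⁻¹ * y * h⁻¹⁻¹) ⟨tt_invariant hD h⁻¹ hy,
        fun e' => hyx (by rw [← e']; group),
        by rw [← commute_conj_iff h, show h * (h⁻¹ * y * h⁻¹⁻¹) * h⁻¹ = y by group]; exact hc⟩
      refine ⟨hy, h * k, mul_mem hh hk, ?_⟩
      calc y = h * (h⁻¹ * y * h⁻¹⁻¹) * h⁻¹ := by group
        _ = _ := by rw [hk']; group
    apply htop
    rw [← top_le_iff, ← hD.2.2, Subgroup.closure_le]
    intro q hq
    refine hXH q ?_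
    have hpath := commute_chain_of_primitive hD hprim hw hd hq
    clear hq
    induction hpath with
    | refl => exact hdX
    | tail _ hstep' ih => exact hA' _ ih _ hstep'.2.1 hstep'.2.2
  · push Not at hA
    obtain ⟨y, hy, hyX⟩ := hA
    have hout : ∀ q ∈ ttNb D d, q ∉ X := by
      intro q hq
      have hpath := dx_connected_central hD hD2 h2 h3 hL hF hd hy hq
      clear hq
      induction hpath with
      | refl => exact hyX
      | @tail p r _ hpr ih =>
        intro hrX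
        exact ih (hstep r hrX p hpr.1.1 (hperp d hdX p hpr.1.1 hpr.1.2.2)
          fun q => hpr.2.2 q.symm)
    have hout' : ∀ x ∈ X, ∀ q ∈ ttNb D x, q ∉ X := by
      rintro _ ⟨-, h, hh, rfl⟩ q hq ⟨-, k, hk, rfl⟩
      refine hout (h⁻¹ * k * d * (h⁻¹ * k)⁻¹) ⟨tt_invariant hD _ hd, fun e' => hq.2.1 ?_, ?_⟩
        ⟨tt_invariant hD _ hd, h⁻¹ * k, mul_mem (inv_mem hh) hk, rfl⟩
      · calc k * d * k⁻¹ = h * (h⁻¹ * k * d * (h⁻¹ * k)⁻¹) * h⁻¹ := by group
          _ = h * d * h⁻¹ := by rw [e']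
      · rw [← commute_conj_iff h,
          show h * (h⁻¹ * k * d * (h⁻¹ * k)⁻¹) * h⁻¹ = k * d * k⁻¹ by group]
        exact hq.2.2
    have hcomm : ∀ x ∈ X, ∀ q ∈ D, q ∈ H → q ∉ X → Commute x q := fun x hx q hq hqH hqX =>
      by_contra fun h => hqX (hstep x hx q hq hqH h)
    have heq : ttNb D d = ttNb D e := by
      refine Set.Subset.antisymm (fun q hq => ?_) fun q hq => ?_
      · exact ⟨hq.1, fun e' => hout q hq (e' ▸ heX),
          hcomm e heX q hq.1 (hperp d hdX q hq.1 hq.2.2) (hout q hq)⟩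
      · exact ⟨hq.1, fun e' => hout' e heX q hq (e' ▸ hdX),
          hcomm d hdX q hq.1 (hperp e heX q hq.1 hq.2.2) (hout' e heX q hq)⟩
    exact hde (eq_of_ttNb hZS hD h3 hd heD heq ▸ Commute.refl d)

/-- The quasisimple `L` is the derived group, and simple if the centre is trivial. -/
theorem isSimpleGroup_commutator [Finite G] (hD : IsThreeTranspositionClass D)
    (hZ : Subgroup.center G = ⊥) (h2 : Cfsg.pCore 2 G ≤ Subgroup.center G)
    (h3 : Cfsg.pCore 3 G ≤ Subgroup.center G) {L : Subgroup G} [L.Normal]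
    (hL : Cfsg.IsQuasisimple L)
    (hF : Cfsg.generalizedFittingSubgroup G = L ⊔ Subgroup.center G) (hidx : L.index ≤ 2) :
    IsSimpleGroup (commutator G) := by
  obtain ⟨d, hd, -⟩ := hD.2.1
  have hLS : L ≤ commutator G := by
    rw [← qsSub_perfect hL, commutator_def]
    exact Subgroup.commutator_mono le_top le_top
  have htop := sup_zpowers_eq_top_of_index hD hidx hd
  have hSL : commutator G ≤ L := by
    rw [← Subgroup.Normal.quotient_commutative_iff_commutator_le]
    refine ⟨⟨fun a b => ?_⟩⟩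
    have hrep : ∀ c : G ⧸ L, ∃ i : ℤ, c = QuotientGroup.mk' L d ^ i := by
      intro c
      obtain ⟨c, rfl⟩ := QuotientGroup.mk'_surjective _ c
      obtain ⟨u, hu, v, hv, rfl⟩ :=
        Subgroup.mem_sup_of_normal_left.mp (htop ▸ Subgroup.mem_top c)
      obtain ⟨i, rfl⟩ := Subgroup.mem_zpowers_iff.mp hv
      exact ⟨i, by rw [map_mul, show QuotientGroup.mk' L u = 1 from
        (QuotientGroup.eq_one_iff u).mpr hu, one_mul, map_zpow]⟩
    obtain ⟨i, rfl⟩ := hrep a
    obtain ⟨j, rfl⟩ := hrep b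
    rw [← zpow_add, ← zpow_add, add_comm]
  rw [le_antisymm hSL hLS]
  have hcz : Subgroup.center L = ⊥ := by
    rw [eq_bot_iff]
    intro z hz
    have h1 : (z : G) ∈ Subgroup.centralizer (L : Set G) :=
      Subgroup.mem_centralizer_iff.2 fun y hy =>
        congrArg Subtype.val (Subgroup.mem_center_iff.1 hz ⟨y, hy⟩)
    have h2' := centralizer_le_center hD h2 h3 hF h1
    rw [hZ, Subgroup.mem_bot] at h2'
    exact Subgroup.mem_bot.2 (Subtype.ext h2')
  exact ((QuotientGroup.quotientMulEquivOfEq hcz).trans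
    QuotientGroup.quotientBot).isSimpleGroup_congr.1 hL.2

theorem primitive_of_simple_commutator [Finite G] (hD : IsThreeTranspositionClass D)
    (hZ : Subgroup.center G = ⊥) (hw : ∃ a ∈ D, ∃ b ∈ D, a ≠ b ∧ Commute a b)
    (hS : IsSimpleGroup (commutator G)) : Cfsg.IsPrimitiveUnderConj D := by
  obtain ⟨d, hd, -⟩ := hD.2.1
  set S := commutator G with hSdef
  have hD2 : ∃ a ∈ D, ∃ b ∈ D, a ≠ b := by
    obtain ⟨a, ha, b, hb, hab, -⟩ := hw; exact ⟨a, ha, b, hb, hab⟩
  have hncomm : ¬ IsMulCommutative S := by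
    intro hc
    obtain ⟨a, ha, b, hb, hab, hcab⟩ := hw
    have hs : a * b ∈ S := by
      obtain ⟨g, rfl⟩ := tt_class_conj hD ha hb
      rw [show a * (g * a * g⁻¹) = a * g * a * g⁻¹ by group]
      have := Subgroup.commutator_mem_commutator (Subgroup.mem_top a) (Subgroup.mem_top g)
      rwa [commutatorElement_def, tt_inv hD.1 ha] at this
    set s : S := ⟨a * b, hs⟩ with hsdef
    have hs1 : s ≠ 1 := fun h => hab (by
      rw [eq_inv_of_mul_eq_one_left (congrArg Subtype.val h : a * b = 1), tt_inv hD.1 hb])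
    have hn : (Subgroup.zpowers s).Normal := Subgroup.normal_of_isMulCommutative _
    have htop : Subgroup.zpowers s = ⊤ :=
      hn.eq_bot_or_eq_top.resolve_left fun h => hs1 (Subgroup.zpowers_eq_bot.1 h)
    have hcard : Nat.card S ≤ 2 := by
      rw [← Subgroup.card_top, ← htop, Nat.card_zpowers]
      exact orderOf_le_of_pow_eq_one (by norm_num) (Subtype.ext (sq_eq_one_of_commute hD.1 ha hb hcab))
    have hcen : S ≤ Subgroup.center G := by
      intro x hx
      rw [Subgroup.mem_center_iff]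
      intro g
      by_cases hx1 : x = 1
      · rw [hx1, one_mul, mul_one]
      have hy : g * x * g⁻¹ ∈ S := (inferInstance : S.Normal).conj_mem x hx g
      have : g * x * g⁻¹ = x := by
        by_contra hne
        have hne1 : g * x * g⁻¹ ≠ 1 := fun h => hx1 (conj_eq_one_iff.1 h)
        have h3' : ({(1 : S), ⟨x, hx⟩, ⟨_, hy⟩} : Set S).ncard = 3 :=
          Set.ncard_eq_three.2 ⟨_, _, _, fun h => hx1 (congrArg Subtype.val h).symm,
            fun h => hne1 (congrArg Subtype.val h).symm,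
            fun h => hne (congrArg Subtype.val h).symm, rfl⟩
        have := Set.ncard_le_card ({(1 : S), ⟨x, hx⟩, ⟨_, hy⟩} : Set S)
        omega
      exact mul_inv_eq_iff_eq_mul.1 this
    exact hs1 (Subtype.ext (Subgroup.mem_bot.1 (hZ ▸ hcen hs)))
  have hperf : Group.IsPerfect S := by
    rw [Group.isPerfect_def]
    refine (inferInstance : (commutator S).Normal).eq_bot_or_eq_top.resolve_left fun h => hncomm ?_
    exact ⟨⟨fun p q => commutatorElement_eq_one_iff_mul_comm.1 (Subgroup.mem_bot.1 (h ▸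
      Subgroup.commutator_mem_commutator (Subgroup.mem_top p) (Subgroup.mem_top q)))⟩⟩
  have hSqs : Cfsg.IsQuasisimple S := qs_of_perfect hperf fun N hN hne => by
    rw [hN.eq_bot_or_eq_top.resolve_right hne]; exact bot_le
  have hCS : Subgroup.centralizer (S : Set G) ≤ Subgroup.center G := by
    intro c hc
    rw [Subgroup.mem_center_iff]
    intro g
    have h1 : ⁅c, g⁆ ∈ S :=
      Subgroup.commutator_mem_commutator (Subgroup.mem_top c) (Subgroup.mem_top g)
    have h2 : ⁅c, g⁆ ∈ Subgroup.centralizer (S : Set G) := by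
      rw [commutatorElement_def, show c * g * c⁻¹ * g⁻¹ = c * (g * c⁻¹ * g⁻¹) by group]
      exact mul_mem hc ((inferInstance : (Subgroup.centralizer (S : Set G)).Normal).conj_mem _
        (inv_mem hc) g)
    have h3 : (⟨_, h1⟩ : S) ∈ Subgroup.center S :=
      Subgroup.mem_center_iff.2 fun y => Subtype.ext (Subgroup.mem_centralizer_iff.1 h2 y y.2)
    have hcen : Subgroup.center S = ⊥ := by
      refine (inferInstance : (Subgroup.center S).Normal).eq_bot_or_eq_top.resolve_right fun h => ?_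
      exact qs_center_ne_top hSqs h
    rw [hcen, Subgroup.mem_bot] at h3
    exact (commutatorElement_eq_one_iff_mul_comm.1 (congrArg Subtype.val h3)).symm
  have hcore : ∀ (p : ℕ), p.Prime → Cfsg.pCore p G ≤ Subgroup.center G := by
    intro p hp
    have : Fact p.Prime := ⟨hp⟩
    refine le_trans ?_ hCS
    have hnil := (Cores.pCore_isPGroup (G := G) (p := p)).isNilpotent
    have hns : ¬ S ≤ Cfsg.pCore p G := qsSub_not_le_of_isSolvable hSqs inferInstance
    rcases qsSub_normal (N := Cfsg.pCore p G) hSqs (le_normalizer_of_normal S) with h | h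
    · exact absurd h hns
    rw [← Subgroup.commutator_eq_bot_iff_le_centralizer, Subgroup.commutator_comm]
    refine commutator_eq_bot_of_perfect (qsSub_perfect hSqs) ?_
    rw [Subgroup.commutator_comm]
    exact le_bot_iff.1 (le_trans
      (Subgroup.commutator_mono le_rfl (Subgroup.commutator_le_inf S _)) h.le)
  have h2 := hcore 2 Nat.prime_two
  have h3 := hcore 3 Nat.prime_three
  have hidx : S.index ≤ 2 :=
    index_le_two_of_sup_zpowers (hD.1.1 d hd) (commutator_sup_zpowers hD hd)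
  have hcomp : Cfsg.IsComponent S := ⟨Subgroup.Normal.isSubnormal inferInstance, hSqs⟩
  have hF : Cfsg.generalizedFittingSubgroup G = S ⊔ Subgroup.center G := by
    have hlay : Cfsg.layer G = S := by
      refine le_antisymm (layer_le_iff.2 fun K hK => ?_) (component_le_layer hcomp)
      rw [← component_perfect hK, hSdef, commutator_def]
      exact Subgroup.commutator_mono le_top le_top
    rw [genFitting_eq_sup, hlay, fitting_eq_center hD h2 h3]
  exact primitive_of_index hD hD2 h2 h3 hSqs hF hidx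

end Cfsg.Agent.Components
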