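import Cfsg.Agent.Components.TTCore
import Cfsg.Agent.Components.Layer
import Cfsg.Agent.S5347

/-!
The structure of the generalized Fitting subgroup of a group generated by a class of
3-transpositions.
-/

set_option autoImplicit false

namespace Cfsg.Agent.Components

universe u

open Cfsg.Agent.H44
open scoped commutatorElement

variable {G : Type u} [Group G] {D : Set G}

/-- A normal subgroup centralized by one member of `D` is central. -/
theorem le_center_of_commute (hD : IsThreeTranspositionClass D) {N : Subgroup G} [N.Normal]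
    {d : G} (hd : d ∈ D) (h : ∀ x ∈ N, Commute d x) : N ≤ Subgroup.center G := by
  intro x hx
  rw [Subgroup.mem_center_iff]
  intro g
  have hle : Subgroup.closure D ≤ Subgroup.centralizer ({x} : Set G) := by
    rw [Subgroup.closure_le]
    intro e he
    obtain ⟨k, rfl⟩ := tt_class_conj hD hd he
    rw [SetLike.mem_coe, Subgroup.mem_centralizer_singleton_iff]
    have h1 := h (k⁻¹ * x * k⁻¹⁻¹) ((inferInstance : N.Normal).conj_mem x hx k⁻¹)
    have h2 := (commute_conj_iff k _ _).2 h1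
    rw [show k * (k⁻¹ * x * k⁻¹⁻¹) * k⁻¹ = x by group] at h2
    exact h2.eq
  exact Subgroup.mem_centralizer_singleton_iff.1 (hle (hD.2.2 ▸ Subgroup.mem_top g))

theorem not_comm (hD : IsThreeTranspositionClass D) (hD2 : ∃ a ∈ D, ∃ b ∈ D, a ≠ b) :
    ¬ (⊤ : Subgroup G) ≤ Subgroup.center G := by
  intro h
  obtain ⟨a, ha, b, hb, hab⟩ := hD2
  obtain ⟨g, rfl⟩ := tt_class_conj hD ha hb
  apply hab
  rw [← Subgroup.mem_center_iff.1 (h (Subgroup.mem_top g)) a, mul_inv_cancel_right]

theorem pCore_le_center_of_gt_three [Finite G] (hD : IsThreeTranspositionClass D) {p : ℕ}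
    (hp : p.Prime) (h3 : 3 < p) : Cfsg.pCore p G ≤ Subgroup.center G := by
  have : Fact p.Prime := ⟨hp⟩
  obtain ⟨d, hd, -⟩ := hD.2.1
  refine le_center_of_commute hD hd ?_
  exact S5347.result (tt_group_of_class hD) hp h3 _ Cores.pCore_isPGroup hd
    (le_normalizer_of_normal ⊤ (Subgroup.mem_top d))

theorem eq_of_conj_central {N : Subgroup G} (h : N ≤ Subgroup.center G) {d v : G}
    (hg : ∃ g ∈ N, v = g * d * g⁻¹) : v = d := by
  obtain ⟨g, hg, rfl⟩ := hg
  rw [← Subgroup.mem_center_iff.1 (h hg) d, mul_inv_cancel_right]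

/-- With central 2-core there are no twins. -/
theorem eq_of_twin [Finite G] (hD : IsThreeTranspositionClass D)
    (hD2 : ∃ a ∈ D, ∃ b ∈ D, a ≠ b) (h2 : Cfsg.pCore 2 G ≤ Subgroup.center G) {d v : G}
    (hd : d ∈ D) (hv : v ∈ D) (h : ∀ e ∈ D, Commute v e ↔ Commute d e) : v = d :=
  eq_of_conj_central h2
    (exists_conj_of_pCore_two hD hD2 hd hv (twin_mul_mem_pCore_two hD hd hv h))

/-- With central 3-core a member is determined by its neighbourhood. -/
theorem eq_of_ttNb [Finite G] (hZS : H61.ZStarTheorem.{u}) (hD : IsThreeTranspositionClass D)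
    (h3 : Cfsg.pCore 3 G ≤ Subgroup.center G) {d v : G}
    (hd : d ∈ D) (hv : v ∈ D) (h : ttNb D d = ttNb D v) : v = d :=
  eq_of_conj_central h3
    (exists_conj_of_pCore_three hD.1 hd hv (sameNb_mul_mem_pCore_three hZS hD hd hv h))

/-- A noncentral normal subgroup moves every member inside its coset. -/
theorem exists_ne_mul_mem (hD : IsThreeTranspositionClass D) {N : Subgroup G} [N.Normal]
    (hN : ¬ N ≤ Subgroup.center G) {d : G} (hd : d ∈ D) :
    ∃ v ∈ D, v ≠ d ∧ d * v ∈ N := by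
  obtain ⟨x, hx, hc⟩ : ∃ x ∈ N, ¬ Commute d x := by
    by_contra h
    push Not at h
    exact hN (le_center_of_commute hD hd h)
  obtain ⟨hv, hm⟩ := coset_of_conj hD hd hx
  exact ⟨_, hv, fun e => hc (show d * x = x * d from (mul_inv_eq_iff_eq_mul.1 e).symm),
    (mul_mem_coset_iff hD.1 hd N).1 hm⟩

theorem tt_le_normalizer_closure {E : Subgroup G} {S : Set G}
    (h : ∀ g ∈ E, ∀ s ∈ S, g * s * g⁻¹ ∈ Subgroup.closure S) :
    E ≤ Subgroup.normalizer (Subgroup.closure S : Set G) := by
  have key : ∀ g ∈ E, ∀ s ∈ Subgroup.closure S, g * s * g⁻¹ ∈ Subgroup.closure S := by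
    intro g hg s hs
    have hle : Subgroup.closure S ≤ (Subgroup.closure S).comap (MulAut.conj g).toMonoidHom := by
      rw [Subgroup.closure_le]
      exact fun t ht => h g hg t ht
    exact hle hs
  intro g hg
  rw [Subgroup.mem_set_normalizer_iff]
  intro n
  refine ⟨key g hg n, fun hn => ?_⟩
  have := key g⁻¹ (inv_mem hg) _ hn
  rwa [show g⁻¹ * (g * n * g⁻¹) * g⁻¹⁻¹ = n by group] at this

/-- A member not centralizing `E` has a conjugate under `E` not commuting with it. -/
theorem exists_noncommute_conj {E : Subgroup G}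
    (hs : ∀ B : Subgroup G, E ≤ Subgroup.normalizer (B : Set G) → Group.IsSolvable B →
      ⁅E, B⁆ = ⊥) {d : G} (hne : ¬ ∀ x ∈ E, Commute d x) :
    ∃ g ∈ E, ¬ Commute d (g * d * g⁻¹) := by
  by_contra h
  push Not at h
  set S : Set G := {e | ∃ g ∈ E, e = g * d * g⁻¹} with hS
  have hcomm : ∀ a ∈ S, ∀ b ∈ S, a * b = b * a := by
    rintro _ ⟨g, hg, rfl⟩ _ ⟨k, hk, rfl⟩
    have h1 := (commute_conj_iff g _ _).2 (h (g⁻¹ * k) (mul_mem (inv_mem hg) hk))
    rw [show g * (g⁻¹ * k * d * (g⁻¹ * k)⁻¹) * g⁻¹ = k * d * k⁻¹ by group] at h1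
    exact h1.eq
  have := Subgroup.isMulCommutative_closure hcomm
  have hsol : Group.IsSolvable (Subgroup.closure S) := by
    open scoped IsMulCommutative in infer_instance
  have hn : E ≤ Subgroup.normalizer (Subgroup.closure S : Set G) := by
    refine tt_le_normalizer_closure fun g hg => ?_
    rintro _ ⟨k, hk, rfl⟩
    exact Subgroup.subset_closure ⟨g * k, mul_mem hg hk, by group⟩
  exact hne fun x hx => (commute_of_commutator_eq_bot (hs _ hn hsol) hx
    (Subgroup.subset_closure ⟨1, one_mem _, by group⟩)).symm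

/-- A member not centralizing a perfect normal `E` has a further conjugate under `E` commuting
with it. -/
theorem exists_commute_conj [Finite G] (hZS : H61.ZStarTheorem.{u})
    (hD : IsThreeTranspositionClass D) {E : Subgroup G} [E.Normal] (hE : ⁅E, E⁆ = E)
    (hs : ∀ B : Subgroup G, E ≤ Subgroup.normalizer (B : Set G) → Group.IsSolvable B →
      ⁅E, B⁆ = ⊥) {d : G} (hd : d ∈ D) (hne : ¬ ∀ x ∈ E, Commute d x) :
    ∃ g ∈ E, Commute d (g * d * g⁻¹) ∧ g * d * g⁻¹ ≠ d := by
  by_contra h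
  push Not at h
  set X : Set G := {e | ∃ g ∈ E, e = g * d * g⁻¹} with hX
  have hXD : ∀ x ∈ X, x ∈ D := by rintro _ ⟨g, -, rfl⟩; exact tt_invariant hD g hd
  have hdX : d ∈ X := ⟨1, one_mem _, by group⟩
  have hcube : ∀ x ∈ X, ∀ y ∈ X, (x * y) ^ 3 = 1 := by
    intro x hx y hy
    by_cases hc : Commute x y
    · obtain ⟨g, hg, rfl⟩ := hx
      obtain ⟨k, hk, rfl⟩ := hy
      have h1 : Commute d (g⁻¹ * k * d * (g⁻¹ * k)⁻¹) := by
        rw [← commute_conj_iff g,
          show g * (g⁻¹ * k * d * (g⁻¹ * k)⁻¹) * g⁻¹ = k * d * k⁻¹ by group]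
        exact hc
      have h2 : k * d * k⁻¹ = g * d * g⁻¹ := by
        calc k * d * k⁻¹ = g * (g⁻¹ * k * d * (g⁻¹ * k)⁻¹) * g⁻¹ := by group
          _ = g * d * g⁻¹ := by rw [h _ (mul_mem (inv_mem hg) hk) h1]
      rw [h2, tt_mul_self hD.1 (tt_invariant hD g hd), one_pow]
    · exact tt_cube hD.1 (hXD x hx) (hXD y hy) hc
  have hxdx : ∀ x ∈ X, x * d * x⁻¹ ∈ X := by
    intro x hx
    rw [tt_conj_eq hD.1 (hXD x hx)]
    by_cases hc : Commute x d
    · rw [hc.eq, mul_assoc, tt_mul_self hD.1 (hXD x hx), mul_one]; exact hdX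
    · rw [tt_braid hD.1 (hXD x hx) hd hc]
      obtain ⟨g, hg, rfl⟩ := hx
      refine ⟨d * g * d⁻¹, (inferInstance : E.Normal).conj_mem g hg d, ?_⟩
      simp only [mul_inv_rev, tt_inv hD.1 hd, ← mul_assoc]
      simp only [mul_assoc, tt_mul_self hD.1 hd, mul_one]
  have hclosed : ∀ x ∈ X, ∀ y ∈ X, x * y * x ∈ X := by
    intro x hx y hy
    obtain ⟨k, hk, rfl⟩ := hy
    rw [← tt_conj_eq hD.1 (hXD x hx)]
    obtain ⟨m, hm, e⟩ := hxdx x hx
    refine ⟨x * k * x⁻¹ * m, mul_mem ((inferInstance : E.Normal).conj_mem k hk x) hm, ?_⟩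
    calc x * (k * d * k⁻¹) * x⁻¹ = x * k * x⁻¹ * (x * d * x⁻¹) * (x * k * x⁻¹)⁻¹ := by group
      _ = x * k * x⁻¹ * m * d * (x * k * x⁻¹ * m)⁻¹ := by rw [e]; group
  set S : Set G := {z | ∃ x ∈ X, ∃ y ∈ X, z = x * y} with hS
  have hP : IsPGroup 3 (Subgroup.closure S) :=
    isPGroup_closure_products hZS (fun x hx => hD.1.1 x (hXD x hx)) hclosed hcube
  have : Fact (Nat.Prime 3) := ⟨Nat.prime_three⟩
  have hsol : Group.IsSolvable (Subgroup.closure S) := by
    have := hP.isNilpotent; infer_instance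
  have hn : E ≤ Subgroup.normalizer (Subgroup.closure S : Set G) := by
    refine tt_le_normalizer_closure fun g hg => ?_
    rintro _ ⟨_, ⟨a, ha, rfl⟩, _, ⟨b, hb, rfl⟩, rfl⟩
    exact Subgroup.subset_closure ⟨_, ⟨g * a, mul_mem hg ha, rfl⟩, _, ⟨g * b, mul_mem hg hb, rfl⟩,
      by group⟩
  have hEP := hs _ hn hsol
  have hc : ⁅E, Subgroup.zpowers d⁆ = ⊥ := by
    refine commutator_eq_bot_of_perfect hE ?_
    rw [Subgroup.commutator_comm]
    refine le_bot_iff.1 (le_trans (Subgroup.commutator_mono le_rfl ?_) hEP.le)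
    rw [Subgroup.commutator_le]
    intro g hg t ht
    obtain ⟨i, hi, rfl⟩ : ∃ i < 2, d ^ i = t := by
      classical
      rw [← hD.1.1 d hd]
      simpa using mem_zpowers_iff_mem_range_orderOf.1 ht
    obtain rfl | rfl : i = 0 ∨ i = 1 := by omega
    · rw [pow_zero, commutatorElement_one_right]; exact one_mem _
    · rw [pow_one]
      refine Subgroup.subset_closure ⟨g * d * g⁻¹, ⟨g, hg, rfl⟩, d, hdX, ?_⟩
      rw [commutatorElement_def, tt_inv hD.1 hd]
  exact hne fun x hx => (commute_of_commutator_eq_bot hc hx (Subgroup.mem_zpowers d)).symm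

theorem layer_not_commute [Finite G] (hD : IsThreeTranspositionClass D)
    (hl : Cfsg.layer G ≠ ⊥) {d : G} (hd : d ∈ D) : ¬ ∀ x ∈ Cfsg.layer G, Commute d x := by
  intro h
  apply hl
  rw [← layer_perfect, Subgroup.commutator_eq_bot_iff_le_centralizer]
  exact fun x hx => Subgroup.mem_centralizer_iff.2 fun y hy =>
    Subgroup.mem_center_iff.1 (le_center_of_commute hD hd h hx) y

theorem layer_commute_pCore [Finite G] (p : ℕ) [Fact p.Prime] {g z : G} (hg : g ∈ Cfsg.layer G)
    (hz : z ∈ Cfsg.pCore p G) : g * z = z * g :=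
  commute_of_commutator_eq_bot layer_commutator_fitting hg (pCore_le_fitting p hz)

theorem layer_eq_bot_of_two [Finite G] (hD : IsThreeTranspositionClass D)
    (h2 : ¬ Cfsg.pCore 2 G ≤ Subgroup.center G) : Cfsg.layer G = ⊥ := by
  by_contra hl
  have : Fact (Nat.Prime 2) := ⟨Nat.prime_two⟩
  obtain ⟨d, hd, -⟩ := hD.2.1
  obtain ⟨v, hv, hvd, hz⟩ := exists_ne_mul_mem hD h2 hd
  obtain ⟨g, hg, hge⟩ := exists_noncommute_conj
    (fun B hn hB => layer_commutator_solvable hB hn) (layer_not_commute hD hl hd)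
  have hdv := commute_of_pCore_two hD.1 hd hv hz
  set e := g * d * g⁻¹ with he
  have heD : e ∈ D := tt_invariant hD g hd
  have hve : ¬ Commute v e := fun q => hge ((twin_of_pCore_two hD.1 hd hv hz e heD).1 q)
  have h1 : e * (d * v) * e⁻¹ = d * v := by
    have hgz := layer_commute_pCore 2 hg hz
    calc e * (d * v) * e⁻¹ = g * d * (g⁻¹ * (d * v) * g) * d⁻¹ * g⁻¹ := by rw [he]; group
      _ = g * d * (d * v) * d⁻¹ * g⁻¹ := by rw [mul_assoc g⁻¹, ← hgz]; group
      _ = g * (d * v) * g⁻¹ := by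
        rw [tt_inv hD.1 hd, mul_assoc g d, ← mul_assoc d d v, tt_mul_self hD.1 hd, one_mul,
          mul_assoc g v d, ← hdv.eq]
      _ = d * v := by rw [hgz, mul_inv_cancel_right]
  have bd := tt_braid hD.1 heD hd fun q => hge q.symm
  have bv := tt_braid hD.1 heD hv fun q => hve q.symm
  have ee := tt_mul_self hD.1 heD
  rw [tt_inv hD.1 heD] at h1
  have h2' : d * v = 1 := by
    calc d * v = e * (d * v) * e := h1.symm
      _ = (e * d * e) * (e⁻¹ * e⁻¹) * (e * v * e) := by group
      _ = d * e * d * (v * e * v) := by rw [← mul_inv_rev, ee, inv_one, mul_one, bd, bv]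
      _ = d * (e * (d * v) * e) * v := by group
      _ = (d * d) * (v * v) := by rw [h1]; group
      _ = 1 := by rw [tt_mul_self hD.1 hd, tt_mul_self hD.1 hv, one_mul]
  exact hvd (by rw [eq_inv_of_mul_eq_one_right h2', tt_inv hD.1 hd])

theorem layer_eq_bot_of_three [Finite G] (hZS : H61.ZStarTheorem.{u})
    (hD : IsThreeTranspositionClass D)
    (h3 : ¬ Cfsg.pCore 3 G ≤ Subgroup.center G) : Cfsg.layer G = ⊥ := by
  by_contra hl
  have : Fact (Nat.Prime 3) := ⟨Nat.prime_three⟩
  obtain ⟨d, hd, -⟩ := hD.2.1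
  obtain ⟨v, hv, hvd, hz⟩ := exists_ne_mul_mem hD h3 hd
  obtain ⟨g, hg, hge, hne⟩ := exists_commute_conj hZS hD layer_perfect
    (fun B hn hB => layer_commutator_solvable hB hn) hd (layer_not_commute hD hl hd)
  set e := g * d * g⁻¹ with he
  have heD : e ∈ D := tt_invariant hD g hd
  have hm : e ∈ ttNb D v :=
    ttNb_eq_of_pCore_three hD.1 hd hv hz ▸ (⟨heD, hne, hge⟩ : e ∈ ttNb D d)
  have hev : Commute e (d * v) := hge.symm.mul_right hm.2.2.symm
  have hgz := layer_commute_pCore 3 hg hz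
  have hgz' := layer_commute_pCore 3 hg (inv_mem hz)
  have h1 : e * (d * v) * e⁻¹ = (d * v)⁻¹ := by
    calc e * (d * v) * e⁻¹ = g * d * (g⁻¹ * (d * v) * g) * d⁻¹ * g⁻¹ := by rw [he]; group
      _ = g * d * (d * v) * d⁻¹ * g⁻¹ := by rw [mul_assoc g⁻¹, ← hgz]; group
      _ = g * (d * v)⁻¹ * g⁻¹ := by
        rw [tt_inv hD.1 hd, mul_inv_rev, tt_inv hD.1 hv, tt_inv hD.1 hd, mul_assoc g d,
          ← mul_assoc d d v, tt_mul_self hD.1 hd, one_mul, mul_assoc g v d]
      _ = (d * v)⁻¹ := by rw [hgz', mul_inv_cancel_right]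
  rw [hev.eq, mul_inv_cancel_right, eq_inv_iff_mul_eq_one] at h1
  have h4 := eq_one_of_coprime_pow (by norm_num) Cores.pCore_isPGroup hz
    (show (d * v) ^ 2 = 1 by rw [pow_two, h1])
  exact hvd (by rw [eq_inv_of_mul_eq_one_right h4, tt_inv hD.1 hd])

/-- Members of the class normalize every component. -/
theorem map_conj_component [Finite G] (hD : IsThreeTranspositionClass D) {d : G} (hd : d ∈ D)
    {L : Subgroup G} (hL : Cfsg.IsComponent L) : L.map (MulAut.conj d).toMonoidHom = L := by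
  by_contra hne
  have hc := components_commute (component_conj hL d) hL hne
  apply qs_not_isSolvable hL.2
  have key : ∀ k : L, ∃ n, (n = 2 ∨ n = 3) ∧ k ^ n ∈ Subgroup.center L := by
    intro k
    have he : (k : G) * d * (k : G)⁻¹ ∈ D := tt_invariant hD _ hd
    set x := d * (k : G) * d⁻¹ with hxdef
    have hx : x ∈ L.map (MulAut.conj d).toMonoidHom := ⟨k, k.2, rfl⟩
    have hxk : Commute x (k : G)⁻¹ := commute_of_commutator_eq_bot hc hx (inv_mem k.2)
    have hde : d * ((k : G) * d * (k : G)⁻¹) = x * (k : G)⁻¹ := by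
      rw [hxdef, tt_inv hD.1 hd]; group
    obtain ⟨n, hn, hpow⟩ : ∃ n, (n = 2 ∨ n = 3) ∧ (d * ((k : G) * d * (k : G)⁻¹)) ^ n = 1 := by
      rcases hD.1.2 d hd _ he with h | h
      · exact ⟨2, Or.inl rfl, h⟩
      · exact ⟨3, Or.inr rfl, h⟩
    refine ⟨n, hn, Subgroup.mem_center_iff.2 fun m => Subtype.ext ?_⟩
    rw [hde, hxk.mul_pow, inv_pow, mul_inv_eq_one] at hpow
    have hk : (k : G) ^ n ∈ L.map (MulAut.conj d).toMonoidHom := hpow ▸ pow_mem hx n
    rw [Subgroup.coe_mul, Subgroup.coe_mul, Subgroup.coe_pow]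
    exact (commute_of_commutator_eq_bot hc hk m.2).symm
  have : Group.IsSolvable (L ⧸ Subgroup.center L) := by
    refine isSolvable_of_small_orders fun q => ?_
    obtain ⟨k, rfl⟩ := QuotientGroup.mk'_surjective (Subgroup.center L) q
    obtain ⟨n, hn, hk⟩ := key k
    rcases hn with rfl | rfl
    · left; rw [← map_pow]; exact (QuotientGroup.eq_one_iff _).2 hk
    · right; rw [← map_pow]; exact (QuotientGroup.eq_one_iff _).2 hk
  have : Group.IsSolvable (Subgroup.center L) := by
    open scoped IsMulCommutative in infer_instance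
  exact Group.isSolvable_of_ker_le_range (Subgroup.center L).subtype
    (QuotientGroup.mk' (Subgroup.center L)) (by rw [QuotientGroup.ker_mk', Subgroup.range_subtype])

theorem component_normal [Finite G] (hD : IsThreeTranspositionClass D) {L : Subgroup G}
    (hL : Cfsg.IsComponent L) : L.Normal := by
  rw [← Subgroup.normalizer_eq_top_iff, ← top_le_iff, ← hD.2.2, Subgroup.closure_le]
  intro d hd
  rw [SetLike.mem_coe, Subgroup.mem_set_normalizer_iff]
  intro n
  refine ⟨fun hn => ?_, fun hn => ?_⟩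
  · show d * n * d⁻¹ ∈ L
    rw [← map_conj_component hD hd hL]; exact ⟨n, hn, rfl⟩
  · have h1 : d * (d * n * d⁻¹) * d⁻¹ ∈ L := by
      rw [← map_conj_component hD hd hL]; exact ⟨_, hn, rfl⟩
    rw [tt_inv hD.1 hd, show d * (d * n * d) * d = (d * d) * n * (d * d) by group,
      tt_mul_self hD.1 hd, one_mul, mul_one] at h1
    exact h1

theorem fitting_eq_center [Finite G] (hD : IsThreeTranspositionClass D)
    (h2 : Cfsg.pCore 2 G ≤ Subgroup.center G) (h3 : Cfsg.pCore 3 G ≤ Subgroup.center G) :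
    Cfsg.fittingSubgroup G = Subgroup.center G := by
  refine le_antisymm ?_ (normal_nilpotent_le_fitting inferInstance
    (by open scoped IsMulCommutative in infer_instance))
  rw [fitting_eq_iSup_pCore]
  refine iSup_le fun p => ?_
  have hp : (p : ℕ).Prime := Nat.prime_of_mem_primeFactors p.2
  by_cases e2 : (p : ℕ) = 2
  · rw [e2]; exact h2
  by_cases e3 : (p : ℕ) = 3
  · rw [e3]; exact h3
  have := hp.two_le
  exact pCore_le_center_of_gt_three hD hp (by omega)

theorem exists_component_of_central [Finite G] (hD : IsThreeTranspositionClass D)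
    (hD2 : ∃ a ∈ D, ∃ b ∈ D, a ≠ b) (h2 : Cfsg.pCore 2 G ≤ Subgroup.center G)
    (h3 : Cfsg.pCore 3 G ≤ Subgroup.center G) : ∃ L : Subgroup G, Cfsg.IsComponent L := by
  by_contra h
  push Not at h
  have hl : Cfsg.layer G = ⊥ := layer_eq_bot_iff.2 h
  have hF : Cfsg.generalizedFittingSubgroup G = Subgroup.center G := by
    rw [genFitting_eq_sup, hl, bot_sup_eq, fitting_eq_center hD h2 h3]
  have hc := centralizer_genFitting_le (G := G)
  rw [hF] at hc
  refine not_comm hD hD2 (le_trans ?_ hc)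
  exact fun x _ => Subgroup.mem_centralizer_iff.2 fun z hz => (Subgroup.mem_center_iff.1 hz x).symm

theorem qsSub_not_commute (hD : IsThreeTranspositionClass D) {L : Subgroup G} [L.Normal]
    (hL : Cfsg.IsQuasisimple L) {d : G} (hd : d ∈ D) : ¬ ∀ x ∈ L, Commute d x := by
  intro h
  apply qsSub_ne_bot hL
  rw [← qsSub_perfect hL, Subgroup.commutator_eq_bot_iff_le_centralizer]
  exact fun x hx => Subgroup.mem_centralizer_iff.2 fun y hy =>
    Subgroup.mem_center_iff.1 (le_center_of_commute hD hd h hx) y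

/-- Only one component. -/
theorem component_unique [Finite G] (hZS : H61.ZStarTheorem.{u})
    (hD : IsThreeTranspositionClass D) {K L : Subgroup G} (hK : Cfsg.IsComponent K)
    (hL : Cfsg.IsComponent L) : K = L := by
  by_contra hne
  have hKn := component_normal hD hK
  have hLn := component_normal hD hL
  obtain ⟨d, hd, -⟩ := hD.2.1
  obtain ⟨g, hg, hgc, hgne⟩ := exists_commute_conj hZS hD (component_perfect hK)
    (fun B hn hB => component_commutator_solvable hK hB hn) hd (qsSub_not_commute hD hK.2 hd)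
  obtain ⟨k, hk, hkc⟩ := exists_noncommute_conj
    (fun B hn hB => component_commutator_solvable hL hB hn) (qsSub_not_commute hD hL.2 hd)
  have hgD := tt_invariant hD g hd
  have hkD := tt_invariant hD k hd
  set y := g * d * g⁻¹ * d with hy
  set z := k * d * k⁻¹ * d with hz
  have hcK := components_commute hK hL hne
  have hyK : y ∈ K := by
    rw [hy, show g * d * g⁻¹ * d = g * (d * g⁻¹ * d) by group]
    refine mul_mem hg ?_
    have := hKn.conj_mem g⁻¹ (inv_mem hg) d
    rwa [tt_inv hD.1 hd] at this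
  have hzL : z ∈ L := by
    rw [hz, show k * d * k⁻¹ * d = k * (d * k⁻¹ * d) by group]
    refine mul_mem hk ?_
    have := hLn.conj_mem k⁻¹ (inv_mem hk) d
    rwa [tt_inv hD.1 hd] at this
  have hyz : Commute z y := (commute_of_commutator_eq_bot hcK hyK hzL).symm
  have hy2 : y ^ 2 = 1 := sq_eq_one_of_commute hD.1 hgD hd hgc.symm
  have hz3 : z ^ 3 = 1 := tt_cube hD.1 hkD hd fun q => hkc q.symm
  have heq : g * k * d * (g * k)⁻¹ * d = z * y := by
    calc g * k * d * (g * k)⁻¹ * d = g * (z * d⁻¹) * g⁻¹ * d := by rw [hz]; group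
      _ = g * z * (d * g⁻¹ * d) := by rw [tt_inv hD.1 hd]; group
      _ = z * (g * (d * g⁻¹ * d)) := by rw [commute_of_commutator_eq_bot hcK hg hzL]; group
      _ = z * y := by rw [hy]; group
  rcases hD.1.2 _ (tt_invariant hD (g * k) hd) d hd with h | h
  · rw [heq, hyz.mul_pow, hy2, mul_one] at h
    have := eq_one_of_two_three h hz3
    exact hkc (commute_of_sq_eq_one hD.1 hkD hd (by rw [← hz, this, one_pow])).symm
  · rw [heq, hyz.mul_pow, hz3, one_mul] at h
    have := eq_one_of_two_three hy2 h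
    exact hgne (by rw [eq_inv_of_mul_eq_one_left this, tt_inv hD.1 hd])

theorem exists_qs_normal [Finite G] (hZS : H61.ZStarTheorem.{u})
    (hD : IsThreeTranspositionClass D)
    (hD2 : ∃ a ∈ D, ∃ b ∈ D, a ≠ b) (h2 : Cfsg.pCore 2 G ≤ Subgroup.center G)
    (h3 : Cfsg.pCore 3 G ≤ Subgroup.center G) :
    ∃ L : Subgroup G, L.Normal ∧ Cfsg.IsQuasisimple L ∧
      Cfsg.generalizedFittingSubgroup G = L ⊔ Subgroup.center G := by
  obtain ⟨L, hL⟩ := exists_component_of_central hD hD2 h2 h3
  refine ⟨L, component_normal hD hL, hL.2, ?_⟩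
  have : Cfsg.layer G = L :=
    le_antisymm (layer_le_iff.2 fun K hK => (component_unique hZS hD hK hL).le)
      (component_le_layer hL)
  rw [genFitting_eq_sup, this, fitting_eq_center hD h2 h3]

theorem centralizer_le_center [Finite G] (hD : IsThreeTranspositionClass D)
    (h2 : Cfsg.pCore 2 G ≤ Subgroup.center G) (h3 : Cfsg.pCore 3 G ≤ Subgroup.center G)
    {L : Subgroup G} [L.Normal]
    (hF : Cfsg.generalizedFittingSubgroup G = L ⊔ Subgroup.center G) :
    Subgroup.centralizer (L : Set G) ≤ Subgroup.center G := by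
  intro x hx
  have hxF : x ∈ L ⊔ Subgroup.center G := by
    rw [← hF]
    refine centralizer_genFitting_le ?_
    rw [Subgroup.mem_centralizer_iff]
    intro y hy
    rw [SetLike.mem_coe, hF, Subgroup.mem_sup_of_normal_left] at hy
    obtain ⟨l, hl, c, hc, rfl⟩ := hy
    have e1 := Subgroup.mem_centralizer_iff.1 hx l hl
    have e2 := Subgroup.mem_center_iff.1 hc x
    rw [mul_assoc, ← e2, ← mul_assoc, e1, mul_assoc]
  obtain ⟨l, hl, c, hc, rfl⟩ := Subgroup.mem_sup_of_normal_left.1 hxF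
  refine mul_mem ?_ hc
  set Y := Subgroup.centralizer (L : Set G) ⊓ L with hY
  have hlY : l ∈ Y := by
    refine ⟨?_, hl⟩
    have hc' : c ∈ Subgroup.centralizer (L : Set G) :=
      Subgroup.mem_centralizer_iff.2 fun y _ => Subgroup.mem_center_iff.1 hc y
    simpa using mul_mem hx (inv_mem hc')
  have : IsMulCommutative Y := ⟨⟨fun a b => Subtype.ext
    (Subgroup.mem_centralizer_iff.1 b.2.1 a a.2.2)⟩⟩
  exact (normal_nilpotent_le_fitting (N := Y) inferInstance
    (by open scoped IsMulCommutative in infer_instance) |>.trans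
    (fitting_eq_center hD h2 h3).le) hlY

theorem le_of_normal_noncentral [Finite G] (hD : IsThreeTranspositionClass D)
    (h2 : Cfsg.pCore 2 G ≤ Subgroup.center G) (h3 : Cfsg.pCore 3 G ≤ Subgroup.center G)
    {L : Subgroup G} [L.Normal] (hL : Cfsg.IsQuasisimple L)
    (hF : Cfsg.generalizedFittingSubgroup G = L ⊔ Subgroup.center G)
    (K : Subgroup G) [K.Normal] (hK : ¬ K ≤ Subgroup.center G) : L ≤ K := by
  rcases qsSub_normal (N := K) hL (le_normalizer_of_normal L) with h | h
  · exact h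
  exfalso
  apply hK
  refine le_trans ?_ (centralizer_le_center hD h2 h3 hF)
  rw [← Subgroup.commutator_eq_bot_iff_le_centralizer, Subgroup.commutator_comm]
  refine commutator_eq_bot_of_perfect (qsSub_perfect hL) ?_
  rw [Subgroup.commutator_comm]
  exact le_bot_iff.1 (le_trans
    (Subgroup.commutator_mono le_rfl (Subgroup.commutator_le_inf L K)) h.le)

/-- Two members commuting modulo a quasisimple normal subgroup are congruent modulo it. -/
theorem width_one_image (hD : IsThreeTranspositionClass D) {L : Subgroup G}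
    [hn : L.Normal] (hL : Cfsg.IsQuasisimple L) {a b : G} (ha : a ∈ D) (hb : b ∈ D)
    (hab : a * b * a⁻¹ * b⁻¹ ∈ L) : a⁻¹ * b ∈ L := by
  by_contra hne
  rw [mul_mem_coset_iff hD.1 ha] at hne
  let π := QuotientGroup.mk' L
  have hπ2 : π (a * b) ^ 2 = 1 := by
    rw [← map_pow, QuotientGroup.mk'_apply, QuotientGroup.eq_one_iff]
    rw [tt_inv hD.1 ha, tt_inv hD.1 hb] at hab
    rwa [pow_two, ← mul_assoc]
  have hk : ∀ k ∈ L, ∀ m ∈ L, Commute (k * a * k⁻¹) (m * b * m⁻¹) := by
    intro k hk m hm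
    have hka := tt_invariant hD k ha
    have hmb := tt_invariant hD m hb
    by_contra hc
    have e1 : π k = 1 := (QuotientGroup.eq_one_iff _).2 hk
    have e2 : π m = 1 := (QuotientGroup.eq_one_iff _).2 hm
    have h3 : π (a * b) ^ 3 = 1 := by
      have h := congrArg π (tt_cube hD.1 hka hmb hc)
      rw [map_pow, map_mul, map_mul, map_mul, map_mul, map_mul, map_inv, map_inv, e1, e2,
        map_one] at h
      simpa using h
    exact hne ((QuotientGroup.eq_one_iff _).1 (eq_one_of_two_three hπ2 h3))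
  have hle : ∀ c ∈ D, L ≤ Subgroup.closure {e | ∃ k ∈ L, e = k * c * k⁻¹} := by
    intro c hc
    set C := Subgroup.closure {e | ∃ k ∈ L, e = k * c * k⁻¹} with hC
    have hnorm : L ≤ Subgroup.normalizer (C : Set G) := by
      refine tt_le_normalizer_closure fun g hg => ?_
      rintro _ ⟨k, hk, rfl⟩
      exact Subgroup.subset_closure ⟨g * k, mul_mem hg hk, by group⟩
    rcases qsSub_normal hL hnorm with h | h
    · exact h
    exfalso
    refine qsSub_not_commute hD hL hc fun x hx => ?_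
    have hcC : Subgroup.zpowers c ≤ C :=
      Subgroup.zpowers_le.2 (Subgroup.subset_closure ⟨1, one_mem _, by group⟩)
    have hcb : ⁅L, Subgroup.zpowers c⁆ = ⊥ := by
      refine commutator_eq_bot_of_perfect (qsSub_perfect hL) ?_
      rw [Subgroup.commutator_comm]
      refine le_bot_iff.1 (le_trans (Subgroup.commutator_mono le_rfl (le_inf ?_ ?_)) h.le)
      · exact Subgroup.commutator_le_left L _
      · exact (Subgroup.commutator_mono le_rfl hcC).trans
          (commutator_le_of_le_normalizer hnorm)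
    exact (commute_of_commutator_eq_bot hcb hx (Subgroup.mem_zpowers c)).symm
  refine qsSub_ne_bot hL (le_bot_iff.1 ?_)
  calc L = ⁅L, L⁆ := (qsSub_perfect hL).symm
    _ ≤ ⁅Subgroup.closure {e | ∃ k ∈ L, e = k * a * k⁻¹},
          Subgroup.closure {e | ∃ k ∈ L, e = k * b * k⁻¹}⁆ :=
        Subgroup.commutator_mono (hle a ha) (hle b hb)
    _ ≤ ⊥ := by
      rw [le_bot_iff, Subgroup.commutator_eq_bot_iff_le_centralizer,
        Subgroup.centralizer_closure, Subgroup.closure_le]
      rintro _ ⟨k, hk', rfl⟩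
      rw [SetLike.mem_coe, Subgroup.mem_centralizer_iff]
      rintro _ ⟨m, hm, rfl⟩
      exact (hk k hk' m hm).eq.symm

end Cfsg.Agent.Components
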