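import Cfsg.Agent.Components.TTStructure
import Cfsg.Agent.Coprime.SchurZassenhaus
import Cfsg.Agent.PGroups.Basic

/-!
A 3-transposition normalizes a Sylow 3-subgroup when the transpositions have width one modulo the
2-core.
-/

set_option autoImplicit false

namespace Cfsg.Agent.Components

universe u

open Cfsg.Agent.H44

variable {G : Type u} [Group G]

/-- An involution normalizing `AP`, with `A` elementary abelian and all products of it with its
conjugates under `P` of order at most three, normalizes a conjugate of `P`. -/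
theorem exists_conj_normalized [Finite G] (A P : Subgroup G) [hAn : A.Normal]
    (hA2 : ∀ x ∈ A, x * x = 1) (hP : IsPGroup 3 P) {d : G} (hdd : d * d = 1)
    (hnorm : ∀ g ∈ P, d * g * d ∈ A ⊔ P)
    (h23 : ∀ g ∈ P, (d * g * d * g⁻¹) ^ 2 = 1 ∨ (d * g * d * g⁻¹) ^ 3 = 1)
    (hmove : ∃ g ∈ P, d * g * d * g⁻¹ ∉ A) :
    ∃ b ∈ A, ∀ g ∈ P, d * (b * g * b⁻¹) * d ∈ P.map (MulAut.conj b).toMonoidHom := by
  classical
  have : Fact (Nat.Prime 2) := ⟨Nat.prime_two⟩
  have : Fact (Nat.Prime 3) := ⟨Nat.prime_three⟩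
  have hdi : d⁻¹ = d := inv_eq_of_mul_eq_one_right hdd
  have hAinv : ∀ x ∈ A, x⁻¹ = x := fun x hx => inv_eq_of_mul_eq_one_right (hA2 x hx)
  have hAc : ∀ x ∈ A, ∀ y ∈ A, x * y = y * x := fun x hx y hy => by
    have h := hAinv (x * y) (mul_mem hx hy)
    rw [mul_inv_rev, hAinv x hx, hAinv y hy] at h
    exact h.symm
  have hAp : IsPGroup 2 A := fun x => ⟨1, Subtype.ext (by
    show (x : G) ^ (2 ^ 1) = 1
    rw [pow_one, pow_two]; exact hA2 x x.2)⟩
  have : IsMulCommutative A := ⟨⟨fun p q => Subtype.ext (hAc p p.2 q q.2)⟩⟩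
  have hAP : ∀ x, x ∈ A → x ∈ P → x = 1 := by
    intro x hxA hxP
    exact eq_one_of_coprime_pow (p := 3) (n := 2) (by norm_num) hP hxP
      (by rw [pow_two]; exact hA2 x hxA)
  have hcop : Nat.Coprime (Nat.card P) (Nat.card A) := by
    obtain ⟨m, hm⟩ := hP.exists_card_eq
    obtain ⟨n, hn⟩ := hAp.exists_card_eq
    rw [hm, hn]
    exact Nat.Coprime.pow m n (by norm_num)
  have hnA : P ≤ Subgroup.normalizer (A : Set G) := le_normalizer_of_normal P
  obtain ⟨a, ha, hPa⟩ := Coprime.exists_conj_of_le_sup (N := A) (H₁ := P)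
    (H₂ := P.map (MulAut.conj d).toMonoidHom) hnA
    (by
      rintro _ ⟨g, hg, rfl⟩
      show d * g * d⁻¹ ∈ _
      rw [hdi]; exact hnorm g hg)
    (Subgroup.card_map_of_injective (MulAut.conj d).injective) hcop
    (Or.inr (by open scoped IsMulCommutative in infer_instance))
  have hai := hAinv a ha
  have haa := hA2 a ha
  let σ : G → G := fun g => a * (d * g * d) * a
  have hσP : ∀ g ∈ P, σ g ∈ P := by
    intro g hg
    have h : d * g * d ∈ P.map (MulAut.conj a).toMonoidHom := by
      rw [← hPa]; exact ⟨g, hg, by show d * g * d⁻¹ = d * g * d; rw [hdi]⟩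
    obtain ⟨k, hk, e⟩ := h
    have e' : a * k * a⁻¹ = d * g * d := e
    show a * (d * g * d) * a ∈ P
    rw [← e', hai, show a * (a * k * a) * a = (a * a) * k * (a * a) by group, haa, one_mul, mul_one]
    exact hk
  have hσm : ∀ g k, σ (g * k) = σ g * σ k := fun g k => by
    show a * (d * (g * k) * d) * a = a * (d * g * d) * a * (a * (d * k * d) * a)
    calc a * (d * (g * k) * d) * a = a * d * g * 1 * k * d * a := by group
      _ = a * d * g * (d * (a * a) * d) * k * d * a := by rw [show d * (a * a) * d = 1 by rw [haa, mul_one, hdd]]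
      _ = _ := by group
  have hσ1 : σ 1 = 1 := by show a * (d * 1 * d) * a = 1; rw [mul_one, hdd, mul_one, haa]
  let π := QuotientGroup.mk' A
  have hπA : ∀ x ∈ A, π x = 1 := fun x hx => (QuotientGroup.eq_one_iff x).2 hx
  have hπd : π d * π d = 1 := by rw [← map_mul, hdd, map_one]
  have hπσ : ∀ g, π (σ g) = π d * π g * π d := fun g => by
    show π (a * (d * g * d) * a) = _
    rw [map_mul, map_mul, hπA a ha, one_mul, mul_one, map_mul, map_mul]
  have hσσ : ∀ g ∈ P, σ (σ g) = g := by
    intro g hg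
    refine mul_inv_eq_one.1 (hAP _ ?_ (mul_mem (hσP _ (hσP g hg)) (inv_mem hg)))
    rw [← QuotientGroup.eq_one_iff]
    show π (σ (σ g) * g⁻¹) = 1
    rw [map_mul, hπσ, hπσ, map_inv,
      show π d * (π d * π g * π d) * π d = (π d * π d) * π g * (π d * π d) by group, hπd, one_mul,
      mul_one, mul_inv_cancel]
  set c := a * (d * a * d) with hc
  have hDA : ∀ x ∈ A, d * x * d ∈ A := fun x hx => by
    have := hAn.conj_mem x hx d
    rwa [hdi] at this
  have hcA : c ∈ A := mul_mem ha (hDA a ha)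
  have hDa : d * a * d = a * c := by rw [hc, ← mul_assoc, haa, one_mul]
  have hcP : ∀ g ∈ P, g * c = c * g := by
    intro g hg
    have h : c * g * c = g := by
      calc c * g * c = a * (d * a * d) * g * ((d * a * d) * a) := by
            rw [hc, hAc _ ha _ (hDA a ha)]
        _ = σ (σ g) := by simp only [σ]; group
        _ = g := hσσ g hg
    calc g * c = c * g * c * c := by rw [h]
      _ = c * g := by rw [mul_assoc, hA2 c hcA, mul_one]
  -- conjugation by `d` on conjugates
  have hDact : ∀ g x, x ∈ A → d * (g * x * g⁻¹) * d = σ g * (d * x * d) * (σ g)⁻¹ := by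
    intro g x hx
    have hy : d * (g * x * g⁻¹) * d ∈ A := hDA _ (hAn.conj_mem x hx g)
    have e : d * (g * x * g⁻¹) * d = (d * g * d) * (d * x * d) * (d * g * d)⁻¹ := by
      simp only [mul_inv_rev, hdi]
      calc d * (g * x * g⁻¹) * d = d * g * 1 * x * 1 * g⁻¹ * d := by group
        _ = d * g * (d * d) * x * (d * d) * g⁻¹ * d := by rw [hdd]
        _ = _ := by group
    have e2 : a * (d * x * d) * a = d * x * d := by
      rw [hAc a ha _ (hDA x hx), mul_assoc, haa, mul_one]
    have e3 : σ g * (d * x * d) * (σ g)⁻¹ =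
        a * ((d * g * d) * (a * (d * x * d) * a) * (d * g * d)⁻¹) * a := by
      simp only [σ, mul_inv_rev, hai]; group
    rw [e3, e2, ← e, hAc a ha _ hy, mul_assoc _ a a, haa, mul_one]
  let M : Subgroup G :=
    { carrier := {m | ∃ b ∈ A, ∃ s ∈ A, (∀ g ∈ P, g * s = s * g) ∧ m = b * (d * b * d) * s}
      one_mem' := ⟨1, one_mem _, 1, one_mem _, fun g _ => by rw [mul_one, one_mul],
        by rw [mul_one, mul_one, hdd, one_mul]⟩
      mul_mem' := by
        rintro _ _ ⟨b, hb, s, hs, hsP, rfl⟩ ⟨b', hb', s', hs', hsP', rfl⟩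
        refine ⟨b * b', mul_mem hb hb', s * s', mul_mem hs hs',
          fun g hg => by rw [← mul_assoc, hsP g hg, mul_assoc, hsP' g hg, mul_assoc], ?_⟩
        have k1 : d * (b * b') * d = d * b * d * (d * b' * d) := by
          calc d * (b * b') * d = d * b * 1 * b' * d := by group
            _ = d * b * (d * d) * b' * d := by rw [hdd]
            _ = _ := by group
        rw [k1]
        have := hAc _ (mul_mem (hDA b hb) hs) _ hb'
        calc b * (d * b * d) * s * (b' * (d * b' * d) * s')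
            = b * ((d * b * d) * s * b') * (d * b' * d) * s' := by group
          _ = b * (b' * ((d * b * d) * s)) * (d * b' * d) * s' := by rw [this]
          _ = b * b' * (d * b * d) * (s * (d * b' * d)) * s' := by group
          _ = b * b' * (d * b * d) * ((d * b' * d) * s) * s' := by rw [hAc _ hs _ (hDA b' hb')]
          _ = _ := by group
      inv_mem' := by
        rintro m ⟨b, hb, s, hs, hsP, rfl⟩
        refine ⟨b, hb, s, hs, hsP, hAinv _ (mul_mem (mul_mem hb (hDA b hb)) hs)⟩ }
  have hMA : ∀ m ∈ M, m ∈ A := by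
    rintro _ ⟨b, hb, s, hs, -, rfl⟩; exact mul_mem (mul_mem hb (hDA b hb)) hs
  -- an inverted element of order three
  obtain ⟨g₀, hg₀, hne⟩ := hmove
  have htau : ∀ p ∈ P, d * p * d * p⁻¹ = a * (σ p * a * (σ p)⁻¹) * (σ p * p⁻¹) := fun p _ => by
    calc d * p * d * p⁻¹ = (a * a) * (d * p * d) * (a * a) * p⁻¹ := by
          rw [haa, one_mul, mul_one]
      _ = a * σ p * a * p⁻¹ := by simp only [σ]; group
      _ = _ := by group
  have hcube : ∀ p ∈ P, σ p * p⁻¹ ≠ 1 → (d * p * d * p⁻¹) ^ 3 = 1 := by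
    intro p hp hne'
    refine (h23 p hp).resolve_left fun h2 => hne' ?_
    refine eq_one_of_coprime_pow (p := 3) (n := 2) (by norm_num) hP
      (mul_mem (hσP p hp) (inv_mem hp)) ?_
    refine hAP _ ?_ (pow_mem (mul_mem (hσP p hp) (inv_mem hp)) 2)
    rw [← QuotientGroup.eq_one_iff]
    show π ((σ p * p⁻¹) ^ 2) = 1
    have hwA : a * (σ p * a * (σ p)⁻¹) ∈ A := mul_mem ha (hAn.conj_mem a ha _)
    rw [htau p hp] at h2
    have := congrArg π h2
    rwa [map_pow, map_mul π (a * _), hπA _ hwA, one_mul, map_one, ← map_pow] at this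
  set i := σ g₀ * g₀⁻¹ with hi
  have hiP : i ∈ P := mul_mem (hσP g₀ hg₀) (inv_mem hg₀)
  have hi1 : i ≠ 1 := by
    intro h
    apply hne
    rw [htau g₀ hg₀, ← hi, h, mul_one]
    exact mul_mem ha (hAn.conj_mem a ha _)
  have hi3 : i * i * i = 1 := by
    have h := congrArg π (hcube g₀ hg₀ hi1)
    rw [htau g₀ hg₀, map_pow, map_mul π (a * _),
      hπA _ (mul_mem ha (hAn.conj_mem a ha _)), one_mul, map_one, ← map_pow] at h
    rw [← pow_three']
    exact hAP _ ((QuotientGroup.eq_one_iff _).1 h) (pow_mem hiP 3)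
  have hii : i⁻¹ = i * i := inv_eq_of_mul_eq_one_left hi3
  have hσi : σ i = i⁻¹ := by
    refine eq_inv_of_mul_eq_one_left ?_
    have hs : σ g₀⁻¹ = (σ g₀)⁻¹ :=
      eq_inv_of_mul_eq_one_left (by rw [← hσm, inv_mul_cancel, hσ1])
    rw [hi, hσm, hσσ g₀ hg₀, hs]; group
  let act : G → G → G := fun g x => g * x * g⁻¹
  -- `x ≡ x^(1+i+i²)`
  have hF1 : ∀ x ∈ A, d * x * d = x * c → act i x * act (i * i) x ∈ M := by
    intro x hx hx'
    have hyA : act i x ∈ A := hAn.conj_mem x hx i
    refine ⟨act i x, hyA, c, hcA, hcP, ?_⟩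
    have e : d * act i x * d = act (i * i) x * c := by
      show d * (i * x * i⁻¹) * d = _
      rw [hDact i x hx, hx', hσi, hii]
      show i * i * (x * c) * (i * i)⁻¹ = i * i * x * (i * i)⁻¹ * c
      have := hcP _ (inv_mem (mul_mem hiP hiP))
      calc i * i * (x * c) * (i * i)⁻¹ = i * i * x * (c * (i * i)⁻¹) := by group
        _ = i * i * x * ((i * i)⁻¹ * c) := by rw [this]
        _ = _ := by group
    rw [e, mul_assoc (act i x) _ c, mul_assoc (act (i * i) x) c c, hA2 c hcA, mul_one]
  have hDk : ∀ k, k ∈ P → σ k = k → d * act k a * d = act k a * c := by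
    intro k hk hσk
    show d * (k * a * k⁻¹) * d = k * a * k⁻¹ * c
    rw [hDact k a ha, hσk, hDa]
    calc k * (a * c) * k⁻¹ = k * a * (c * k⁻¹) := by group
      _ = k * a * (k⁻¹ * c) := by rw [hcP _ (inv_mem hk)]
      _ = _ := by group
  have hfix : ∀ k ∈ P, σ k = k → act k a * a ∈ M := by
    intro k hk hσk
    have hkA : act k a ∈ A := hAn.conj_mem a ha k
    have h1 := hF1 a ha hDa
    have h2 := hF1 _ hkA (hDk k hk hσk)
    have hp : i * k ∈ P := mul_mem hiP hk
    have hτ : σ (i * k) * (i * k)⁻¹ = i := by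
      rw [hσm, hσi, hσk, show i⁻¹ * k * (i * k)⁻¹ = i⁻¹ * i⁻¹ by group, hii]
      calc i * i * (i * i) = (i * i * i) * i := by group
        _ = i := by rw [hi3, one_mul]
    have h3 := hcube _ hp (by rw [hτ]; exact hi1)
    rw [htau _ hp, hτ, hσm, hσi, hσk, hii] at h3
    -- `w = a * y`
    set y := i * i * k * a * (i * i * k)⁻¹ with hy
    have hyA : y ∈ A := hAn.conj_mem a ha _
    have hw : (a * y) * act i (a * y) * act (i * i) (a * y) = 1 := by
      have e : (a * y * i) ^ 3 = (a * y) * act i (a * y) * act (i * i) (a * y) * (i * i * i) := by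
        simp only [act, pow_succ, pow_zero, one_mul]; group
      rw [← h3, e, hi3, mul_one]
    have q1 : act i y = act k a := by
      show i * (i * i * k * a * (i * i * k)⁻¹) * i⁻¹ = k * a * k⁻¹
      calc i * (i * i * k * a * (i * i * k)⁻¹) * i⁻¹
          = (i * i * i) * k * a * k⁻¹ * (i * i * i)⁻¹ := by group
        _ = _ := by rw [hi3, one_mul, inv_one, mul_one]
    have q2 : act (i * i) y = act i (act k a) := by
      rw [← q1]; simp only [act]; group
    have q3 : y = act (i * i) (act k a) := by simp only [act, hy]; group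
    have e1 : act i (a * y) = act i a * act k a := by
      rw [← q1]; simp only [act]; group
    have e2 : act (i * i) (a * y) = act (i * i) a * act i (act k a) := by
      rw [← q2]; simp only [act]; group
    rw [e1, e2, q3] at hw
    have key : act k a * a =
        (act i a * act (i * i) a) * (act i (act k a) * act (i * i) (act k a)) := by
      have hia : act i a ∈ A := hAn.conj_mem a ha _
      have hiia : act (i * i) a ∈ A := hAn.conj_mem a ha _
      have hik : act i (act k a) ∈ A := hAn.conj_mem _ hkA _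
      have hiik : act (i * i) (act k a) ∈ A := hAn.conj_mem _ hkA _
      open scoped IsMulCommutative in
      have : (⟨_, hkA⟩ : A) * ⟨a, ha⟩ =
          (⟨_, hia⟩ * ⟨_, hiia⟩) * (⟨_, hik⟩ * ⟨_, hiik⟩) := by
        have hw' : (⟨a, ha⟩ : A) * ⟨_, hiik⟩ * (⟨_, hia⟩ * ⟨_, hkA⟩) * (⟨_, hiia⟩ * ⟨_, hik⟩)
            = 1 := Subtype.ext hw
        have hinv : ((⟨_, hkA⟩ : A) * ⟨a, ha⟩)⁻¹ = ⟨_, hkA⟩ * ⟨a, ha⟩ :=
          Subtype.ext (hAinv _ (mul_mem hkA ha))
        rw [← hinv]
        refine inv_eq_of_mul_eq_one_right ?_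
        rw [← hw']
        ac_rfl
      exact congrArg Subtype.val this
    rw [key]; exact mul_mem h1 h2
  -- the product over `P`
  have haM : a ∈ M := by
    open scoped IsMulCommutative in
    let q := QuotientGroup.mk' (M.subgroupOf A)
    let fA : P → A := fun g => ⟨act g a, hAn.conj_mem a ha g⟩
    have : Fintype P := Fintype.ofFinite P
    let σP : P → P := fun g => ⟨σ g, hσP g g.2⟩
    have htot : q (∏ g, fA g) = 1 := by
      rw [QuotientGroup.mk'_apply, QuotientGroup.eq_one_iff]
      refine ⟨1, one_mem _, _, (∏ g, fA g).2, fun k hk => ?_, by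
        rw [mul_one, hdd, one_mul, one_mul]; rfl⟩
      have h : MulAut.conjNormal k (∏ g, fA g) = ∏ g, fA g := by
        rw [map_prod]
        exact Fintype.prod_equiv (Equiv.mulLeft ⟨k, hk⟩) _ _ fun g => Subtype.ext (by
          rw [MulAut.conjNormal_apply]
          show k * ((g : G) * a * (g : G)⁻¹) * k⁻¹ = k * g * a * (k * g)⁻¹
          group)
      have h' := congrArg Subtype.val h
      rw [MulAut.conjNormal_apply, mul_inv_eq_iff_eq_mul] at h'
      exact h'
    have hpair : ∀ g : P, q (fA g) * q (fA (σP g)) = 1 := by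
      intro g
      rw [← map_mul, QuotientGroup.mk'_apply, QuotientGroup.eq_one_iff]
      refine ⟨act g a, hAn.conj_mem a ha g, c, hcA, hcP, ?_⟩
      show (g : G) * a * (g : G)⁻¹ * (σ g * a * (σ g)⁻¹) = (g : G) * a * (g : G)⁻¹ * _ * c
      rw [mul_assoc _ (d * _ * d) c, hDact g a ha, hDa]
      congr 1
      calc σ g * a * (σ g)⁻¹ = σ g * a * (σ g)⁻¹ * (c * c) := by rw [hA2 c hcA, mul_one]
        _ = σ g * a * ((σ g)⁻¹ * c) * c := by group
        _ = σ g * a * (c * (σ g)⁻¹) * c := by rw [hcP _ (inv_mem (hσP g g.2))]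
        _ = _ := by group
    have hsplit := Finset.prod_filter_mul_prod_filter_not Finset.univ (fun g : P => σP g = g)
      fun g => q (fA g)
    have hmoved : ∏ g ∈ Finset.univ.filter (fun g : P => ¬ σP g = g), q (fA g) = 1 := by
      refine Finset.prod_involution (fun g _ => σP g) (fun g _ => hpair g)
        (fun g hg _ => (Finset.mem_filter.1 hg).2) (fun g hg => ?_) fun g _ => ?_
      · rw [Finset.mem_filter]
        refine ⟨Finset.mem_univ _, fun h => (Finset.mem_filter.1 hg).2 ?_⟩
        have := congrArg Subtype.val h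
        rw [show ((σP (σP g) : P) : G) = g from hσσ g g.2] at this
        exact Subtype.ext this.symm
      · exact Subtype.ext (hσσ g g.2)
    rw [hmoved, mul_one, ← map_prod q fA Finset.univ, htot] at hsplit
    have hconst : ∀ g ∈ Finset.univ.filter (fun g : P => σP g = g),
        q (fA g) = q ⟨a, ha⟩ := by
      intro g hg
      have hσg : σ g = g := congrArg Subtype.val (Finset.mem_filter.1 hg).2
      refine QuotientGroup.eq.2 ?_
      show ((fA g)⁻¹ * ⟨a, ha⟩ : A).1 ∈ M
      rw [Subgroup.coe_mul, Subgroup.coe_inv]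
      show (act g a)⁻¹ * a ∈ M
      rw [hAinv _ (hAn.conj_mem a ha g)]
      exact hfix g g.2 hσg
    rw [Finset.prod_congr rfl hconst, Finset.prod_const] at hsplit
    set n := (Finset.univ.filter (fun g : P => σP g = g)).card
    have hn : Odd n := by
      have hCinv : ∀ x : P, σP x = x → σ (x : G)⁻¹ = (x : G)⁻¹ := fun x hx => by
        refine eq_inv_of_mul_eq_one_left ?_
        have hx' : σ (x : G) = x := congrArg Subtype.val hx
        nth_rw 2 [← hx']
        rw [← hσm, inv_mul_cancel, hσ1]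
      let C : Subgroup P :=
        { carrier := {g | σP g = g}
          one_mem' := Subtype.ext hσ1
          mul_mem' := by
            intro x y hx hy
            refine Subtype.ext ?_
            show σ ((x : G) * y) = (x : G) * y
            rw [hσm, show σ (x : G) = x from congrArg Subtype.val hx,
              show σ (y : G) = y from congrArg Subtype.val hy]
          inv_mem' := by
            intro x hx
            refine Subtype.ext ?_
            show σ (x : G)⁻¹ = (x : G)⁻¹
            exact hCinv x hx }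
      have hnC : n = Nat.card C := by
        exact (Nat.subtype_card (p := fun g : P => g ∈ C) _ fun g => by
          simp only [Finset.mem_filter, Finset.mem_univ, true_and]; rfl).symm
      obtain ⟨m, hm⟩ := hP.exists_card_eq
      have hdvd : Nat.card C ∣ 3 ^ m := hm ▸ C.card_subgroup_dvd_card
      rw [hnC]
      exact (show Odd (3 ^ m) from Odd.pow (by decide)).of_dvd_nat hdvd
    obtain ⟨l, hl⟩ := hn
    have hsq : q ⟨a, ha⟩ ^ 2 = 1 := by
      rw [← map_pow, pow_two, show (⟨a, ha⟩ : A) * ⟨a, ha⟩ = 1 from Subtype.ext haa, map_one]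
    rw [hl, pow_succ, pow_mul, hsq, one_pow, one_mul] at hsplit
    exact (QuotientGroup.eq_one_iff (⟨a, ha⟩ : A)).1 hsplit
  obtain ⟨b, hb, s, hs, hsP, hab⟩ := haM
  refine ⟨b, hb, fun g hg => ⟨σ g, hσP g hg, ?_⟩⟩
  show b * σ g * b⁻¹ = d * (b * g * b⁻¹) * d
  have hbs : d * b * d * a = b * s := by
    rw [hab, ← mul_assoc, ← mul_assoc, hAc _ (hDA b hb) b hb, mul_assoc b,
      hA2 _ (hDA b hb), mul_one]
  symm
  calc d * (b * g * b⁻¹) * d = d * b * (d * d) * g * (d * d) * b⁻¹ * d := by
        rw [hdd]; group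
    _ = (d * b * d) * ((a * a) * (d * g * d) * (a * a)) * (d⁻¹ * b⁻¹ * d⁻¹) := by
        rw [haa, hdi]; group
    _ = (d * b * d * a) * σ g * (d * b * d * a)⁻¹ := by
        simp only [σ, mul_inv_rev, hdi, hai]; group
    _ = b * (s * σ g) * (b * s)⁻¹ := by rw [hbs]; group
    _ = b * σ g * b⁻¹ := by rw [← hsP _ (hσP g hg)]; group

variable {D : Set G}

/-- If members commuting with `d` lie in its coset modulo the 2-core, `d` normalizes a Sylow
3-subgroup supplementing the 2-core. -/
theorem exists_sylow_normalized [Finite G] (hZS : H61.ZStarTheorem.{u})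
    (hD : IsThreeTranspositionClass D) (hD2 : ∃ a ∈ D, ∃ b ∈ D, a ≠ b) {d : G} (hd : d ∈ D)
    (hper : ∀ y ∈ D, Commute d y → d * y ∈ Cfsg.pCore 2 G) :
    ∃ P : Sylow 3 G, d ∈ Subgroup.normalizer ((P : Subgroup G) : Set G) ∧
      Subgroup.zpowers d ⊔ (P : Subgroup G) ⊔ Cfsg.pCore 2 G = ⊤ := by
  have : Fact (Nat.Prime 2) := ⟨Nat.prime_two⟩
  have : Fact (Nat.Prime 3) := ⟨Nat.prime_three⟩
  have : (Cfsg.pCore 2 G).Normal := inferInstance
  set Q := Cfsg.pCore 2 G with hQ
  let π := QuotientGroup.mk' Q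
  have hπs : Function.Surjective π := QuotientGroup.mk'_surjective Q
  have hπeq : ∀ a ∈ D, ∀ b ∈ D, (π a = π b ↔ a * b ∈ Q) := fun a ha b hb => by
    rw [QuotientGroup.mk'_apply, QuotientGroup.mk'_apply, QuotientGroup.eq, tt_inv hD.1 ha]
  have hall : ¬ ∀ e ∈ D, d * e ∈ Q := by
    intro h
    obtain ⟨e, he, hc⟩ := exists_noncommute hD hD2 hd
    exact hc (commute_of_pCore_two hD.1 hd he (h e he))
  have hper' : ∀ a ∈ D, ∀ b ∈ D, Commute a b → a * b ∈ Q := by
    intro a ha b hb hc
    obtain ⟨g, rfl⟩ := tt_class_conj hD hd ha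
    have hb' := tt_invariant hD g⁻¹ hb
    have hc' : Commute d (g⁻¹ * b * g⁻¹⁻¹) := by
      rw [← commute_conj_iff g, show g * (g⁻¹ * b * g⁻¹⁻¹) * g⁻¹ = b by group]; exact hc
    have := (inferInstance : Q.Normal).conj_mem _ (hper _ hb' hc') g
    rwa [show g * (d * (g⁻¹ * b * g⁻¹⁻¹)) * g⁻¹ = g * d * g⁻¹ * b by group] at this
  have hπsq : ∀ a ∈ D, π a * π a = 1 := fun a ha => by
    rw [← map_mul, tt_mul_self hD.1 ha, map_one]
  have hπord : ∀ a ∈ D, orderOf (π a) = 2 := by
    intro a ha
    refine orderOf_eq_prime (by rw [pow_two, hπsq a ha]) fun h => hall fun e he => ?_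
    have key : ∀ x ∈ D, x ∈ Q := fun x hx => by
      obtain ⟨g, rfl⟩ := tt_class_conj hD ha hx
      exact (inferInstance : Q.Normal).conj_mem _ ((QuotientGroup.eq_one_iff _).1 h) g
    exact mul_mem (key d hd) (key e he)
  set X : Set (G ⧸ Q) := π '' D with hX
  set S := Subgroup.closure {z | ∃ x ∈ X, ∃ y ∈ X, z = x * y} with hS
  have hS3 : IsPGroup 3 S := by
    refine isPGroup_closure_products hZS ?_ ?_ ?_
    · rintro _ ⟨a, ha, rfl⟩; exact hπord a ha
    · rintro _ ⟨a, ha, rfl⟩ _ ⟨b, hb, rfl⟩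
      refine ⟨a * b * a, ?_, by rw [map_mul, map_mul]⟩
      rw [← tt_conj_eq hD.1 ha]; exact tt_invariant hD a hb
    · rintro _ ⟨a, ha, rfl⟩ _ ⟨b, hb, rfl⟩
      by_cases hc : Commute a b
      · rw [(hπeq a ha b hb).2 (hper' a ha b hb hc), hπsq b hb, one_pow]
      · rw [← map_mul, ← map_pow, tt_cube hD.1 ha hb hc, map_one]
  have hSn : S.Normal := by
    rw [← Subgroup.normalizer_eq_top_iff, ← top_le_iff]
    refine tt_le_normalizer_closure fun g _ => ?_
    rintro _ ⟨_, ⟨a, ha, rfl⟩, _, ⟨b, hb, rfl⟩, rfl⟩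
    obtain ⟨g, rfl⟩ := hπs g
    exact Subgroup.subset_closure ⟨π (g * a * g⁻¹), ⟨_, tt_invariant hD g ha, rfl⟩,
      π (g * b * g⁻¹), ⟨_, tt_invariant hD g hb, rfl⟩, by simp only [map_mul, map_inv]; group⟩
  have hgenS : S ⊔ Subgroup.zpowers (π d) = ⊤ := by
    rw [← top_le_iff, ← Subgroup.map_top_of_surjective π hπs, ← hD.2.2, MonoidHom.map_closure,
      Subgroup.closure_le]
    rintro _ ⟨e, he, rfl⟩
    rw [show π e = π e * π d * π d by rw [mul_assoc, hπsq d hd, mul_one]]
    exact Subgroup.mul_mem_sup (Subgroup.subset_closure ⟨_, ⟨e, he, rfl⟩, _, ⟨d, hd, rfl⟩, rfl⟩)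
      (Subgroup.mem_zpowers _)
  -- the image of a Sylow subgroup
  have hPS : ∀ P : Sylow 3 G, (P : Subgroup G).map π = S := by
    intro P
    have hle : S ≤ (P : Subgroup G).map π :=
      (Cores.le_pCore hS3).trans (Cores.pCore_le_sylow (P.mapSurjective hπs))
    refine le_antisymm (fun x hx => ?_) hle
    obtain ⟨s, hs, t, ht, rfl⟩ :=
      Subgroup.mem_sup_of_normal_left.1 (hgenS ▸ Subgroup.mem_top x)
    have htP : t ∈ (P : Subgroup G).map π := by
      have := mul_mem (inv_mem (hle hs)) hx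
      rwa [inv_mul_cancel_left] at this
    obtain ⟨n, rfl⟩ := Subgroup.mem_zpowers_iff.1 ht
    have h1 : π d ^ n = 1 := by
      refine eq_one_of_coprime_pow (p := 3) (n := 2) (by norm_num) (P.2.map π) htP ?_
      rw [← zpow_natCast, ← zpow_mul, mul_comm, zpow_mul, zpow_natCast, pow_two, hπsq d hd,
        one_zpow]
    rw [h1, mul_one]; exact hs
  have hmove : ∀ P : Sylow 3 G, ∃ g ∈ (P : Subgroup G), d * g * d * g⁻¹ ∉ Q := by
    intro P
    by_contra h
    push Not at h
    apply hall
    intro e he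
    have hcen : ∀ y : G ⧸ Q, Commute y (π d) := by
      intro y
      have hy : y ∈ S ⊔ Subgroup.zpowers (π d) := hgenS.symm ▸ Subgroup.mem_top y
      refine Subgroup.mem_centralizer_singleton_iff.1
        ((sup_le ?_ ?_ : _ ≤ Subgroup.centralizer ({π d} : Set (G ⧸ Q))) hy)
      · rw [← hPS P]
        rintro _ ⟨g, hg, rfl⟩
        rw [Subgroup.mem_centralizer_singleton_iff]
        have h1 := (QuotientGroup.eq_one_iff _).2 (h g hg)
        change π (d * g * d * g⁻¹) = 1 at h1
        rw [map_mul, map_inv, mul_inv_eq_one] at h1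
        calc π g * π d = π (d * g * d) * π d := by rw [h1]
          _ = π d * π g := by rw [map_mul, map_mul, mul_assoc, hπsq d hd, mul_one]
      · exact Subgroup.zpowers_le.2 (Subgroup.mem_centralizer_singleton_iff.2 rfl)
    obtain ⟨g, rfl⟩ := tt_class_conj hD hd he
    rw [← hπeq d hd _ he, map_mul, map_mul, map_inv, (hcen (π g)).eq, mul_inv_cancel_right]
  have key : ∀ n, ∀ N : Subgroup G, Nat.card N = n → N.Normal → N ≤ Q → ∀ P : Sylow 3 G,
      (∀ g ∈ (P : Subgroup G), d * g * d ∈ N ⊔ P) →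
      ∃ P' : Sylow 3 G, ∀ g ∈ (P' : Subgroup G), d * g * d ∈ (P' : Subgroup G) := by
    intro n
    induction n using Nat.strong_induction_on with
    | _ n ih =>
    intro N hn hNn hNQ P hP
    by_cases hN : N = ⊥
    · exact ⟨P, fun g hg => by simpa [hN] using hP g hg⟩
    have hNp : IsPGroup 2 N := Cores.pCore_isPGroup.to_le hNQ
    set M := (frattini N).map N.subtype with hM
    have hMn : M.Normal := ConjAct.normal_of_characteristic_of_normal
    have hMN : M ≤ N := Subgroup.map_subtype_le _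
    have : Nontrivial N := (Subgroup.nontrivial_iff_ne_bot N).2 hN
    have hlt : Nat.card M < n := by
      rw [← hn, hM, Subgroup.card_map_of_injective N.subtype_injective]
      refine lt_of_le_of_ne (Subgroup.card_le_card_group _) fun h => ?_
      obtain ⟨K, hK, -⟩ := (eq_top_or_exists_le_coatom (⊥ : Subgroup N)).resolve_left bot_ne_top
      exact hK.1 (top_le_iff.1 ((Subgroup.eq_top_of_card_eq _ h).ge.trans (Order.radical_le_coatom hK)))
    let f := QuotientGroup.mk' M
    have hfs : Function.Surjective f := QuotientGroup.mk'_surjective M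
    have : (N.map f).Normal := hNn.map f hfs
    obtain ⟨bb, hbb, hnorm⟩ := exists_conj_normalized (N.map f) ((P : Subgroup G).map f)
      (d := f d)
      (by
        rintro _ ⟨x, hx, rfl⟩
        rw [← map_mul, QuotientGroup.mk'_apply, QuotientGroup.eq_one_iff]
        exact ⟨⟨x, hx⟩ ^ 2, PGroups.pow_mem_frattini hNp _, by simp [pow_two]⟩)
      (P.2.map f) (by rw [← map_mul, tt_mul_self hD.1 hd, map_one])
      (by
        rintro _ ⟨g, hg, rfl⟩
        rw [← map_mul, ← map_mul, ← Subgroup.map_sup]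
        exact ⟨_, hP g hg, rfl⟩)
      (by
        rintro _ ⟨g, hg, rfl⟩
        rcases hD.1.2 d hd _ (tt_invariant hD g hd) with h | h
        · left
          rw [← map_mul, ← map_mul, ← map_inv, ← map_mul, ← map_pow,
            show d * g * d * g⁻¹ = d * (g * d * g⁻¹) by group, h, map_one]
        · right
          rw [← map_mul, ← map_mul, ← map_inv, ← map_mul, ← map_pow,
            show d * g * d * g⁻¹ = d * (g * d * g⁻¹) by group, h, map_one])
      (by
        obtain ⟨g, hg, hgQ⟩ := hmove P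
        refine ⟨f g, ⟨g, hg, rfl⟩, ?_⟩
        rintro ⟨x, hx, e⟩
        apply hgQ
        rw [← map_inv, ← map_mul, ← map_mul, ← map_mul] at e
        have h1 : x⁻¹ * (d * g * d * g⁻¹) ∈ M := QuotientGroup.eq.1 e
        have := mul_mem hx (hMN h1)
        rw [mul_inv_cancel_left] at this
        exact hNQ this)
    obtain ⟨b, hb, rfl⟩ := hbb
    refine ih _ hlt M rfl hMn (hMN.trans hNQ) (P.mapSurjective (f := (MulAut.conj b).toMonoidHom) (MulAut.conj b).surjective) ?_
    intro g' hg'
    change g' ∈ (P : Subgroup G).map (MulAut.conj b).toMonoidHom at hg'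
    change d * g' * d ∈ M ⊔ (P : Subgroup G).map (MulAut.conj b).toMonoidHom
    obtain ⟨g, hg, rfl⟩ := hg'
    obtain ⟨_, ⟨g2, hg2, rfl⟩, e⟩ := hnorm (f g) ⟨g, hg, rfl⟩
    have e' : f (b * g2 * b⁻¹) = f (d * (b * g * b⁻¹) * d) := by
      simp only [map_mul, map_inv]; exact e
    show d * (b * g * b⁻¹) * d ∈ _
    rw [← QuotientGroup.ker_mk' M, sup_comm, ← Subgroup.comap_map_eq, Subgroup.mem_comap,
      ← e']
    exact ⟨_, ⟨g2, hg2, rfl⟩, rfl⟩
  obtain ⟨P0⟩ : Nonempty (Sylow 3 G) := inferInstance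
  obtain ⟨P, hP⟩ := key _ Q rfl inferInstance le_rfl P0 fun g hg => by
    rw [← QuotientGroup.ker_mk' Q, sup_comm, ← Subgroup.comap_map_eq, Subgroup.mem_comap, hPS P0]
    have hgS : π g ∈ S := hPS P0 ▸ ⟨g, hg, rfl⟩
    have := hSn.conj_mem _ hgS (π d)
    rwa [inv_eq_of_mul_eq_one_right (hπsq d hd), ← map_mul, ← map_mul] at this
  refine ⟨P, ?_, ?_⟩
  · rw [Subgroup.mem_set_normalizer_iff]
    intro n
    rw [SetLike.mem_coe, tt_inv hD.1 hd]
    refine ⟨hP n, fun h => ?_⟩
    have := hP _ h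
    rwa [show d * (d * n * d) * d = (d * d) * n * (d * d) by group, tt_mul_self hD.1 hd, one_mul,
      mul_one] at this
  · have h : (Subgroup.zpowers d ⊔ (P : Subgroup G)).map π = ⊤ := by
      rw [Subgroup.map_sup, MonoidHom.map_zpowers, hPS P, sup_comm, hgenS]
    rw [← QuotientGroup.ker_mk' Q, ← Subgroup.comap_map_eq, h, Subgroup.comap_top]

end Cfsg.Agent.Components
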