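import Cfsg.Agent.H61.ZStarCor
import Cfsg.Agent.Cores.ZStarMain
import Cfsg.Agent.S0201

/-! Glauberman's Z*-theorem in the form used as a hypothesis by the 3-transposition files. -/

set_option autoImplicit false

namespace Cfsg.Agent.Components

universe u

theorem zStarTheorem : H61.ZStarTheorem.{u} := by
  intro G _ _ P u hu huP hiso
  exact ⟨Cfsg.oddCore G,
    @Subgroup.normal_of_characteristic _ _ _ Cores.pPrimeCore_characteristic,
    Cores.odd_card_oddCore,
    Cores.zStar (fun G _ _ S n e hO => S0201.result S n e hO) P hu huP hiso⟩

end Cfsg.Agent.Components
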