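import Cfsg.Agent.Components.Bender
import Cfsg.Agent.H59.PReduced
import Cfsg.Agent.Cores.Residual

/-!
The Thompson-Wielandt theorem for two maximal subgroups with trivial core.
-/

namespace Cfsg.Agent.Components

set_option linter.style.haveILetI false
set_option linter.unusedSectionVars false

open Cfsg.Agent
open scoped commutatorElement

variable {G : Type*} [Group G] [Finite G] {p : ℕ} [Fact p.Prime]

theorem pCoreIn_le_normalizer_residual {K S : Subgroup G} (hle : S ≤ K)
    (hsn : (S.subgroupOf K).IsSubnormal) :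
    pCoreIn p K ≤ Subgroup.normalizer ((Cfsg.pResidual p S).map S.subtype : Set G) := by
  set S' := S.subgroupOf K
  set B := (Cfsg.pResidual p S').map S'.subtype with hB
  have hBsn : B.IsSubnormal :=
    isSubnormal_map_subtype (Subgroup.Normal.isSubnormal inferInstance) hsn
  have hres : (Cfsg.pResidual p B).map B.subtype = B := by
    have e := (Cfsg.pResidual p S').equivMapOfInjective _ S'.subtype_injective
    have : Cfsg.pResidual p B = ⊤ := by
      rw [← Fusion.map_pResidual_equiv e, Cores.pResidual_pResidual]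
      exact Subgroup.map_top_of_surjective _ e.surjective
    rw [this, ← MonoidHom.range_eq_map, Subgroup.range_subtype]
  have h := (H59.normalizes_of_subnormal (A := Cfsg.pCore p K)
    (Subgroup.Normal.isSubnormal inferInstance) hBsn Cores.pCore_isPGroup hres).1
  refine (Subgroup.map_mono h).trans ((Subgroup.le_normalizer_map _).trans (le_of_eq ?_))
  rw [← Fusion.map_pResidual_equiv (Subgroup.subgroupOfEquivOfLe hle), hB, Subgroup.map_map,
    Subgroup.map_map]
  rfl

/-- A `p'`-subgroup `X` centralizing `O_p(M)` with `N_M(X) ≤ N` pushes `O_p` into `M ∩ N`. -/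
theorem pCoreIn_le_of_centralizes {M N X : Subgroup G} (hM : Cfsg.layer M = ⊥) (hXM : X ≤ M)
    (hXc : (Nat.card X).Coprime p) (hc : ⁅pCoreIn p M, X⁆ = ⊥)
    (hP : ⁅pCoreIn p (M ⊓ N), qCoreIn p M⁆ = ⊥)
    (hprim : M ⊓ Subgroup.normalizer (X : Set G) ≤ N) :
    pCoreIn p M ≤ N ∧ pCoreIn p (M ⊓ N) ≤ pCoreIn p M := by
  set D := M ⊓ N with hD
  set P := pCoreIn p D
  set P₁ := pCoreIn p M
  set Q₁ := qCoreIn p M
  have hnP₁ : M ≤ Subgroup.normalizer (P₁ : Set G) := le_normalizer_map_subtype _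
  have hnQ₁ : M ≤ Subgroup.normalizer (Q₁ : Set G) := le_normalizer_qCoreIn _
  have hQX : (Nat.card ↥(Q₁ ⊔ X)).Coprime p := by
    have h1 : X ≤ Subgroup.normalizer (Q₁ : Set G) := hXM.trans hnQ₁
    refine Nat.Coprime.coprime_dvd_left ?_ (hXc.mul_left (coprime_qCoreIn (p := p) M))
    haveI : (Cfsg.pPrimeCore p M ⊓ Cfsg.generalizedFittingSubgroup M).Normal :=
      Subgroup.normal_inf_normal _ _
    have h2 := Cores.card_sup_dvd (X.subgroupOf M)
      (Cfsg.pPrimeCore p M ⊓ Cfsg.generalizedFittingSubgroup M)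
    rw [← Subgroup.card_map_of_injective M.subtype_injective, Subgroup.map_sup,
      map_subgroupOf hXM, sup_comm, Nat.card_congr (Subgroup.subgroupOfEquivOfLe hXM).toEquiv,
      Nat.card_congr ((Cfsg.pPrimeCore p M ⊓
        Cfsg.generalizedFittingSubgroup M).equivMapOfInjective _ M.subtype_injective).toEquiv]
      at h2
    exact h2
  set T := Subgroup.centralizer (Q₁ : Set G) ⊓ M
  have key : ∀ t ∈ T, ∀ k : ℕ, t ^ p ^ k = 1 → t ∈ D := by
    intro t ht k hk
    have hcomm : ∀ x ∈ X, Commute x t := by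
      intro x hx
      have hxM : x ∈ M := hXM hx
      set c := x * t * x⁻¹ * t⁻¹
      have hcM : c ∈ M :=
        M.mul_mem (M.mul_mem (M.mul_mem hxM ht.2) (M.inv_mem hxM)) (M.inv_mem ht.2)
      have hcQ1 : c ∈ Subgroup.centralizer (Q₁ : Set G) := by
        refine Subgroup.mul_mem _ ?_ (Subgroup.inv_mem _ ht.1)
        exact ((Subgroup.mem_normalizer_iff.mp
          (normalizer_le_normalizer_centralizer Q₁ (hnQ₁ hxM))) t).mp ht.1
      have hcP1 : c ∈ Subgroup.centralizer (P₁ : Set G) := by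
        intro z hz
        have hz' : t⁻¹ * z * t ∈ P₁ :=
          ((Subgroup.mem_normalizer_iff''.mp (hnP₁ ht.2)) z).mp hz
        have e1 : z * x = x * z := commute_of_commutator_eq_bot hc hz hx
        have e2 : t⁻¹ * z * t * x = x * (t⁻¹ * z * t) := commute_of_commutator_eq_bot hc hz' hx
        calc z * c = z * x * t * x⁻¹ * t⁻¹ := by simp only [c]; group
          _ = x * t * (t⁻¹ * z * t) * x⁻¹ * t⁻¹ := by rw [e1]; group
          _ = x * t * x⁻¹ * (x * (t⁻¹ * z * t)) * x⁻¹ * t⁻¹ := by group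
          _ = x * t * x⁻¹ * (t⁻¹ * z * t * x) * x⁻¹ * t⁻¹ := by rw [e2]
          _ = c * z := by simp only [c]; group
      have hcF := mem_gFitIn_of_centralizes (p := p) hM hcM hcP1 hcQ1
      have hcQ : c ∈ Q₁ := by
        have hs := gFitIn_le_sup hM (p := p) hcF
        rw [← Subgroup.map_sup] at hs
        obtain ⟨w, hw, hwc⟩ := hs
        obtain ⟨a', ha', b', hb', rfl⟩ := Subgroup.mem_sup_of_normal_left.mp hw
        rw [map_mul] at hwc
        set a : G := M.subtype a'
        set b : G := M.subtype b'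
        have ha : a ∈ P₁ := ⟨a', ha', rfl⟩
        have hb : b ∈ Q₁ := ⟨b', hb', rfl⟩
        have hax : Commute a x⁻¹ := Commute.inv_right (commute_of_commutator_eq_bot hc ha hx)
        have hab : Commute a (x⁻¹ * b) := hax.mul_right
          (congrArg M.subtype (Cores.commute_pCore_pPrimeCore ha' hb'.1).eq :)
        have hy : t * x⁻¹ * t⁻¹ = a * (x⁻¹ * b) := by
          have e : t * x⁻¹ * t⁻¹ = x⁻¹ * c := by simp only [c]; group
          rw [e, ← hwc, ← mul_assoc, ← mul_assoc, hax.eq]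
        have hzero : ∀ z ∈ Q₁ ⊔ X, z ^ Nat.card ↥(Q₁ ⊔ X) = 1 := fun z hz =>
          congrArg Subtype.val (pow_card_eq_one' (x := (⟨z, hz⟩ : ↥(Q₁ ⊔ X))))
        have hm : (a * (x⁻¹ * b)) ^ Nat.card ↥(Q₁ ⊔ X) = 1 := by
          rw [← hy, conj_pow, hzero _ (Subgroup.inv_mem _ (Subgroup.mem_sup_right hx)), mul_one,
            mul_inv_cancel]
        rw [hab.mul_pow, hzero _ (Subgroup.mul_mem _ (Subgroup.inv_mem _
          (Subgroup.mem_sup_right hx)) (Subgroup.mem_sup_left hb)), mul_one] at hm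
        have ha1 : a = 1 := by
          obtain ⟨j, hj⟩ := isPGroup_pCoreIn M ⟨a, ha⟩
          have hj' : a ^ p ^ j = 1 := congrArg Subtype.val hj
          exact orderOf_eq_one_iff.mp (Nat.eq_one_of_dvd_coprimes (hQX.pow_right j)
            (orderOf_dvd_of_pow_eq_one hm) (orderOf_dvd_of_pow_eq_one hj'))
        rw [← hwc, ha1, one_mul]
        exact hb
      have hct : Commute c t := ht.1 c hcQ
      have h2 : x * t * x⁻¹ = c * t := by simp only [c]; group
      have h3 : c ^ p ^ k = 1 := by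
        have := congrArg (· ^ p ^ k) h2
        simp only [conj_pow, hct.mul_pow, hk, mul_one, mul_inv_cancel] at this
        exact this.symm
      have h4 : c = 1 := by
        exact orderOf_eq_one_iff.mp (Nat.eq_one_of_dvd_coprimes
          ((coprime_qCoreIn (p := p) M).pow_right k) (Subgroup.orderOf_dvd_natCard _ hcQ)
          (orderOf_dvd_of_pow_eq_one h3))
      rw [h4, one_mul] at h2
      exact mul_inv_eq_iff_eq_mul.mp h2
    exact ⟨ht.2, hprim ⟨ht.2,
      Subgroup.centralizer_le_normalizer _ fun z hz => (hcomm z hz).eq⟩⟩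
  set U := pElemClosure p T
  have hUD : U ≤ D := (Subgroup.closure_le D).mpr fun t ⟨ht, k, hk⟩ => key t ht k hk
  have hUM : U ≤ M := hUD.trans inf_le_left
  have hP₁U : P₁ ≤ U := le_pElemClosure_of_isPGroup (isPGroup_pCoreIn M)
    (le_inf (by
      rw [← Subgroup.commutator_eq_bot_iff_le_centralizer]
      exact commutator_eq_bot_of_normal_coprime (D := M) (Subgroup.map_subtype_le _)
        (Subgroup.map_subtype_le _) hnP₁ hnQ₁ (isPGroup_pCoreIn M) (coprime_qCoreIn M))
      (Subgroup.map_subtype_le _))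
  refine ⟨hP₁U.trans (hUD.trans inf_le_right), ?_⟩
  have hTM : M ≤ Subgroup.normalizer (T : Set G) :=
    (le_inf (hnQ₁.trans (normalizer_le_normalizer_centralizer Q₁)) Subgroup.le_normalizer).trans
      Subgroup.inf_normalizer_le_normalizer_inf
  have hUn : M ≤ Subgroup.normalizer (U : Set G) :=
    hTM.trans (normalizer_le_normalizer_pElemClosure T)
  have hPD : P ≤ D := Subgroup.map_subtype_le _
  have hPU : P ≤ U := le_pElemClosure_of_isPGroup (isPGroup_pCoreIn D)
    (le_inf (Subgroup.commutator_eq_bot_iff_le_centralizer.mp hP) (hPD.trans inf_le_left))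
  have hsn : (P.subgroupOf M).IsSubnormal := by
    have h1 : (U.subgroupOf M).IsSubnormal :=
      Subgroup.Normal.isSubnormal (Subgroup.normal_subgroupOf_of_le_normalizer hUn)
    refine Subgroup.IsSubnormal.trans (Subgroup.comap_mono hPU) ?_ h1
    refine Subgroup.Normal.isSubnormal (Subgroup.normal_subgroupOf_of_le_normalizer ?_)
    refine le_trans ?_ (Subgroup.le_normalizer_comap _)
    exact Subgroup.comap_mono (hUD.trans (le_normalizer_map_subtype _))
  rw [← map_subgroupOf (hPU.trans hUM)]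
  exact Subgroup.map_mono (Cores.le_pCore_of_isSubnormal hsn (isPGroup_pCoreIn D).comap_subtype)

theorem pCoreIn_le_of_inter {M N : Subgroup G} (hSN : pCoreIn p M ≤ N)
    (hPS : pCoreIn p (M ⊓ N) ≤ pCoreIn p M)
    (hprim : N ⊓ Subgroup.normalizer (pCoreIn p M : Set G) ≤ M) : pCoreIn p N ≤ M := by
  set D := M ⊓ N
  set S := pCoreIn p M
  set R := pCoreIn p N
  set H := R ⊔ S
  have hnR : N ≤ Subgroup.normalizer (R : Set G) := le_normalizer_map_subtype _
  have hHp : IsPGroup p H :=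
    (isPGroup_pCoreIn N).to_sup_of_normal_left' (isPGroup_pCoreIn M) (hSN.trans hnR)
  suffices H ≤ S from (le_sup_left.trans this).trans (Subgroup.map_subtype_le _)
  by_contra hne
  haveI := hHp.isNilpotent
  have hlt : S.subgroupOf H < ⊤ :=
    lt_top_iff_ne_top.mpr fun ht => hne (Subgroup.subgroupOf_eq_top.mp ht)
  have h2 := Group.normalizerCondition_of_isNilpotent _ hlt
  rw [← Subgroup.subgroupOf_normalizer_eq (le_sup_right : S ≤ H)] at h2
  have hHN : H ≤ N := sup_le (Subgroup.map_subtype_le _) hSN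
  have hHD : H ⊓ D ≤ S := by
    refine le_trans ?_ hPS
    rw [← map_subgroupOf (inf_le_right : H ⊓ D ≤ D)]
    refine Subgroup.map_mono (le_pCore (Subgroup.normal_subgroupOf_of_le_normalizer ?_)
      (hHp.to_le inf_le_left).comap_subtype)
    refine (le_inf ?_ Subgroup.le_normalizer).trans Subgroup.inf_normalizer_le_normalizer_inf
    exact (le_inf (inf_le_right.trans hnR) (inf_le_left.trans (le_normalizer_map_subtype _))).trans
      (inf_normalizer_le_normalizer_sup R S)
  refine h2.not_ge fun x hx => Subgroup.mem_subgroupOf.mpr (hHD ⟨x.2, ?_⟩)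
  exact ⟨hprim ⟨hHN x.2, hx⟩, hHN x.2⟩

section TW

variable {M N A₁ B₁ A₂ B₂ : Subgroup G}

theorem subnormal_of_le_core (hBN : B₁ ≤ N) (hnB : N ≤ Subgroup.normalizer (B₁ : Set G))
    (hAB : A₂ ≤ B₁) (hBnA : B₁ ≤ Subgroup.normalizer (A₂ : Set G)) :
    (A₂.subgroupOf N).IsSubnormal :=
  Subgroup.IsSubnormal.trans (Subgroup.comap_mono hAB)
    (Subgroup.Normal.isSubnormal (Subgroup.normal_subgroupOf_of_le_normalizer
      ((Subgroup.comap_mono hBnA).trans (Subgroup.le_normalizer_comap _))))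
    (Subgroup.Normal.isSubnormal (Subgroup.normal_subgroupOf_of_le_normalizer hnB))

/-- The layer of `M` lies in the layer of `N`. -/
theorem layer_le_of_cores (hAB : A₂ ≤ B₁) (hB₁ : B₁ ≤ M ⊓ N)
    (hnB : N ≤ Subgroup.normalizer (B₁ : Set G))
    (hmax : ∀ K : Subgroup G, K ≤ M ⊓ N → N ≤ Subgroup.normalizer (K : Set G) → K ≤ B₁)
    (hA : Subgroup.normalizer (A₂ : Set G) ≤ M) (hB : Subgroup.normalizer (B₂ : Set G) ≤ N)
    (hB₂ : (B₂.subgroupOf M).IsSubnormal) (hB₂D : B₂ ≤ M ⊓ N) :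
    (Cfsg.layer M).map M.subtype ≤ (Cfsg.layer N).map N.subtype := by
  refine Subgroup.map_le_iff_le_comap.mpr (layer_le_iff.mpr fun K hK => ?_)
  rw [← Subgroup.map_le_iff_le_comap]
  set A := K.map M.subtype with hAdef
  have hAqs : Cfsg.IsQuasisimple A := qs_congr (K.equivMapOfInjective _ M.subtype_injective) hK.2
  have hAM : A ≤ M := Subgroup.map_subtype_le _
  have hAN : A ≤ N := by
    rcases component_le_or_commutator_eq_bot hK hB₂ with h | h
    · refine (Subgroup.map_mono h).trans ?_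
      rw [map_subgroupOf (hB₂D.trans inf_le_left)]
      exact hB₂D.trans inf_le_right
    · refine le_trans ?_ hB
      refine le_normalizer_of_commutator_eq_bot ?_
      have h' := congrArg (Subgroup.map M.subtype) h
      rwa [Subgroup.map_commutator, map_subgroupOf (hB₂D.trans inf_le_left),
        Subgroup.map_bot] at h'
  have hAD : A ≤ M ⊓ N := le_inf hAM hAN
  have hsnM : (A.subgroupOf M).IsSubnormal := by
    rw [hAdef, subgroupOf_map_subtype_self]; exact hK.1
  have hsnD : (A.subgroupOf (M ⊓ N)).IsSubnormal :=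
    hsnM.comap (Subgroup.inclusion (inf_le_left : M ⊓ N ≤ M))
  have hAB₁ : A ≤ B₁ := by
    refine (qs_subnormal_le_or_commutator_eq_bot hAqs hAD hsnD hB₁
      (inf_le_right.trans hnB)).elim id fun h => ?_
    have h1 : A ≤ Subgroup.centralizer (B₁ : Set G) ⊓ N :=
      le_inf (Subgroup.commutator_eq_bot_iff_le_centralizer.mp h) hAN
    refine h1.trans (hmax _ (le_inf ?_ inf_le_right) ?_)
    · exact inf_le_left.trans ((Subgroup.centralizer_le hAB).trans
        ((Subgroup.centralizer_le_normalizer _).trans hA))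
    · exact (le_inf (hnB.trans (normalizer_le_normalizer_centralizer B₁))
        Subgroup.le_normalizer).trans Subgroup.inf_normalizer_le_normalizer_inf
  have hsnN : (A.subgroupOf N).IsSubnormal := by
    refine Subgroup.IsSubnormal.trans (Subgroup.comap_mono hAB₁) ?_
      (Subgroup.Normal.isSubnormal (Subgroup.normal_subgroupOf_of_le_normalizer hnB))
    exact hsnD.comap (((N.subtype).comp (B₁.subgroupOf N).subtype).codRestrict (M ⊓ N)
      fun x => hB₁ x.2)
  rw [← map_subgroupOf hAN]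
  exact Subgroup.map_mono (component_le_layer
    ⟨hsnN, qs_congr (Subgroup.subgroupOfEquivOfLe hAN).symm hAqs⟩)

theorem exists_pCoreIn_inf_ne_bot (hE : Cfsg.layer M = ⊥) (hA : A₂ ≤ M) (hA1 : A₂ ≠ ⊥)
    (hn : M ≤ Subgroup.normalizer (A₂ : Set G)) :
    ∃ r : ℕ, r.Prime ∧ pCoreIn r M ⊓ A₂ ≠ ⊥ := by
  have hne : gFitIn M ⊓ A₂ ≠ ⊥ := by
    intro hb
    refine hA1 ?_
    have h1 : ⁅gFitIn M, A₂⁆ = ⊥ := le_bot_iff.mp (hb ▸ le_inf
      (Subgroup.le_normalizer_iff_commutator_le_left.mp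
        (hA.trans (le_normalizer_map_subtype _)))
      (Subgroup.le_normalizer_iff_commutator_le_right.mp
        ((Subgroup.map_subtype_le _).trans hn)))
    have h2 : A₂ ≤ gFitIn M := fun x hx => by
      refine ⟨⟨x, hA hx⟩, centralizer_genFitting_le fun y hy => Subtype.ext ?_, rfl⟩
      exact commute_of_commutator_eq_bot h1 (Subgroup.mem_map_of_mem _ hy) hx
    rwa [inf_eq_right.mpr h2] at hb
  obtain ⟨r, hr, hrd⟩ := Nat.exists_prime_and_dvd
    (fun h => hne (Subgroup.eq_bot_of_card_eq _ h))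
  haveI : Fact r.Prime := ⟨hr⟩
  obtain ⟨y, hy⟩ := exists_prime_orderOf_dvd_card' r hrd
  have hyr : (y : G) ^ r = 1 := by rw [← hy, ← Subgroup.orderOf_coe, pow_orderOf_eq_one]
  refine ⟨r, hr, fun hb => ?_⟩
  have hs := gFitIn_le_sup hE (p := r) y.2.1
  rw [← Subgroup.map_sup] at hs
  obtain ⟨w, hw, hwc⟩ := hs
  obtain ⟨a, ha, b, hb', rfl⟩ := Subgroup.mem_sup_of_normal_left.mp hw
  have hab : (a * b) ^ r = 1 := M.subtype_injective (by rw [map_pow, hwc, hyr, map_one])
  rw [(Cores.commute_pCore_pPrimeCore ha hb'.1).mul_pow] at hab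
  have hbr : b ^ r = 1 := by
    have h1 : b ^ r ∈ Cfsg.pCore r M ⊓ Cfsg.pPrimeCore r M :=
      ⟨by rw [eq_inv_of_mul_eq_one_right hab]
          exact Subgroup.inv_mem _ (Subgroup.pow_mem _ ha r), Subgroup.pow_mem _ hb'.1 r⟩
    rwa [Cores.pCore_inf_pPrimeCore, Subgroup.mem_bot] at h1
  have hb1 : b = 1 := orderOf_eq_one_iff.mp (Nat.eq_one_of_dvd_coprimes
    (Cores.coprime_card_pPrimeCore (p := r) (G := M))
    (Subgroup.orderOf_dvd_natCard _ hb'.1) (orderOf_dvd_of_pow_eq_one hbr))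
  have hyA : (y : G) ∈ pCoreIn r M ⊓ A₂ := ⟨⟨a, ha, by rw [← hwc, hb1, mul_one]⟩, y.2.2⟩
  rw [hb, Subgroup.mem_bot, ← orderOf_eq_one_iff, Subgroup.orderOf_coe, hy] at hyA
  exact hr.ne_one hyA

theorem pCoreIn_inf_le (hBN : B₁ ≤ N) (hnB : N ≤ Subgroup.normalizer (B₁ : Set G))
    (hB₁M : B₁ ≤ M) (hAB : A₂ ≤ B₁) (hn : M ≤ Subgroup.normalizer (A₂ : Set G)) :
    pCoreIn p M ⊓ A₂ ≤ pCoreIn p N := by
  rw [← map_subgroupOf ((inf_le_right.trans hAB).trans hBN : pCoreIn p M ⊓ A₂ ≤ N)]
  refine Subgroup.map_mono (Cores.le_pCore_of_isSubnormal ?_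
    ((isPGroup_pCoreIn M).to_le inf_le_left).comap_subtype)
  refine subnormal_of_le_core hBN hnB (inf_le_right.trans hAB) ?_
  exact hB₁M.trans ((le_inf (le_normalizer_map_subtype _) hn).trans
    Subgroup.inf_normalizer_le_normalizer_inf)

theorem qCoreIn_le_of_pCoreIn (hU : pCoreIn p M ⊓ A₂ ≤ pCoreIn p N)
    (hNU : Subgroup.normalizer ((pCoreIn p M ⊓ A₂ : Subgroup G) : Set G) ≤ M) :
    qCoreIn p N ≤ M := by
  refine le_trans (Subgroup.commutator_eq_bot_iff_le_centralizer.mp ?_)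
    ((Subgroup.centralizer_le hU).trans ((Subgroup.centralizer_le_normalizer _).trans hNU))
  rw [Subgroup.commutator_comm]
  exact commutator_eq_bot_of_normal_coprime (D := N) (Subgroup.map_subtype_le _)
    (Subgroup.map_subtype_le _) (le_normalizer_map_subtype _) (le_normalizer_qCoreIn _)
    (isPGroup_pCoreIn N) (coprime_qCoreIn N)

theorem pCoreIn_le_qCoreIn {q : ℕ} [Fact q.Prime] (hpq : p ≠ q) :
    pCoreIn p M ≤ qCoreIn q M := by
  refine Subgroup.map_mono (le_inf (Cores.le_pPrimeCore ?_)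
    ((pCore_le_fitting p).trans fitting_le_genFitting))
  obtain ⟨k, hk⟩ := IsPGroup.iff_card.mp (isPGroup_pCore p (G := M))
  rw [hk]
  exact ((Nat.coprime_primes Fact.out Fact.out).mpr hpq).pow_left k

theorem gFitIn_le_of_parts (hE : Cfsg.layer M = ⊥) (h1 : pCoreIn p M ≤ N)
    (h2 : qCoreIn p M ≤ N) : gFitIn M ≤ N :=
  (gFitIn_le_sup hE).trans (sup_le h1 h2)

/-- If the primes for the two sides differ, `O_p(N)` also lies in `M`. -/
theorem pCoreIn_le_of_ne {q : ℕ} [Fact q.Prime] (hpq : p ≠ q)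
    (hM : Cfsg.layer M = ⊥) (hNM : qCoreIn p N ≤ M) (hMN : qCoreIn q M ≤ N)
    (hX : Subgroup.normalizer (qCoreIn p N : Set G) ≤ N)
    (hR : Subgroup.normalizer (pCoreIn q N : Set G) ≤ N)
    (hS : Subgroup.normalizer (pCoreIn p M : Set G) ≤ M) : pCoreIn p N ≤ M := by
  set D := M ⊓ N
  set P := pCoreIn p D
  have hSq : pCoreIn p M ≤ qCoreIn q M := pCoreIn_le_qCoreIn hpq
  have hSD : pCoreIn p M ≤ D := le_inf (Subgroup.map_subtype_le _) (hSq.trans hMN)
  have hXD : qCoreIn p N ≤ D := le_inf hNM (Subgroup.map_subtype_le _)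
  have hPD : P ≤ D := Subgroup.map_subtype_le _
  have hc : ⁅pCoreIn p M, qCoreIn p N⁆ = ⊥ :=
    commutator_eq_bot_of_normal_coprime hSD hXD (inf_le_left.trans (le_normalizer_map_subtype _))
      (inf_le_right.trans (le_normalizer_qCoreIn _)) (isPGroup_pCoreIn M) (coprime_qCoreIn N)
  have hRD : pCoreIn q N ≤ D := (pCoreIn_le_qCoreIn hpq.symm).trans hXD
  have hcomm : ∀ A : Subgroup G, A ≤ D → D ≤ Subgroup.normalizer (A : Set G) →
      (Nat.card A).Coprime p → ⁅P, A⁆ = ⊥ := fun A hA hn hA' =>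
    commutator_eq_bot_of_normal_coprime hPD hA (le_normalizer_map_subtype _) hn
      (isPGroup_pCoreIn D) hA'
  have hcq : ∀ {A : Subgroup G}, IsPGroup q A → (Nat.card A).Coprime p := fun {A} hA => by
    obtain ⟨k, hk⟩ := IsPGroup.iff_card.mp hA
    rw [hk]
    exact ((Nat.coprime_primes Fact.out Fact.out).mpr hpq.symm).pow_left k
  set U := pCoreIn q M
  have hPU : P ≤ Subgroup.centralizer (U : Set G) := by
    have hPcop : (Nat.card P).Coprime q := by
      obtain ⟨k, hk⟩ := IsPGroup.iff_card.mp (isPGroup_pCoreIn (p := p) D)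
      rw [hk]
      exact ((Nat.coprime_primes Fact.out Fact.out).mpr hpq).pow_left k
    refine Coprime.thompson_AxB (p := q) (P := pCoreIn q N) (isPGroup_pCoreIn N) hPcop ?_ U
      (isPGroup_pCoreIn M) ((hRD.trans inf_le_left).trans (le_normalizer_map_subtype _))
      ((hPD.trans inf_le_left).trans (le_normalizer_map_subtype _)) ?_
    · rw [← Subgroup.commutator_eq_bot_iff_le_centralizer, Subgroup.commutator_comm]
      exact hcomm _ hRD (inf_le_right.trans (le_normalizer_map_subtype _))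
        (hcq (isPGroup_pCoreIn N))
    · have h1 : U ⊓ Subgroup.centralizer (pCoreIn q N : Set G) ≤ U ⊓ D :=
        le_inf inf_le_left (le_inf (inf_le_left.trans (Subgroup.map_subtype_le _))
          (inf_le_right.trans ((Subgroup.centralizer_le_normalizer _).trans hR)))
      refine h1.trans ?_
      rw [← Subgroup.commutator_eq_bot_iff_le_centralizer, Subgroup.commutator_comm]
      exact hcomm _ inf_le_right ((le_inf (inf_le_left.trans (le_normalizer_map_subtype _))
        Subgroup.le_normalizer).trans Subgroup.inf_normalizer_le_normalizer_inf)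
        (hcq ((isPGroup_pCoreIn M).to_le inf_le_left))
  have hP : ⁅P, qCoreIn p M⁆ = ⊥ := by
    rw [Subgroup.commutator_comm, Subgroup.commutator_eq_bot_iff_le_centralizer]
    intro y hy
    have hs := gFitIn_le_sup hM (p := q) (qCoreIn_le M hy)
    rw [← Subgroup.map_sup] at hs
    obtain ⟨w, hw, rfl⟩ := hs
    obtain ⟨a, ha, b, hb, rfl⟩ := Subgroup.mem_sup_of_normal_left.mp hw
    rw [map_mul] at hy ⊢
    have hbD : M.subtype b ∈ D := ⟨b.2, hMN ⟨b, hb, rfl⟩⟩
    have hbQ : M.subtype b ∈ qCoreIn p M := by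
      have h1 := Subgroup.mul_mem _ (Subgroup.inv_mem _
        (pCoreIn_le_qCoreIn hpq.symm (⟨a, ha, rfl⟩ : M.subtype a ∈ U))) hy
      rwa [inv_mul_cancel_left] at h1
    refine Subgroup.mul_mem _ ?_ ?_
    · exact Subgroup.le_centralizer_iff.mp hPU ⟨a, ha, rfl⟩
    · have h2 := hcomm (qCoreIn p M ⊓ D) inf_le_right
        ((le_inf (inf_le_left.trans (le_normalizer_qCoreIn _)) Subgroup.le_normalizer).trans
          Subgroup.inf_normalizer_le_normalizer_inf)
        ((coprime_qCoreIn M).coprime_dvd_left (Subgroup.card_dvd_of_le inf_le_left))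
      rw [Subgroup.commutator_comm, Subgroup.commutator_eq_bot_iff_le_centralizer] at h2
      exact h2 ⟨hbQ, hbD⟩
  obtain ⟨h1, h2⟩ := pCoreIn_le_of_centralizes hM hNM (coprime_qCoreIn N) hc hP
    (inf_le_right.trans hX)
  exact pCoreIn_le_of_inter h1 h2 (inf_le_right.trans hS)

/-- In the equal prime case, a nontrivial `p'`-part on one side pushes everything into `M ∩ N`. -/
theorem pCoreIn_le_of_eq (hM : Cfsg.layer M = ⊥) (hNM : qCoreIn p N ≤ M) (hMN : qCoreIn p M ≤ N)
    {R : Subgroup G} (hRp : R ≤ pCoreIn p N) (hRM : R ≤ M)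
    (hX : Subgroup.normalizer (qCoreIn p N : Set G) ≤ N)
    (hR : Subgroup.normalizer (R : Set G) ≤ N)
    (hS : Subgroup.normalizer (pCoreIn p M : Set G) ≤ M) :
    pCoreIn p M ≤ N ∧ pCoreIn p N ≤ M := by
  set D := M ⊓ N
  set X := qCoreIn p N
  have hXD : X ≤ D := le_inf hNM (Subgroup.map_subtype_le _)
  have hQD : qCoreIn p M ≤ D := le_inf (Subgroup.map_subtype_le _) hMN
  have hRX : R ≤ Subgroup.centralizer (X : Set G) := hRp.trans
    (Subgroup.commutator_eq_bot_iff_le_centralizer.mp (commutator_eq_bot_of_normal_coprime (D := N)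
      (Subgroup.map_subtype_le _) (Subgroup.map_subtype_le _) (le_normalizer_map_subtype _)
      (le_normalizer_qCoreIn _) (isPGroup_pCoreIn N) (coprime_qCoreIn N)))
  have hc : ⁅pCoreIn p M, X⁆ = ⊥ := by
    rw [Subgroup.commutator_comm, Subgroup.commutator_eq_bot_iff_le_centralizer]
    refine Coprime.thompson_AxB ((isPGroup_pCoreIn N).to_le hRp) (coprime_qCoreIn N) hRX _
      (isPGroup_pCoreIn M) (hRM.trans (le_normalizer_map_subtype _))
      (hNM.trans (le_normalizer_map_subtype _)) ?_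
    have h1 : pCoreIn p M ⊓ Subgroup.centralizer (R : Set G) ≤ pCoreIn p M ⊓ D :=
      le_inf inf_le_left (le_inf (inf_le_left.trans (Subgroup.map_subtype_le _))
        (inf_le_right.trans ((Subgroup.centralizer_le_normalizer _).trans hR)))
    refine h1.trans (Subgroup.commutator_eq_bot_iff_le_centralizer.mp ?_)
    exact commutator_eq_bot_of_normal_coprime inf_le_right hXD
      ((le_inf (inf_le_left.trans (le_normalizer_map_subtype _)) Subgroup.le_normalizer).trans
        Subgroup.inf_normalizer_le_normalizer_inf)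
      (inf_le_right.trans (le_normalizer_qCoreIn _))
      ((isPGroup_pCoreIn M).to_le inf_le_left) (coprime_qCoreIn N)
  obtain ⟨h1, h2⟩ := pCoreIn_le_of_centralizes hM hNM (coprime_qCoreIn N) hc
    (commutator_eq_bot_of_normal_coprime (Subgroup.map_subtype_le _) hQD
      (le_normalizer_map_subtype _) (inf_le_left.trans (le_normalizer_qCoreIn _))
      (isPGroup_pCoreIn _) (coprime_qCoreIn M))
    (inf_le_right.trans hX)
  exact ⟨h1, pCoreIn_le_of_inter h1 h2 (inf_le_right.trans hS)⟩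

theorem isPGroup_core (hne : M ≠ N) (hprimM : ∀ K : Subgroup G, K ≠ ⊥ → K ≤ M →
      M ≤ Subgroup.normalizer (K : Set G) → Subgroup.normalizer (K : Set G) = M)
    (hprimN : ∀ K : Subgroup G, K ≠ ⊥ → K ≤ N →
      N ≤ Subgroup.normalizer (K : Set G) → Subgroup.normalizer (K : Set G) = N)
    (hB₁ : B₁ ≤ M ⊓ N) (hnB : N ≤ Subgroup.normalizer (B₁ : Set G))
    (hmax : ∀ K : Subgroup G, K ≤ M ⊓ N → N ≤ Subgroup.normalizer (K : Set G) → K ≤ B₁)
    (hAB : A₂ ≤ B₁) (hA : M ≤ Subgroup.normalizer (A₂ : Set G))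
    (hR : pCoreIn p N ≠ ⊥) (hcard : Nat.card (pCoreIn p M) = Nat.card (pCoreIn p N)) :
    IsPGroup p A₂ := by
  set X := (Cfsg.pResidual p A₂).map A₂.subtype
  by_cases hX : X = ⊥
  · exact Cores.pResidual_eq_bot_iff.mp
      ((Subgroup.map_eq_bot_iff_of_injective _ A₂.subtype_injective).mp hX)
  exfalso
  have hA₂M : A₂ ≤ M := hAB.trans (hB₁.trans inf_le_left)
  have hA₂N : A₂ ≤ N := hAB.trans (hB₁.trans inf_le_right)
  have hB₁A : B₁ ≤ Subgroup.normalizer (A₂ : Set G) := hB₁.trans (inf_le_left.trans hA)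
  have hNX : Subgroup.normalizer (X : Set G) = M := hprimM X hX
    ((Subgroup.map_subtype_le _).trans hA₂M) (le_normalizer_map_characteristic _ hA)
  set D := M ⊓ N
  set R := pCoreIn p N
  set P := pCoreIn p D
  have hRD : R ≤ D := le_inf ((pCoreIn_le_normalizer_residual hA₂N
    (subnormal_of_le_core (hB₁.trans inf_le_right) hnB hAB hB₁A)).trans hNX.le)
    (Subgroup.map_subtype_le _)
  have hPB : P ≤ B₁ := by
    have hcore : P.subgroupOf N ≤ (D.subgroupOf N).normalCore := by
      intro g hg m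
      set c := (MulAut.conj (m : G)⁻¹).toMonoidHom
      have hS : A₂.map c ≤ B₁ := by
        refine (Subgroup.map_mono hAB).trans (le_of_eq ?_)
        exact map_conj_eq_of_mem_normalizer (hnB (N.inv_mem m.2))
      have hsn : ((A₂.map c).subgroupOf D).IsSubnormal := by
        refine subnormal_of_le_core hB₁ (inf_le_right.trans hnB) hS ?_
        have h1 : B₁.map c ≤ Subgroup.normalizer (A₂.map c : Set G) :=
          (Subgroup.map_mono hB₁A).trans (Subgroup.le_normalizer_map _)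
        rwa [map_conj_eq_of_mem_normalizer (hnB (N.inv_mem m.2))] at h1
      have h2 := pCoreIn_le_normalizer_residual (p := p) (hS.trans hB₁) hsn hg
      have hXc : (Cfsg.pResidual p ↥(A₂.map c)).map (A₂.map c).subtype = X.map c := by
        rw [← Fusion.map_pResidual_equiv (A₂.equivMapOfInjective c (MulAut.conj _).injective),
          Subgroup.map_map, Subgroup.map_map]
        rfl
      rw [hXc] at h2
      have h3 : MulAut.conj (m : G) (g : G) ∈ Subgroup.normalizer (X : Set G) := by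
        have h4 := (Subgroup.le_normalizer_map (MulAut.conj (m : G)).toMonoidHom
          (H := X.map c)) (Subgroup.mem_map_of_mem _ h2)
        have h5 : (X.map c).map (MulAut.conj (m : G)).toMonoidHom = X := by
          rw [Subgroup.map_map]
          convert Subgroup.map_id X using 2
          ext x
          simp [c, mul_assoc]
        rwa [h5] at h4
      rw [hNX] at h3
      exact Subgroup.mem_subgroupOf.mpr ⟨by simpa using h3, (m * g * m⁻¹).2⟩
    have hK : ((D.subgroupOf N).normalCore).map N.subtype ≤ B₁ :=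
      hmax _ ((Subgroup.map_mono (Subgroup.normalCore_le _)).trans
        (Subgroup.map_subgroupOf_eq_of_le inf_le_right).le) (le_normalizer_map_subtype _)
    exact (map_subgroupOf ((Subgroup.map_subtype_le _).trans inf_le_right : P ≤ N)).symm.le.trans
      ((Subgroup.map_mono hcore).trans hK)
  have hPR : P ≤ R := by
    rw [← map_subgroupOf (hPB.trans (hB₁.trans inf_le_right))]
    exact Subgroup.map_mono (Cores.le_pCore_of_isSubnormal
      (subnormal_of_le_core (hB₁.trans inf_le_right) hnB hPB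
        (hB₁.trans (le_normalizer_map_subtype _))) (isPGroup_pCoreIn D).comap_subtype)
  have hSN : pCoreIn p M ≤ N := pCoreIn_le_of_inter (hRD.trans inf_le_left)
    (by rw [inf_comm]; exact hPR) (inf_le_right.trans
      (hprimN R hR (Subgroup.map_subtype_le _) (le_normalizer_map_subtype _)).le)
  have hSR : pCoreIn p M ≤ R := by
    refine le_trans ?_ hPR
    rw [← map_subgroupOf (le_inf (Subgroup.map_subtype_le _) hSN : pCoreIn p M ≤ D)]
    exact Subgroup.map_mono (le_pCore (Subgroup.normal_subgroupOf_of_le_normalizer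
      (inf_le_left.trans (le_normalizer_map_subtype _))) (isPGroup_pCoreIn M).comap_subtype)
  have heq : pCoreIn p M = R := Subgroup.eq_of_le_of_card_ge hSR hcard.ge
  refine hne ?_
  rw [← hprimM R hR (heq ▸ Subgroup.map_subtype_le _) (heq ▸ le_normalizer_map_subtype _)]
  exact hprimN R hR (Subgroup.map_subtype_le _) (le_normalizer_map_subtype _)

/-- The Thompson-Wielandt theorem. -/
theorem thompson_wielandt (hne : M ≠ N)
    (hprimM : ∀ K : Subgroup G, K ≠ ⊥ → K ≤ M →
      M ≤ Subgroup.normalizer (K : Set G) → Subgroup.normalizer (K : Set G) = M)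
    (hprimN : ∀ K : Subgroup G, K ≠ ⊥ → K ≤ N →
      N ≤ Subgroup.normalizer (K : Set G) → Subgroup.normalizer (K : Set G) = N)
    (hA₁ : A₁ ≤ M ⊓ N) (hnA₁ : M ≤ Subgroup.normalizer (A₁ : Set G))
    (hmaxA : ∀ K : Subgroup G, K ≤ M ⊓ N → M ≤ Subgroup.normalizer (K : Set G) → K ≤ A₁)
    (hB₁ : B₁ ≤ M ⊓ N) (hnB₁ : N ≤ Subgroup.normalizer (B₁ : Set G))
    (hmaxB : ∀ K : Subgroup G, K ≤ M ⊓ N → N ≤ Subgroup.normalizer (K : Set G) → K ≤ B₁)
    (hA₂ : A₂ ≤ A₁ ⊓ B₁) (hnA₂ : M ≤ Subgroup.normalizer (A₂ : Set G)) (hA₂' : A₂ ≠ ⊥)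
    (hB₂ : B₂ ≤ A₁ ⊓ B₁) (hnB₂ : N ≤ Subgroup.normalizer (B₂ : Set G)) (hB₂' : B₂ ≠ ⊥)
    (hcard : ∀ r : ℕ, Nat.card (pCoreIn r M) = Nat.card (pCoreIn r N)) :
    ∃ p : ℕ, p.Prime ∧ IsPGroup p ↥(A₂ ⊔ B₂) ∧
      Cfsg.generalizedFittingSubgroup M = Cfsg.pCore p M ∧
      Cfsg.generalizedFittingSubgroup A₁ = Cfsg.pCore p A₁ ∧
      Cfsg.generalizedFittingSubgroup N = Cfsg.pCore p N ∧
      Cfsg.generalizedFittingSubgroup B₁ = Cfsg.pCore p B₁ := by
  have hA₂A := hA₂.trans inf_le_left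
  have hA₂B := hA₂.trans inf_le_right
  have hB₂A := hB₂.trans inf_le_left
  have hB₂B := hB₂.trans inf_le_right
  have hA₁M := hA₁.trans inf_le_left
  have hB₁N := hB₁.trans inf_le_right
  have hNA₂ := hprimM A₂ hA₂' (hA₂A.trans hA₁M) hnA₂
  have hNB₂ := hprimN B₂ hB₂' (hB₂B.trans hB₁N) hnB₂
  have hsA : (A₂.subgroupOf N).IsSubnormal :=
    subnormal_of_le_core hB₁N hnB₁ hA₂B (hB₁.trans (inf_le_left.trans hnA₂))
  have hsB : (B₂.subgroupOf M).IsSubnormal :=
    subnormal_of_le_core hA₁M hnA₁ hB₂A (hA₁.trans (inf_le_right.trans hnB₂))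
  have hEle : (Cfsg.layer M).map M.subtype ≤ (Cfsg.layer N).map N.subtype :=
    layer_le_of_cores hA₂B hB₁ hnB₁ hmaxB hNA₂.le hNB₂.le hsB (hB₂A.trans hA₁)
  have hEge : (Cfsg.layer N).map N.subtype ≤ (Cfsg.layer M).map M.subtype :=
    layer_le_of_cores (M := N) (N := M) hB₂A (by rwa [inf_comm]) hnA₁
      (by rwa [inf_comm]) hNB₂.le hNA₂.le hsA (by rw [inf_comm]; exact hA₂B.trans hB₁)
  have hEeq := le_antisymm hEle hEge
  have hEM : (Cfsg.layer M).map M.subtype = ⊥ := by
    by_contra hb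
    refine hne ((hprimM _ hb (Subgroup.map_subtype_le _) (le_normalizer_map_subtype _)).symm.trans
      (hprimN _ hb (hEeq ▸ Subgroup.map_subtype_le _) ?_))
    rw [hEeq]
    exact le_normalizer_map_subtype _
  have hEN : (Cfsg.layer N).map N.subtype = ⊥ := hEeq ▸ hEM
  have hEM' := (Subgroup.map_eq_bot_iff_of_injective _ M.subtype_injective).mp hEM
  have hEN' := (Subgroup.map_eq_bot_iff_of_injective _ N.subtype_injective).mp hEN
  obtain ⟨p, hp, hU⟩ := exists_pCoreIn_inf_ne_bot hEM' (hA₂A.trans hA₁M) hA₂' hnA₂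
  obtain ⟨q, hq, hV⟩ := exists_pCoreIn_inf_ne_bot hEN' (hB₂B.trans hB₁N) hB₂' hnB₂
  haveI : Fact p.Prime := ⟨hp⟩
  haveI : Fact q.Prime := ⟨hq⟩
  have hUN := pCoreIn_inf_le (p := p) hB₁N hnB₁ (hB₁.trans inf_le_left) hA₂B hnA₂
  have hVM := pCoreIn_inf_le (p := q) (M := N) (N := M) hA₁M hnA₁ (hA₁.trans inf_le_right)
    hB₂A hnB₂
  have hNU := hprimM _ hU (inf_le_left.trans (Subgroup.map_subtype_le _))
    ((le_inf (le_normalizer_map_subtype _) hnA₂).trans Subgroup.inf_normalizer_le_normalizer_inf)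
  have hNV := hprimN _ hV (inf_le_left.trans (Subgroup.map_subtype_le _))
    ((le_inf (le_normalizer_map_subtype _) hnB₂).trans Subgroup.inf_normalizer_le_normalizer_inf)
  have hQN : qCoreIn p N ≤ M := qCoreIn_le_of_pCoreIn hUN hNU.le
  have hQM : qCoreIn q M ≤ N := qCoreIn_le_of_pCoreIn hVM hNV.le
  have hpM : pCoreIn p M ≠ ⊥ := fun h => hU (by rw [h, bot_inf_eq])
  have hqN : pCoreIn q N ≠ ⊥ := fun h => hV (by rw [h, bot_inf_eq])
  have hpN : pCoreIn p N ≠ ⊥ := fun h => hU (le_bot_iff.mp (h ▸ hUN))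
  have hqM : pCoreIn q M ≠ ⊥ := fun h => hV (le_bot_iff.mp (h ▸ hVM))
  have hbender : gFitIn M ≤ N → gFitIn N ≤ M → ∃ r : ℕ, r.Prime ∧
      Cfsg.generalizedFittingSubgroup M = Cfsg.pCore r M ∧
      Cfsg.generalizedFittingSubgroup N = Cfsg.pCore r N :=
    fun h1 h2 => primitive_pair hne
      (fun K a b c => by rw [hprimM K a (b.trans inf_le_left) c, inf_comm])
      (fun K a b c => by rw [hprimN K a (b.trans inf_le_right) c]) h1 h2
  have hnormp : ∀ (r : ℕ), pCoreIn r M ≠ ⊥ →
      Subgroup.normalizer (pCoreIn r M : Set G) ≤ M := fun r h =>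
    (hprimM _ h (Subgroup.map_subtype_le _) (le_normalizer_map_subtype _)).le
  have hnormp' : ∀ (r : ℕ), pCoreIn r N ≠ ⊥ →
      Subgroup.normalizer (pCoreIn r N : Set G) ≤ N := fun r h =>
    (hprimN _ h (Subgroup.map_subtype_le _) (le_normalizer_map_subtype _)).le
  have hnormq : ∀ (r : ℕ) [Fact r.Prime], qCoreIn r M ≠ ⊥ →
      Subgroup.normalizer (qCoreIn r M : Set G) ≤ M := fun r _ h =>
    (hprimM _ h (Subgroup.map_subtype_le _) (le_normalizer_qCoreIn _)).le
  have hnormq' : ∀ (r : ℕ) [Fact r.Prime], qCoreIn r N ≠ ⊥ →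
      Subgroup.normalizer (qCoreIn r N : Set G) ≤ N := fun r _ h =>
    (hprimN _ h (Subgroup.map_subtype_le _) (le_normalizer_qCoreIn _)).le
  have hdisj : ∀ {r : ℕ} [Fact r.Prime] {K : Subgroup G} {s : ℕ} [Fact s.Prime],
      Cfsg.generalizedFittingSubgroup K = Cfsg.pCore r K → pCoreIn s K ≠ ⊥ → s = r := by
    intro r _ K s _ hF hs
    by_contra hsr
    refine hs (le_bot_iff.mp ?_)
    rw [← Cores.disjoint_of_isPGroup_of_coprime (isPGroup_pCoreIn (p := r) K)
      (coprime_qCoreIn (p := r) K)]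
    refine le_inf ?_ (pCoreIn_le_qCoreIn hsr)
    exact (pCoreIn_le K).trans (Subgroup.map_mono hF.le)
  have hpq : p = q := by
    by_contra hpq
    have h1 : pCoreIn p N ≤ M := pCoreIn_le_of_ne hpq hEM' hQN hQM
      (hnormq' p fun h => hqN (le_bot_iff.mp (h ▸ pCoreIn_le_qCoreIn (Ne.symm hpq))))
      (hnormp' q hqN) (hnormp p hpM)
    have h2 : pCoreIn q M ≤ N := pCoreIn_le_of_ne (M := N) (N := M) (Ne.symm hpq) hEN' hQM hQN
      (hnormq q fun h => hpM (le_bot_iff.mp (h ▸ pCoreIn_le_qCoreIn hpq)))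
      (hnormp p hpM) (hnormp' q hqN)
    obtain ⟨r, hr, e1, e2⟩ := hbender (gFitIn_le_of_parts hEM' h2 hQM)
      (gFitIn_le_of_parts hEN' h1 hQN)
    haveI : Fact r.Prime := ⟨hr⟩
    exact hpq ((hdisj e1 hpM).trans (hdisj e2 hqN).symm)
  subst hpq
  have hFN : Cfsg.generalizedFittingSubgroup N = Cfsg.pCore p N ∧
      Cfsg.generalizedFittingSubgroup M = Cfsg.pCore p M := by
    have hmain : qCoreIn p N = ⊥ ∧ qCoreIn p M = ⊥ := by
      by_contra hb
      have h12 : pCoreIn p M ≤ N ∧ pCoreIn p N ≤ M := by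
        rcases not_and_or.mp hb with h | h
        · exact pCoreIn_le_of_eq hEM' hQN hQM inf_le_left
            (inf_le_right.trans (hB₂A.trans hA₁M)) (hnormq' p h) hNV.le (hnormp p hpM)
        · exact (pCoreIn_le_of_eq (M := N) (N := M) hEN' hQM hQN inf_le_left
            (inf_le_right.trans (hA₂B.trans hB₁N)) (hnormq p h) hNU.le (hnormp' p hpN)).symm
      obtain ⟨r, hr, e1, e2⟩ := hbender (gFitIn_le_of_parts hEM' h12.1 hQM)
        (gFitIn_le_of_parts hEN' h12.2 hQN)
      haveI : Fact r.Prime := ⟨hr⟩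
      obtain rfl := hdisj e1 hpM
      refine hb ⟨?_, ?_⟩
      · rw [← le_bot_iff, ← Cores.disjoint_of_isPGroup_of_coprime
          (isPGroup_pCoreIn (p := p) N) (coprime_qCoreIn (p := p) N)]
        exact le_inf ((qCoreIn_le N).trans (Subgroup.map_mono e2.le)) le_rfl
      · rw [← le_bot_iff, ← Cores.disjoint_of_isPGroup_of_coprime
          (isPGroup_pCoreIn (p := p) M) (coprime_qCoreIn (p := p) M)]
        exact le_inf ((qCoreIn_le M).trans (Subgroup.map_mono e1.le)) le_rfl
    have conc : ∀ {K : Subgroup G}, Cfsg.layer K = ⊥ → qCoreIn p K = ⊥ →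
        Cfsg.generalizedFittingSubgroup K = Cfsg.pCore p K := by
      intro K hE hq'
      have h := gFitIn_le_sup (p := p) hE
      rw [hq', sup_bot_eq] at h
      exact le_antisymm ((Subgroup.map_le_map_iff_of_injective K.subtype_injective).mp h)
        ((pCore_le_fitting p).trans fitting_le_genFitting)
    exact ⟨conc hEN' hmain.1, conc hEM' hmain.2⟩
  have hsub : ∀ {K L : Subgroup G}, L ≤ K → K ≤ Subgroup.normalizer (L : Set G) →
      Cfsg.generalizedFittingSubgroup K = Cfsg.pCore p K →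
      Cfsg.generalizedFittingSubgroup L = Cfsg.pCore p L := fun hle hn hK =>
    (genFitting_eq_pCore_congr (Subgroup.subgroupOfEquivOfLe hle)).mp
      (genFitting_eq_pCore_of_isSubnormal (Subgroup.Normal.isSubnormal
        (Subgroup.normal_subgroupOf_of_le_normalizer hn)) hK)
  have hpA : IsPGroup p A₂ := isPGroup_core hne hprimM hprimN hB₁ hnB₁ hmaxB hA₂B hnA₂ hpN
    (hcard p)
  have hpB : IsPGroup p B₂ := isPGroup_core (M := N) (N := M) (Ne.symm hne) hprimN hprimM
    (by rwa [inf_comm]) hnA₁ (by rwa [inf_comm]) hB₂A hnB₂ hpM (hcard p).symm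
  exact ⟨p, hp, hpA.to_sup_of_normal_left' hpB ((hB₂A.trans hA₁M).trans hnA₂), hFN.2,
    hsub hA₁M hnA₁ hFN.2, hFN.1, hsub hB₁N hnB₁ hFN.1⟩

end TW

end Cfsg.Agent.Components
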