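import Mathlib

/-!
# The transfer along orbits of a subgroup

The transfer computed with an arbitrary section, its decomposition along the orbits of a subgroup
`R` on `G ⧸ H`, and its transitivity.
-/

set_option autoImplicit false
set_option linter.style.haveILetI false

namespace Cfsg.Agent.Components.TransferOrbit

open Subgroup MulAction

variable {G : Type*} [Group G] [Finite G] {A : Type*} [CommGroup A]

omit [Finite G] in
theorem cocycle_mem {H : Subgroup G} (s : G ⧸ H → G) (hs : ∀ q, (s q : G ⧸ H) = q) (g : G)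
    (q : G ⧸ H) : (s (g • q))⁻¹ * (g * s q) ∈ H := by
  rw [← QuotientGroup.eq, hs]
  nth_rw 1 [← hs q]
  rfl

open Classical in
/-- A homomorphism on a subgroup, extended by `1`. -/
noncomputable def ext1 {H : Subgroup G} (φ : H →* A) (x : G) : A :=
  if h : x ∈ H then φ ⟨x, h⟩ else 1

omit [Finite G] in
theorem ext1_mem {H : Subgroup G} (φ : H →* A) {x : G} (h : x ∈ H) : ext1 φ x = φ ⟨x, h⟩ :=
  dif_pos h

theorem transfer_eq_prod {H : Subgroup G} [Fintype (G ⧸ H)] (φ : H →* A) (s : G ⧸ H → G)
    (hs : ∀ q, (s q : G ⧸ H) = q) (g : G) :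
    MonoidHom.transfer φ g = ∏ q : G ⧸ H, ext1 φ ((s (g • q))⁻¹ * (g * s q)) := by
  let T : H.LeftTransversal := ⟨Set.range s, isComplement_range_left hs⟩
  obtain rfl : ‹Fintype (G ⧸ H)› = H.fintypeQuotientOfFiniteIndex := Subsingleton.elim _ _
  rw [MonoidHom.transfer_def φ T g, leftTransversals.diff]
  letI := H.fintypeQuotientOfFiniteIndex
  rw [← Equiv.prod_comp (MulAction.toPerm g : Equiv.Perm (G ⧸ H))]
  refine Finset.prod_congr rfl fun q _ => ?_
  rw [ext1_mem φ (cocycle_mem s hs g q)]
  congr 1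
  apply Subtype.ext
  simp only [smul_apply_eq_smul_apply_inv_smul,
    IsComplement.leftQuotientEquiv_apply (hf := hs) (f := s), T, smul_eq_mul]
  simp [MulAction.toPerm_apply]

/-- The transfer into the commutative group is transitive. -/
theorem transfer_trans {H M : Subgroup G} (h : H ≤ M) (φ : H →* A) :
    MonoidHom.transfer φ =
      MonoidHom.transfer
        (MonoidHom.transfer (φ.comp (subgroupOfEquivOfLe h).toMonoidHom)) := by
  classical
  ext g
  letI := Fintype.ofFinite (G ⧸ H)
  letI := Fintype.ofFinite (G ⧸ M)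
  letI := Fintype.ofFinite (M ⧸ H.subgroupOf M)
  set φ' := φ.comp (subgroupOfEquivOfLe h).toMonoidHom
  let e : (G ⧸ M) × (M ⧸ H.subgroupOf M) → G ⧸ H :=
    fun bc => (bc.1.out * (bc.2.out : G) : G)
  have hinj : Function.Injective e := by
    rintro ⟨b, c⟩ ⟨b', c'⟩ he
    have he' := QuotientGroup.eq.mp he
    have hb : b = b' := by
      rw [← QuotientGroup.out_eq' b, ← QuotientGroup.out_eq' b', QuotientGroup.eq]
      have := mul_mem (mul_mem c.out.2 (h he')) (inv_mem c'.out.2)
      simpa [mul_assoc] using this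
    subst hb
    refine Prod.ext rfl ?_
    change c = c'
    rw [← QuotientGroup.out_eq' c, ← QuotientGroup.out_eq' c', QuotientGroup.eq]
    simpa [mem_subgroupOf, mul_assoc] using he'
  have hbij : Function.Bijective e := (Fintype.bijective_iff_injective_and_card e).mpr
    ⟨hinj, by rw [Fintype.card_congr (quotientEquivProdOfLE h)]⟩
  let e' := Equiv.ofBijective e hbij
  let s : G ⧸ H → G := fun q => (e'.symm q).1.out * ((e'.symm q).2.out : G)
  have hs : ∀ q, (s q : G ⧸ H) = q := fun q => e'.apply_symm_apply q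
  rw [transfer_eq_prod φ s hs, transfer_eq_prod _ Quotient.out (fun q => QuotientGroup.out_eq' q),
    ← e'.prod_comp, Fintype.prod_prod_type]
  refine Finset.prod_congr rfl fun b _ => ?_
  have hm := cocycle_mem (H := M) Quotient.out (fun q => QuotientGroup.out_eq' q) g b
  rw [ext1_mem _ hm, transfer_eq_prod φ' Quotient.out (fun q => QuotientGroup.out_eq' q)]
  refine Finset.prod_congr rfl fun c _ => ?_
  set m : M := ⟨_, hm⟩ with hmdef
  have hgc : g • e' (b, c) = e' (g • b, m • c) := by
    change ((g * (b.out * (c.out : G)) : G) : G ⧸ H) = (((g • b).out * ((m • c).out : G) : G) : G ⧸ H)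
    rw [QuotientGroup.eq]
    have h1 := cocycle_mem (H := H.subgroupOf M) Quotient.out (fun q => QuotientGroup.out_eq' q) m c
    rw [mem_subgroupOf] at h1
    simpa [hmdef, mul_assoc] using inv_mem h1
  have h1 := cocycle_mem (H := H.subgroupOf M) Quotient.out (fun q => QuotientGroup.out_eq' q) m c
  rw [ext1_mem φ' h1, ext1_mem φ (cocycle_mem s hs g _)]
  change φ _ = φ _
  congr 1
  apply Subtype.ext
  simp only [s, hgc, Equiv.symm_apply_apply]
  simp [hmdef, mul_assoc, subgroupOfEquivOfLe]

/-- The homomorphism `k ↦ φ (u⁻¹ k u)` on the stabilizer in `R` of the point `u H`. -/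
noncomputable def stabHom {H : Subgroup G} (φ : H →* A) (R : Subgroup G) (u : G) :
    MulAction.stabilizer R (u : G ⧸ H) →* A :=
  φ.comp
    { toFun := fun k => ⟨u⁻¹ * ((k : R) : G) * u, by
        have := k.2
        rw [MulAction.mem_stabilizer_iff] at this
        have h2 : (((k : R) : G) * u : G ⧸ H) = (u : G ⧸ H) := this
        simpa [mul_assoc] using QuotientGroup.eq.mp h2.symm⟩
      map_one' := by ext; simp
      map_mul' := fun a b => by ext; simp [mul_assoc] }

/-- **Mackey decomposition**: on `R` the transfer is the product, over the orbits of `R` on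
`G ⧸ H`, of transfers from the stabilizers. -/
theorem transfer_eq_prod_orbits {H : Subgroup G} (φ : H →* A) (R : Subgroup G) (t : R)
    [Fintype (Quotient (orbitRel R (G ⧸ H)))] (u : Quotient (orbitRel R (G ⧸ H)) → G)
    (hu : ∀ o, Quotient.mk (orbitRel R (G ⧸ H)) (u o : G ⧸ H) = o) :
    MonoidHom.transfer φ (t : G) =
      ∏ o : Quotient (orbitRel R (G ⧸ H)), MonoidHom.transfer (stabHom φ R (u o)) t := by
  classical
  letI := Fintype.ofFinite (G ⧸ H)
  letI : ∀ o, Fintype (R ⧸ MulAction.stabilizer R (u o : G ⧸ H)) := fun o => Fintype.ofFinite _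
  let e : (Σ o : Quotient (orbitRel R (G ⧸ H)), R ⧸ MulAction.stabilizer R (u o : G ⧸ H)) →
      G ⧸ H := fun oc => ((oc.2.out : G) * u oc.1 : G)
  have hbij : Function.Bijective e := by
    constructor
    · rintro ⟨o, c⟩ ⟨o', c'⟩ he
      have he' : c.out • (u o : G ⧸ H) = c'.out • (u o' : G ⧸ H) := he
      obtain rfl : o = o' := by
        rw [← hu o, ← hu o']
        refine Quotient.sound ?_
        exact ⟨c.out⁻¹ * c'.out, by
          change (c.out⁻¹ * c'.out) • (u o' : G ⧸ H) = _
          rw [mul_smul, ← he', inv_smul_smul]⟩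
      refine Sigma.ext rfl (heq_of_eq ?_)
      change c = c'
      rw [← QuotientGroup.out_eq' c, ← QuotientGroup.out_eq' c', QuotientGroup.eq,
        MulAction.mem_stabilizer_iff, mul_smul, ← he', inv_smul_smul]
    · intro x
      set o := Quotient.mk (orbitRel R (G ⧸ H)) x
      obtain ⟨r, hr⟩ : x ∈ MulAction.orbit R (u o : G ⧸ H) := Quotient.exact (hu o).symm
      refine ⟨⟨o, (r : R ⧸ _)⟩, ?_⟩
      obtain ⟨k, hk⟩ := QuotientGroup.mk_out_eq_mul (MulAction.stabilizer R (u o : G ⧸ H)) r
      change (r : R ⧸ MulAction.stabilizer R (u o : G ⧸ H)).out • (u o : G ⧸ H) = x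
      rw [hk, mul_smul, MulAction.mem_stabilizer_iff.mp k.2]
      exact hr
  let e' := Equiv.ofBijective e hbij
  let s : G ⧸ H → G := fun q => ((e'.symm q).2.out : G) * u (e'.symm q).1
  have hs : ∀ q, (s q : G ⧸ H) = q := fun q => e'.apply_symm_apply q
  rw [transfer_eq_prod φ s hs, ← e'.prod_comp, Fintype.prod_sigma]
  refine Finset.prod_congr rfl fun o _ => ?_
  rw [transfer_eq_prod _ Quotient.out (fun q => QuotientGroup.out_eq' q)]
  refine Finset.prod_congr rfl fun c _ => ?_
  have h1 := cocycle_mem (H := MulAction.stabilizer R (u o : G ⧸ H)) Quotient.out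
    (fun q => QuotientGroup.out_eq' q) t c
  have hgc : (t : G) • e' ⟨o, c⟩ = e' ⟨o, t • c⟩ := by
    change t • (c.out • (u o : G ⧸ H)) = (t • c).out • (u o : G ⧸ H)
    have := MulAction.mem_stabilizer_iff.mp h1
    rw [mul_smul, mul_smul, inv_smul_eq_iff] at this
    exact this
  rw [ext1_mem _ h1, ext1_mem φ (cocycle_mem s hs _ _)]
  change φ _ = φ _
  congr 1
  apply Subtype.ext
  have key : ∀ oc, s (e' oc) = (oc.2.out : G) * u oc.1 := fun oc => by
    change (fun p : Σ o, R ⧸ MulAction.stabilizer R (u o : G ⧸ H) => (p.2.out : G) * u p.1)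
      (e'.symm (e' oc)) = _
    rw [e'.symm_apply_apply]
  simp only [hgc, key]
  simp [mul_assoc]

/-- If `H` is everything, the transfer is `φ` itself. -/
theorem transfer_of_subsingleton {H : Subgroup G} [Subsingleton (G ⧸ H)] (φ : H →* A) (g : G)
    (hg : g ∈ H) : MonoidHom.transfer φ g = φ ⟨g, hg⟩ := by
  letI := Fintype.ofFinite (G ⧸ H)
  rw [transfer_eq_prod φ (fun _ => 1) (fun q => Subsingleton.elim _ _),
    Fintype.prod_subsingleton _ ((1 : G) : G ⧸ H)]
  simp [ext1_mem φ hg]

/-- The transfer takes its values in the subgroup generated by the values of `φ`. -/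
theorem transfer_mem_range {H : Subgroup G} (φ : H →* A) (g : G) :
    MonoidHom.transfer φ g ∈ φ.range := by
  letI := Fintype.ofFinite (G ⧸ H)
  rw [transfer_eq_prod φ Quotient.out (fun q => QuotientGroup.out_eq' q)]
  refine Subgroup.prod_mem _ fun q _ => ?_
  rw [ext1_mem φ (cocycle_mem Quotient.out (fun q => QuotientGroup.out_eq' q) g q)]
  exact ⟨_, rfl⟩

end Cfsg.Agent.Components.TransferOrbit
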